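import Cfsg.Agent.ThreeTransposition.Dihedral
import Cfsg.Prelude.Def_SporadicB

/-!
Sets of 3-transpositions: pairs, triples, centralisers.
-/

namespace Cfsg.Lib.ThreeTr

open Cfsg

variable {G : Type*} [Group G] {E : Set G}

theorem sq_eq_one (hE : IsThreeTranspositionSet E) {a : G} (ha : a ∈ E) : a * a = 1 :=
  mul_self_of_orderOf_two (hE.1 a ha)

theorem inv_eq (hE : IsThreeTranspositionSet E) {a : G} (ha : a ∈ E) : a⁻¹ = a :=
  inv_eq_self_of_mul_self (sq_eq_one hE ha)

theorem commute_iff_sq {a b : G} (ha : a * a = 1) (hb : b * b = 1) : Commute a b ↔ (a * b) ^ 2 = 1 := by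
  constructor
  · intro h; rw [h.mul_pow, sq, sq, ha, hb, mul_one]
  · intro h
    have h' : (a * b) * (a * b) = 1 := by rwa [sq] at h
    have := inv_eq_of_mul_eq_one_right h'
    rw [mul_inv_rev, inv_eq_self_of_mul_self ha, inv_eq_self_of_mul_self hb] at this
    exact this.symm

theorem cube_of_not_commute (hE : IsThreeTranspositionSet E) {a b : G} (ha : a ∈ E) (hb : b ∈ E)
    (h : ¬ Commute a b) : (a * b) ^ 3 = 1 :=
  (hE.2 a ha b hb).resolve_left fun h' => h ((commute_iff_sq (sq_eq_one hE ha) (sq_eq_one hE hb)).mpr h')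

theorem orderOf_of_not_commute (hE : IsThreeTranspositionSet E) {a b : G} (ha : a ∈ E) (hb : b ∈ E)
    (h : ¬ Commute a b) : orderOf (a * b) = 3 := by
  refine orderOf_eq_prime (p := 3) (hp := ⟨by norm_num⟩) (cube_of_not_commute hE ha hb h) fun h1 => h ?_
  rw [mul_eq_one_iff_eq_inv, inv_eq hE hb] at h1
  exact h1 ▸ Commute.refl a

theorem braid (hE : IsThreeTranspositionSet E) {a b : G} (ha : a ∈ E) (hb : b ∈ E)
    (h : ¬ Commute a b) : a * b * a = b * a * b := by
  have h3 := cube_of_not_commute hE ha hb h
  rw [pow_succ, pow_two] at h3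
  have h' : (a * b * a) * (b * a * b) = 1 := by rw [← h3]; simp only [mul_assoc]
  have := inv_eq_of_mul_eq_one_right h'
  rw [mul_inv_rev, mul_inv_rev, inv_eq hE ha, inv_eq hE hb, ← mul_assoc] at this
  exact this

/-- Commuting with the product of two commuting members. -/
theorem commute_pair_iff (hE : IsThreeTranspositionSet E) {a b e : G} (ha : a ∈ E) (hb : b ∈ E) (he : e ∈ E)
    (hab : a ≠ b) (hcomm : Commute a b) : Commute e (a * b) ↔ Commute e a ∧ Commute e b := by
  refine ⟨fun h => ?_, fun h => h.1.mul_right h.2⟩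
  have hb' : b = a * (a * b) := by rw [← mul_assoc, sq_eq_one hE ha, one_mul]
  by_cases h1 : Commute e a
  · exact ⟨h1, by rw [hb']; exact h1.mul_right h⟩
  by_cases h2 : Commute e b
  · refine absurd ?_ h1
    have : a = (a * b) * b := by rw [mul_assoc, sq_eq_one hE hb, mul_one]
    rw [this]; exact h.mul_right h2
  exfalso
  apply hab
  have hconj : e * (a * b) * e = a * b := by rw [h.eq, mul_assoc, sq_eq_one hE he, mul_one]
  have he2 := sq_eq_one hE he
  have h3 : (e * a * e) * (e * b * e) = a * b := by
    calc (e * a * e) * (e * b * e) = e * a * (e * e) * b * e := by simp only [mul_assoc]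
      _ = a * b := by rw [he2, mul_one, mul_assoc e a b]; exact hconj
  rw [braid hE he ha h1, braid hE he hb h2] at h3
  -- `a e a b e b = a b` forces `a b = 1`
  have h4 : a * ((e * a) * (b * e)) * b = a * 1 * b := by rw [mul_one, ← h3]; simp only [mul_assoc]
  have h5 : (e * a) * (b * e) = 1 := mul_left_cancel (mul_right_cancel h4)
  have h6 : a * b = 1 := by
    have : e * (a * b) * e = 1 := by rw [← h5]; simp only [mul_assoc]
    rwa [hconj] at this
  rwa [mul_eq_one_iff_eq_inv, inv_eq hE hb] at h6

theorem not_commute_conj (hE : IsThreeTranspositionSet E) {a b e : G} (ha : a ∈ E) (hb : b ∈ E) (he : e ∈ E)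
    (hab : Commute a b) (hea : ¬ Commute e a) (heb : ¬ Commute e b) :
    (e * a * e) * b * (e * a * e) = b * (e * a * e) * b := by
  have ha2 := sq_eq_one hE ha
  rw [braid hE he ha hea]
  calc a * e * a * b * (a * e * a) = a * e * (a * b * a) * e * a := by simp only [mul_assoc]
    _ = a * (e * b * e) * a := by rw [hab.eq, mul_assoc b, ha2, mul_one]; simp only [mul_assoc]
    _ = a * (b * e * b) * a := by rw [braid hE he hb heb]
    _ = (a * b) * e * (b * a) := by simp only [mul_assoc]
    _ = (b * a) * e * (a * b) := by rw [hab.eq]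
    _ = b * (a * e * a) * b := by simp only [mul_assoc]

/-- Commuting with the product of three commuting members. -/
theorem commute_triple_iff (hE : IsThreeTranspositionSet E) {a b c e : G} (ha : a ∈ E) (hb : b ∈ E) (hc : c ∈ E)
    (he : e ∈ E) (hab : a ≠ b) (hac : a ≠ c) (hbc : b ≠ c) (h₁ : Commute a b) (h₂ : Commute a c)
    (h₃ : Commute b c) : Commute e (a * b * c) ↔ Commute e a ∧ Commute e b ∧ Commute e c := by
  refine ⟨fun h => ?_, fun h => (h.1.mul_right h.2.1).mul_right h.2.2⟩
  have ha2 := sq_eq_one hE ha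
  have hb2 := sq_eq_one hE hb
  have hc2 := sq_eq_one hE hc
  by_cases h1 : Commute e a
  · have : b * c = a * (a * b * c) := by simp only [← mul_assoc, ha2, one_mul]
    exact ⟨h1, (commute_pair_iff hE hb hc he hbc h₃).mp (this ▸ h1.mul_right h)⟩
  by_cases h2 : Commute e b
  · have : a * c = b * (a * b * c) := by
      rw [h₁.eq]; simp only [← mul_assoc, hb2, one_mul]
    obtain ⟨x, y⟩ := (commute_pair_iff hE ha hc he hac h₂).mp (this ▸ h2.mul_right h)
    exact ⟨x, h2, y⟩
  by_cases h3 : Commute e c
  · have : a * b = a * b * c * c := by rw [mul_assoc (a * b), hc2, mul_one]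
    obtain ⟨x, y⟩ := (commute_pair_iff hE ha hb he hab h₁).mp (this ▸ h.mul_right h3)
    exact ⟨x, y, h3⟩
  exfalso
  have he2 := sq_eq_one hE he
  have hconj : e * (a * b * c) * e = a * b * c := by rw [h.eq, mul_assoc, he2, mul_one]
  -- conjugation by `e` sends `b c` to `(e a e) (a b c)`
  set A := e * a * e with hA
  set w := a * b * c with hw
  have hbcw : b * c = a * w := by simp only [hw, ← mul_assoc, ha2, one_mul]
  have e1 : e * (b * c) * e = A * w := by
    calc e * (b * c) * e = e * a * (e * e) * w * e := by rw [he2, mul_one, hbcw]; simp only [mul_assoc]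
      _ = A * (e * w * e) := by simp only [hA, mul_assoc]
      _ = A * w := by rw [hconj]
  have e2 : e * (b * c) * e = b * (e * (b * c) * e) * c := by
    calc e * (b * c) * e = e * b * (e * e) * c * e := by rw [he2, mul_one]; simp only [mul_assoc]
      _ = (e * b * e) * (e * c * e) := by simp only [mul_assoc]
      _ = (b * e * b) * (c * e * c) := by rw [braid hE he hb h2, braid hE he hc h3]
      _ = b * (e * (b * c) * e) * c := by simp only [mul_assoc]
  rw [e1] at e2
  have hwc : w * c = c * w := ((h₂.mul_left h₃).mul_left (Commute.refl c)).eq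
  have e3 : A * c = b * A := by
    have : A * w * c = b * A * w := by
      conv_lhs => rw [e2]
      rw [mul_assoc _ c c, hc2, mul_one, ← mul_assoc]
    rw [mul_assoc, hwc, ← mul_assoc] at this
    exact mul_right_cancel this
  have e4 : A * b * A = c := by
    rw [mul_assoc, ← e3, ← mul_assoc]
    have : A * A = 1 := by
      calc A * A = e * a * (e * e) * a * e := by simp only [hA, mul_assoc]
        _ = 1 := by rw [he2, mul_one, mul_assoc e a a, ha2, mul_one, he2]
    rw [this, one_mul]
  rw [not_commute_conj hE ha hb he h₁ h1 h2] at e4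
  have e5 : A = c := by
    calc A = (b * b) * A * (b * b) := by rw [hb2, one_mul, mul_one]
      _ = b * (b * A * b) * b := by simp only [mul_assoc]
      _ = c := by rw [e4, h₃.eq, mul_assoc, hb2, mul_one]
  have e6 : e = a * c * a := by
    rw [← e5, hA, braid hE he ha h1]
    simp only [← mul_assoc, ha2, one_mul]
    rw [mul_assoc, ha2, mul_one]
  refine h1 ?_
  rw [e6, h₂.eq, mul_assoc, ha2, mul_one]
  exact h₂.symm

end Cfsg.Lib.ThreeTr
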