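import Cfsg.Agent.ThreeTransposition.Radical
import Cfsg.Agent.Components.Structure
import Cfsg.Agent.Chars.Burnside
import Cfsg.Prelude.Def_FischerSpaces

/-!
Groups generated by a class of 3-transpositions with central 2- and 3-cores: the component, width, primitivity.
-/

set_option linter.unusedSectionVars false
set_option linter.style.haveILetI false

namespace Cfsg.Lib.ThreeTr

open Cfsg Subgroup
open scoped commutatorElement

universe u

variable {G : Type u} [Group G] {D : Set G}

theorem isSolvable_of_pow_two_or_three [Finite G] (h : ∀ x : G, x ^ 2 = 1 ∨ x ^ 3 = 1) : Group.IsSolvable G := by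
  obtain ⟨a, m, hm, hn⟩ := Nat.exists_eq_pow_mul_and_not_dvd (Nat.card_pos (α := G)).ne' 2 (by norm_num)
  have hm0 : m ≠ 0 := fun h0 => hm (h0 ▸ dvd_zero 2)
  have h3 : ∀ {s : ℕ}, s.Prime → s ∣ m → s = 3 := by
    intro s hs hsm
    haveI := Fact.mk hs
    obtain ⟨x, hx⟩ := exists_prime_orderOf_dvd_card' (G := G) s (hn ▸ Dvd.dvd.mul_left hsm _)
    rcases h x with h2 | h3
    · have := (Nat.prime_dvd_prime_iff_eq hs Nat.prime_two).1 (hx ▸ orderOf_dvd_of_pow_eq_one h2)
      exact absurd (this ▸ hsm) hm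
    · exact (Nat.prime_dvd_prime_iff_eq hs Nat.prime_three).1 (hx ▸ orderOf_dvd_of_pow_eq_one h3)
  exact Cfsg.Lib.Chars.burnside_isSolvable 2 3 Nat.prime_two Nat.prime_three G
    ⟨a, _, by rw [hn, Nat.eq_prime_pow_of_unique_prime_dvd hm0 h3]⟩

theorem center_le_fitting [Finite G] : center G ≤ fittingSubgroup G := by
  refine Cfsg.Lib.Components.le_fitting ?_
  letI : CommGroup (center G) := { mul_comm := fun a b => Subtype.ext (mem_center_iff.1 b.2 a) }
  infer_instance

section component

theorem comp_normalized [Finite G] (hD : IsThreeTranspositionClass D) {d : G} (hd : d ∈ D) {K : Subgroup G}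
    (hK : IsComponent K) : d ∈ normalizer (K : Set G) := by
  by_contra hne
  have hd2 := sq_eq_one hD.1 hd
  have hK' := Cfsg.Lib.Components.comp_conj hK d
  have hneq : K.map (MulAut.conj d).toMonoidHom ≠ K := fun h =>
    hne (mem_normalizer_iff_map_conj_eq.2 h)
  have hcomm := Cfsg.Lib.Components.comp_commute hK' hK hneq
  refine Cfsg.Lib.Components.comp_not_isSolvable hK ?_
  have hq : ∀ q : K ⧸ center K, q ^ 2 = 1 ∨ q ^ 3 = 1 := by
    intro q
    induction q using QuotientGroup.induction_on with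
    | H x =>
      have hy : d * (x : G) * d⁻¹ ∈ K.map (MulAut.conj d).toMonoidHom := ⟨x, x.2, rfl⟩
      have hxy : Commute (d * (x : G) * d⁻¹) (x : G) :=
        Cfsg.Lib.Components.commute_of_commutator_eq_bot hcomm hy x.2
      have key : ∀ n : ℕ, (d * ((x : G) * d * (x : G)⁻¹)) ^ n = 1 → (x ^ n : K) ∈ center K := by
        intro n hn
        have e : d * ((x : G) * d * (x : G)⁻¹) = d * (x : G) * d⁻¹ * (x : G)⁻¹ := by
          rw [inv_eq hD.1 hd]; group
        rw [e, hxy.inv_right.mul_pow, inv_pow, mul_inv_eq_one] at hn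
        have hmem : (x : G) ^ n ∈ K.map (MulAut.conj d).toMonoidHom := by
          rw [← hn]; exact pow_mem hy n
        refine mem_center_iff.2 fun g => Subtype.ext ?_
        exact (Cfsg.Lib.Components.commute_of_commutator_eq_bot hcomm hmem g.2).symm
      rcases hD.1.2 d hd _ (conj_mem hD (x : G) hd) with h | h
      · left
        rw [← QuotientGroup.mk_pow, QuotientGroup.eq_one_iff]
        exact key 2 h
      · right
        rw [← QuotientGroup.mk_pow, QuotientGroup.eq_one_iff]
        exact key 3 h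
  haveI := isSolvable_of_pow_two_or_three hq
  haveI : Group.IsSolvable (center K) := Group.isSolvable_of_comm fun a b => Subtype.ext (mem_center_iff.1 b.2 a)
  exact solvable_of_ker_le_range (center K).subtype (QuotientGroup.mk' (center K))
    (by rw [QuotientGroup.ker_mk', range_subtype])

theorem comp_normal [Finite G] (hD : IsThreeTranspositionClass D) {K : Subgroup G} (hK : IsComponent K) : K.Normal := by
  rw [← normalizer_eq_top_iff, eq_top_iff, ← hD.2.2, closure_le]
  exact fun d hd => comp_normalized hD hd hK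

theorem comp_not_centralized [Finite G] (hD : IsThreeTranspositionClass D) {d : G} (hd : d ∈ D) {K : Subgroup G}
    (hK : IsComponent K) : ¬ K ≤ centralizer ({d} : Set G) := by
  intro h
  haveI := comp_normal hD hK
  refine Cfsg.Lib.Components.comp_not_isMulCommutative hK (Cfsg.Lib.Components.isMulCommutative_of_le_center ?_)
  intro x hx
  rw [mem_center_iff]
  intro g
  have hle : closure D ≤ centralizer ({x} : Set G) := by
    rw [closure_le]
    intro e he
    obtain ⟨k, rfl⟩ := exists_conj hD hd he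
    refine mem_centralizer_singleton_iff.2 ?_
    have hc := mem_centralizer_singleton_iff.1 (h (show k⁻¹ * x * k ∈ K by
      simpa using (inferInstance : K.Normal).conj_mem x hx k⁻¹))
    calc k * d * k⁻¹ * x = k * (d * (k⁻¹ * x * k)) * k⁻¹ := by group
      _ = k * (k⁻¹ * x * k * d) * k⁻¹ := by rw [hc]
      _ = _ := by group
  exact mem_centralizer_singleton_iff.1 (hle (hD.2.2 ▸ mem_top g))

/-- The conjugates of `d` under a component. -/
theorem comp_both_types [Finite G] (hD : IsThreeTranspositionClass D) {d : G} (hd : d ∈ D) {K : Subgroup G}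
    (hK : IsComponent K) :
    (∃ x ∈ K, x * d * x⁻¹ ≠ d ∧ Commute d (x * d * x⁻¹)) ∧ (∃ x ∈ K, ¬ Commute d (x * d * x⁻¹)) := by
  haveI : Fact (Nat.Prime 3) := ⟨Nat.prime_three⟩
  haveI := comp_normal hD hK
  have hKn : K.Normal := inferInstance
  set S : Set G := {u | ∃ x ∈ K, u = x * d * x⁻¹} with hS
  have hSD : ∀ u ∈ S, u ∈ D := by rintro _ ⟨x, _, rfl⟩; exact conj_mem hD x hd
  have hdS : d ∈ S := ⟨1, one_mem _, by group⟩
  have hSK : ∀ k ∈ K, ∀ u ∈ S, k * u * k⁻¹ ∈ S := by
    rintro k hk _ ⟨x, hx, rfl⟩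
    exact ⟨k * x, mul_mem hk hx, by group⟩
  have hSS : ∀ v ∈ S, ∀ u ∈ S, v * u * v⁻¹ ∈ S := by
    rintro _ ⟨y, hy, rfl⟩ _ ⟨x, hx, rfl⟩
    refine ⟨y * d * y⁻¹ * x * (y * d * y⁻¹)⁻¹ * (y * (d * y⁻¹ * d⁻¹)), ?_, ?_⟩
    · exact mul_mem (hKn.conj_mem x hx _) (mul_mem hy (hKn.conj_mem _ (inv_mem hy) d))
    · group
  -- a subgroup containing the products, normalised by `K`, which is solvable
  have hfinal : ∀ T : Subgroup G, Group.IsSolvable T → K ≤ normalizer (T : Set G) →
      (∀ u ∈ S, d * u ∈ T) → False := by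
    intro T hT hTn hmem
    have h0 := Cfsg.Lib.Components.comp_commute_of_solvable hK hT hTn
    refine comp_not_centralized hD hd hK (centralizes_of_rel hD hd (Cfsg.Lib.Components.comp_perfect hK) ?_)
    intro x hx
    refine mem_centralizer_iff.2 fun y hy => ?_
    rw [inv_eq hD.1 hd]
    exact Cfsg.Lib.Components.commute_of_commutator_eq_bot h0 hy (hmem _ ⟨x, hx, rfl⟩)
  have hnorm : ∀ A : Set G, (∀ k ∈ K, ∀ u ∈ A, k * u * k⁻¹ ∈ A) → K ≤ normalizer (closure A : Set G) := by
    intro A hA k hk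
    refine Cfsg.Lib.Coprime.mem_normalizer_of_conj_mem (fun y hy => ?_) (fun y hy => ?_)
    · induction hy using closure_induction with
      | mem y hy => exact subset_closure (hA k hk y hy)
      | one => simp
      | mul a b _ _ ha hb => rw [show k * (a * b) * k⁻¹ = k * a * k⁻¹ * (k * b * k⁻¹) by group]; exact mul_mem ha hb
      | inv a _ ha => rw [show k * a⁻¹ * k⁻¹ = (k * a * k⁻¹)⁻¹ by group]; exact inv_mem ha
    · induction hy using closure_induction with
      | mem y hy =>
        have := subset_closure (hA k⁻¹ (inv_mem hk) y hy) (k := A)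
        simpa using this
      | one => simp
      | mul a b _ _ ha hb => rw [show k⁻¹ * (a * b) * k = k⁻¹ * a * k * (k⁻¹ * b * k) by group]; exact mul_mem ha hb
      | inv a _ ha => rw [show k⁻¹ * a⁻¹ * k = (k⁻¹ * a * k)⁻¹ by group]; exact inv_mem ha
  have hex : ∃ x ∈ K, ¬ Commute d (x * d * x⁻¹) := by
    by_contra hcon
    push Not at hcon
    have hc : ∀ u ∈ S, ∀ v ∈ S, Commute u v := by
      rintro _ ⟨x, hx, rfl⟩ _ ⟨y, hy, rfl⟩
      have h := (conj_commute_iff x d _).2 (hcon (x⁻¹ * y) (mul_mem (inv_mem hx) hy))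
      rwa [show x * (x⁻¹ * y * d * (x⁻¹ * y)⁻¹) * x⁻¹ = y * d * y⁻¹ by group] at h
    refine hfinal (closure S) ?_ (hnorm S hSK) fun u hu => mul_mem (subset_closure hdS) (subset_closure hu)
    haveI := Subgroup.isMulCommutative_closure (k := S) fun a ha b hb => (hc a ha b hb).eq
    exact Group.isSolvable_of_comm fun a b => mul_comm' a b
  refine ⟨?_, hex⟩
  by_contra hcon
  push Not at hcon
  have hnc : ∀ u ∈ S, ∀ v ∈ S, Commute u v → u = v := by
    rintro _ ⟨x, hx, rfl⟩ _ ⟨y, hy, rfl⟩ h
    by_contra hne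
    refine hcon (x⁻¹ * y) (mul_mem (inv_mem hx) hy) (fun hh => hne ?_) ?_
    · calc x * d * x⁻¹ = x * (x⁻¹ * y * d * (x⁻¹ * y)⁻¹) * x⁻¹ := by rw [hh]
        _ = y * d * y⁻¹ := by group
    · have := (conj_commute_iff x⁻¹ _ _).2 h
      rwa [show x⁻¹ * (x * d * x⁻¹) * x⁻¹⁻¹ = d by group,
        show x⁻¹ * (y * d * y⁻¹) * x⁻¹⁻¹ = x⁻¹ * y * d * (x⁻¹ * y)⁻¹ by group] at this
  set H := closure S with hH
  have hpres : H ≤ normalizer S := by
    rw [hH, closure_le]
    intro v hv
    refine mem_set_normalizer_iff.2 fun u => ⟨hSS v hv u, fun hu => ?_⟩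
    have := hSS v hv _ hu
    rw [inv_eq hD.1 (hSD v hv), invol_conj_conj (sq_eq_one hD.1 (hSD v hv))] at this
    exact this
  have hcls : IsThreeTranspositionClass ({x : H | (x : G) ∈ S} : Set H) := by
    refine ⟨⟨fun x hx => ?_, fun x hx y hy => ?_⟩, ⟨⟨d, subset_closure hdS⟩, hdS, ?_⟩, ?_⟩
    · rw [← Subgroup.orderOf_coe]; exact hD.1.1 _ (hSD _ hx)
    · rcases hD.1.2 _ (hSD _ hx) _ (hSD _ hy) with h | h
      · exact Or.inl (Subtype.ext h)
      · exact Or.inr (Subtype.ext h)
    · ext x
      rw [mem_conjugatesOf', isConj_iff]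
      constructor
      · intro hx
        by_cases hdx : Commute d (x : G)
        · exact ⟨1, Subtype.ext (by simp [hnc d hdS x hx hdx])⟩
        · exact ⟨⟨d * x, mul_mem (subset_closure hdS) x.2⟩, Subtype.ext (mul_conj_eq hD.1 hd (hSD _ hx) hdx)⟩
      · rintro ⟨g, rfl⟩
        exact (mem_set_normalizer_iff.1 (hpres g.2) d).1 hdS
    · exact closure_closure_coe_preimage
  have h3 := isPGroup_productSubgroup hcls fun a ha b hb hab => Subtype.ext (hnc _ ha _ hb (hab.map H.subtype))
  set T := closure {z | ∃ u ∈ S, ∃ v ∈ S, z = u * v} with hTdef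
  have hTp : IsPGroup 3 T := by
    refine (h3.map H.subtype).to_le ?_
    rw [hTdef, closure_le]
    rintro _ ⟨u, hu, v, hv, rfl⟩
    exact ⟨⟨u, subset_closure hu⟩ * ⟨v, subset_closure hv⟩,
      mul_mem_productSubgroup (D := ({x : H | (x : G) ∈ S} : Set H)) hu hv, rfl⟩
  refine hfinal T ?_ (hnorm _ ?_) fun u hu => subset_closure ⟨d, hdS, u, hu, rfl⟩
  · haveI := hTp.isNilpotent
    infer_instance
  · rintro k hk _ ⟨u, hu, v, hv, rfl⟩
    exact ⟨_, hSK k hk u hu, _, hSK k hk v hv, by group⟩

theorem comp_unique [Finite G] (hD : IsThreeTranspositionClass D) {K₁ K₂ : Subgroup G} (h₁ : IsComponent K₁)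
    (h₂ : IsComponent K₂) : K₁ = K₂ := by
  by_contra hne
  obtain ⟨d, hd, -⟩ := hD.2.1
  have hd2 := sq_eq_one hD.1 hd
  have hc := Cfsg.Lib.Components.comp_commute h₁ h₂ hne
  haveI := comp_normal hD h₁
  haveI := comp_normal hD h₂
  obtain ⟨x, hx, hxne, hxc⟩ := (comp_both_types hD hd h₁).1
  obtain ⟨y, hy, hyc⟩ := (comp_both_types hD hd h₂).2
  have hv := conj_mem hD x hd
  have hw := conj_mem hD y hd
  set u₁ := d * (x * d * x⁻¹) with hu₁
  set u₂ := d * (y * d * y⁻¹) with hu₂
  have hu₁K : u₁ ∈ K₁ := by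
    have := moved_diff_mem (N := K₁) (d := d) hx
    rwa [inv_eq hD.1 hd] at this
  have hu₂K : u₂ ∈ K₂ := by
    have := moved_diff_mem (N := K₂) (d := d) hy
    rwa [inv_eq hD.1 hd] at this
  have h12 : Commute u₁ u₂ := Cfsg.Lib.Components.commute_of_commutator_eq_bot hc hu₁K hu₂K
  have hxu : x * u₂ = u₂ * x := Cfsg.Lib.Components.commute_of_commutator_eq_bot hc hx hu₂K
  have e : d * ((x * y) * d * (x * y)⁻¹) = u₁ * u₂ := by
    calc d * ((x * y) * d * (x * y)⁻¹) = d * x * ((d * d) * (y * d * y⁻¹)) * x⁻¹ := by rw [hd2]; group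
      _ = d * x * d * u₂ * x⁻¹ := by rw [hu₂]; group
      _ = d * x * d * (x⁻¹ * (x * u₂)) * x⁻¹ := by group
      _ = d * x * d * (x⁻¹ * (u₂ * x)) * x⁻¹ := by rw [hxu]
      _ = u₁ * u₂ := by rw [hu₁]; group
  have o1 : orderOf u₁ = 2 := orderOf_mul_of_commute hD.1 hd hv hxne.symm hxc
  have o2 : orderOf u₂ = 3 := orderOf_of_not_commute hD.1 hd hw hyc
  have o : orderOf (u₁ * u₂) = 6 := by
    rw [h12.orderOf_mul_eq_mul_orderOf_of_coprime (by rw [o1, o2]; norm_num), o1, o2]
  rcases hD.1.2 d hd _ (conj_mem hD (x * y) hd) with h | h <;> rw [e] at h <;>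
    have := orderOf_dvd_of_pow_eq_one h <;> rw [o] at this <;> norm_num at this

theorem layer_isComponent [Finite G] (hD : IsThreeTranspositionClass D) (hL : layer G ≠ ⊥) :
    IsComponent (layer G) := by
  obtain ⟨K, hK⟩ : ∃ K : Subgroup G, IsComponent K := by
    by_contra h
    push Not at h
    exact hL (sSup_eq_bot.2 fun K hK => absurd hK (h K))
  have : layer G = K := le_antisymm (sSup_le fun K' hK' => (comp_unique hD hK' hK).le) (Cfsg.Lib.Components.comp_le_layer hK)
  rwa [this]

theorem eq_layer [Finite G] (hD : IsThreeTranspositionClass D) {L : Subgroup G} [L.Normal] (hL : IsQuasisimple L) :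
    L = layer G := by
  have hc : IsComponent L := ⟨Subgroup.Normal.isSubnormal inferInstance, hL⟩
  exact le_antisymm (Cfsg.Lib.Components.comp_le_layer hc) (sSup_le fun K hK => (comp_unique hD hK hc).le)

end component

/-- The standing hypotheses. -/
structure Semisimple (D : Set G) : Prop where
  cls : IsThreeTranspositionClass D
  two : ∃ a ∈ D, ∃ b ∈ D, a ≠ b
  h2 : pCore 2 G ≤ center G
  h3 : pCore 3 G ≤ center G

theorem Semisimple.layer_comp [Finite G] (hS : Semisimple D) : IsComponent (layer G) :=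
  layer_isComponent hS.cls (layer_ne_bot hS.cls hS.two hS.h2 hS.h3)

theorem Semisimple.fitting_eq [Finite G] (hS : Semisimple D) : fittingSubgroup G = center G :=
  le_antisymm (fitting_le_center (pCore_le_center_of hS.cls hS.h2 hS.h3)) center_le_fitting

theorem Semisimple.genFitting_eq [Finite G] (hS : Semisimple D) :
    generalizedFittingSubgroup G = layer G ⊔ center G := by
  rw [generalizedFittingSubgroup, hS.fitting_eq]

theorem Semisimple.centralizer_le_center [Finite G] (hS : Semisimple D) :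
    centralizer (layer G : Set G) ≤ center G := by
  intro x hx
  have hx' : x ∈ centralizer (generalizedFittingSubgroup G : Set G) := by
    have hle : generalizedFittingSubgroup G ≤ centralizer ({x} : Set G) := by
      rw [hS.genFitting_eq]
      refine sup_le (fun y hy => mem_centralizer_singleton_iff.2 (mem_centralizer_iff.1 hx y hy)) ?_
      exact fun z hz => mem_centralizer_singleton_iff.2 (mem_center_iff.1 hz x).symm
    exact mem_centralizer_iff.2 fun y hy => mem_centralizer_singleton_iff.1 (hle hy)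
  have hxF := Cfsg.Lib.Components.centralizer_genFitting_le hx'
  rw [hS.genFitting_eq] at hxF
  obtain ⟨l, hl, z, hz, rfl⟩ := mem_sup_of_normal_right.1 hxF
  have hlc : l ∈ centralizer (layer G : Set G) := by
    have hzc : z ∈ centralizer (layer G : Set G) := center_le_centralizer _ hz
    simpa using mul_mem hx (inv_mem hzc)
  have : l ∈ fittingSubgroup G := (Cfsg.Lib.Components.layer_inf_centralizer_eq_fitting.le ⟨hl, hlc⟩).1
  exact mul_mem (hS.fitting_eq.le this) hz

/-- Width one modulo the layer. -/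
theorem Semisimple.width [Finite G] (hS : Semisimple D) {a b : G} (ha : a ∈ D) (hb : b ∈ D)
    (h : a * b * a⁻¹ * b⁻¹ ∈ layer G) : a⁻¹ * b ∈ layer G := by
  set L := layer G with hLdef
  have hLn : L.Normal := inferInstance
  by_contra hne
  have hK := hS.layer_comp
  have hcomm : ∀ x ∈ L, Commute b (x * a * x⁻¹) := by
    intro x hx
    by_contra hnc
    have h3 := cube_of_not_commute hS.cls.1 (conj_mem hS.cls x ha) hb fun h' => hnc h'.symm
    refine hne ?_
    have e : ((x * a * x⁻¹ : G) : G ⧸ L) = (a : G ⧸ L) := by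
      have hx1 : (x : G ⧸ L) = 1 := (QuotientGroup.eq_one_iff x).2 hx
      rw [QuotientGroup.mk_mul, QuotientGroup.mk_mul, QuotientGroup.mk_inv, hx1, inv_one, one_mul, mul_one]
    have h3' : ((a * b : G) : G ⧸ L) ^ 3 = 1 := by
      have := congrArg (fun g : G => (g : G ⧸ L)) h3
      simpa only [QuotientGroup.mk_pow, QuotientGroup.mk_mul, e, QuotientGroup.mk_one] using this
    have h2' : ((a * b : G) : G ⧸ L) ^ 2 = 1 := by
      rw [← QuotientGroup.mk_pow, QuotientGroup.eq_one_iff, sq]
      rwa [inv_eq hS.cls.1 ha, inv_eq hS.cls.1 hb, show a * b * a * b = a * b * (a * b) by group] at h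
    rw [inv_eq hS.cls.1 ha, ← QuotientGroup.eq_one_iff]
    rw [pow_succ, h2', one_mul] at h3'
    exact h3'
  set A : Set G := {u | ∃ x ∈ L, u = x * a * x⁻¹} with hA
  have hbA : closure A ≤ centralizer ({b} : Set G) := by
    rw [closure_le]
    rintro _ ⟨x, hx, rfl⟩
    exact mem_centralizer_singleton_iff.2 (hcomm x hx).symm.eq
  have hn : L ≤ normalizer (closure A : Set G) := by
    intro k hk
    have hfwd : ∀ k ∈ L, ∀ y ∈ closure A, k * y * k⁻¹ ∈ closure A := by
      intro k hk y hy
      induction hy using closure_induction with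
      | mem y hy =>
        obtain ⟨x, hx, rfl⟩ := hy
        exact subset_closure ⟨k * x, mul_mem hk hx, by group⟩
      | one => simp
      | mul u v _ _ hu hv => rw [show k * (u * v) * k⁻¹ = k * u * k⁻¹ * (k * v * k⁻¹) by group]; exact mul_mem hu hv
      | inv u _ hu => rw [show k * u⁻¹ * k⁻¹ = (k * u * k⁻¹)⁻¹ by group]; exact inv_mem hu
    exact Cfsg.Lib.Coprime.mem_normalizer_of_conj_mem (hfwd k hk) fun y hy => by
      simpa using hfwd k⁻¹ (inv_mem hk) y hy
  rcases Cfsg.Lib.Components.comp_le_or_commute_of_normalizes hK hn with h' | h'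
  · exact comp_not_centralized hS.cls hb hK (h'.trans hbA)
  · refine comp_not_centralized hS.cls ha hK fun y hy => mem_centralizer_singleton_iff.2 ?_
    exact Cfsg.Lib.Components.commute_of_commutator_eq_bot h' hy (subset_closure ⟨1, one_mem _, by group⟩)

/-- Chains of commuting members. -/
def Linked (D : Set G) : G → G → Prop := Relation.ReflTransGen fun x y => x ∈ D ∧ y ∈ D ∧ Commute x y

theorem linked_isClassRel (hD : IsThreeTranspositionClass D) : IsClassRel D (Linked D) where
  refl _ _ := Relation.ReflTransGen.refl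
  symm h := by
    induction h with
    | refl => exact Relation.ReflTransGen.refl
    | tail _ hbc ih => exact Relation.ReflTransGen.head ⟨hbc.2.1, hbc.1, hbc.2.2.symm⟩ ih
  trans h h' := h.trans h'
  equiv g {a b} _ hb h := by
    clear hb
    induction h with
    | refl => exact Relation.ReflTransGen.refl
    | tail _ hbc ih => exact ih.tail ⟨conj_mem hD g hbc.1, conj_mem hD g hbc.2.1, (conj_commute_iff g _ _).2 hbc.2.2⟩
  key {u v e} hu _ he h hne hc := absurd (Relation.ReflTransGen.single ⟨he, hu, hc⟩) hne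

theorem linked_iff_connected (hD : IsThreeTranspositionClass D) :
    (commutingGraph D).Connected ↔ ∀ a ∈ D, ∀ b ∈ D, Linked D a b := by
  obtain ⟨d, hd, -⟩ := hD.2.1
  haveI : Nonempty D := ⟨⟨d, hd⟩⟩
  constructor
  · intro h a ha b hb
    have hr := (SimpleGraph.reachable_iff_reflTransGen _ _).1 (h.preconnected ⟨a, ha⟩ ⟨b, hb⟩)
    refine hr.lift Subtype.val fun x y hxy => ?_
    rcases (SimpleGraph.fromRel_adj _ _ _).1 hxy with ⟨-, h1 | h1⟩
    · exact ⟨x.2, y.2, h1⟩
    · exact ⟨x.2, y.2, h1.symm⟩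
  · intro h
    refine ⟨fun x y => ?_⟩
    have key : ∀ a b : G, Linked D a b → ∀ (ha : a ∈ D) (hb : b ∈ D),
        (commutingGraph D).Reachable ⟨a, ha⟩ ⟨b, hb⟩ := by
      intro a b hab
      induction hab with
      | refl => exact fun ha hb => SimpleGraph.Reachable.refl _
      | @tail b c _ hbc ih =>
        intro ha hc
        refine (ih ha hbc.1).trans ?_
        by_cases hne : b = c
        · subst hne; exact SimpleGraph.Reachable.refl _
        · exact SimpleGraph.Adj.reachable
            ((SimpleGraph.fromRel_adj _ _ _).2 ⟨fun e => hne (congrArg Subtype.val e), Or.inl hbc.2.2⟩)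
    exact key x y (h x x.2 y y.2) x.2 y.2

theorem zpowers_mk_eq_top (hD : IsThreeTranspositionClass D) {N : Subgroup G} [N.Normal] {a : G}
    (h : ∀ x ∈ D, a⁻¹ * x ∈ N) : zpowers (a : G ⧸ N) = ⊤ := by
  rw [eq_top_iff, ← map_top_of_surjective (QuotientGroup.mk' N) (QuotientGroup.mk'_surjective _),
    ← hD.2.2, MonoidHom.map_closure, closure_le]
  rintro _ ⟨x, hx, rfl⟩
  show (x : G ⧸ N) ∈ zpowers (a : G ⧸ N)
  rw [← QuotientGroup.eq.2 (h x hx)]
  exact mem_zpowers _

theorem index_le_two_of_products [Finite G] (hD : IsThreeTranspositionClass D) {N : Subgroup G} [N.Normal]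
    (h : ∀ a ∈ D, ∀ b ∈ D, a⁻¹ * b ∈ N) : N.index ≤ 2 := by
  obtain ⟨a, ha, -⟩ := hD.2.1
  rw [Subgroup.index, ← Nat.card_congr Subgroup.topEquiv.toEquiv, ← zpowers_mk_eq_top hD (h a ha), Nat.card_zpowers]
  refine Nat.le_of_dvd two_pos (orderOf_dvd_of_pow_eq_one ?_)
  rw [← QuotientGroup.mk_pow, sq, sq_eq_one hD.1 ha, QuotientGroup.mk_one]

theorem commutator_le_of_products (hD : IsThreeTranspositionClass D) {N : Subgroup G} [N.Normal]
    (h : ∀ a ∈ D, ∀ b ∈ D, a⁻¹ * b ∈ N) : commutator G ≤ N := by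
  obtain ⟨a, ha, -⟩ := hD.2.1
  have hz := zpowers_mk_eq_top hD (h a ha)
  refine (Subgroup.Normal.quotient_commutative_iff_commutator_le).1 ⟨⟨fun x y => ?_⟩⟩
  obtain ⟨i, rfl⟩ := (hz ▸ mem_top x : x ∈ zpowers (a : G ⧸ N))
  obtain ⟨j, rfl⟩ := (hz ▸ mem_top y : y ∈ zpowers (a : G ⧸ N))
  exact ((Commute.refl (a : G ⧸ N)).zpow_zpow i j).eq

theorem mul_mem_commutator (hD : IsThreeTranspositionClass D) {a b : G} (ha : a ∈ D) (hb : b ∈ D) :
    a⁻¹ * b ∈ commutator G := by
  obtain ⟨g, rfl⟩ := exists_conj hD ha hb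
  have := commutator_mem_commutator (mem_top (a⁻¹)) (mem_top g)
  rw [commutator_def]
  rwa [commutatorElement_def, inv_inv, show a⁻¹ * g * a * g⁻¹ = a⁻¹ * (g * a * g⁻¹) by group] at this

theorem Semisimple.index_le_two_of_linked [Finite G] (hS : Semisimple D)
    (hl : ∀ a ∈ D, ∀ b ∈ D, Linked D a b) : (layer G).index ≤ 2 := by
  obtain ⟨a, ha, -⟩ := hS.cls.2.1
  have hlink : ∀ x ∈ D, (a : G ⧸ layer G) = (x : G ⧸ layer G) := by
    intro x hx
    induction hl a ha x hx with
    | refl => rfl
    | @tail b c _ hbc ih =>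
      refine (ih hbc.1).trans (QuotientGroup.eq.2 (hS.width hbc.1 hbc.2.1 ?_))
      rw [hbc.2.2.eq, mul_inv_cancel_right, mul_inv_cancel]
      exact one_mem _
  exact index_le_two_of_products hS.cls fun x hx y hy => QuotientGroup.eq.1 ((hlink x hx).symm.trans (hlink y hy))

theorem transitive_of_index_le_two [Finite G] (hD : IsThreeTranspositionClass D) {L : Subgroup G} [L.Normal]
    (hi : L.index ≤ 2) {a b : G} (ha : a ∈ D) (hb : b ∈ D) : ∃ g ∈ L, g * a * g⁻¹ = b := by
  obtain ⟨g, hg⟩ := exists_conj hD ha hb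
  rcases (Nat.le_iff_lt_or_eq.1 hi) with h1 | h2
  · have h : L.index = 1 := by
      have := Subgroup.index_ne_zero_of_finite (H := L)
      omega
    exact ⟨g, (index_eq_one.1 h) ▸ mem_top g, hg⟩
  · by_cases hgL : g ∈ L
    · exact ⟨g, hgL, hg⟩
    have haL : a ∉ L := by
      intro haL
      have hle : closure D ≤ L := by
        rw [closure_le]
        intro x hx
        obtain ⟨k, rfl⟩ := exists_conj hD ha hx
        exact (inferInstance : L.Normal).conj_mem a haL k
      exact hgL (hle (hD.2.2 ▸ mem_top g))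
    refine ⟨g * a, (mul_mem_iff_of_index_two h2).2 (iff_of_false hgL haL), ?_⟩
    rw [← hg]; group

/-- A block relation is trivial or universal. -/
theorem rel_dichotomy (hP : IsPrimitiveUnderConj D) (hD : IsThreeTranspositionClass D) {R : G → G → Prop}
    (hR : IsClassRel D R) : (∀ a ∈ D, ∀ b ∈ D, R a b → a = b) ∨ (∀ a ∈ D, ∀ b ∈ D, R a b) := by
  by_cases h : ∀ a ∈ D, ∀ b ∈ D, R a b → a = b
  · exact Or.inl h
  right
  push Not at h
  obtain ⟨a, ha, b, hb, hab, hne⟩ := h
  set B : Set G := {x | x ∈ D ∧ R x a} with hB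
  have hblock : ∀ g : G, (fun x => g * x * g⁻¹) '' B = B ∨ Disjoint ((fun x => g * x * g⁻¹) '' B) B := by
    intro g
    by_cases hg : R (g * a * g⁻¹) a
    · left
      refine Set.Subset.antisymm ?_ ?_
      · rintro _ ⟨x, ⟨hx, hxa⟩, rfl⟩
        exact ⟨conj_mem hD g hx, hR.trans (hR.equiv g hx ha hxa) hg⟩
      · rintro y ⟨hy, hya⟩
        have hy' : g⁻¹ * y * g ∈ D := by simpa using conj_mem hD g⁻¹ hy
        refine ⟨g⁻¹ * y * g, ⟨hy', ?_⟩, by group⟩
        have := hR.equiv g⁻¹ hy (conj_mem hD g ha) (hR.trans hya (hR.symm hg))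
        simpa [mul_assoc] using this
    · right
      rw [Set.disjoint_left]
      rintro _ ⟨x, ⟨hx, hxa⟩, rfl⟩ ⟨-, h'⟩
      exact hg (hR.trans (hR.symm (hR.equiv g hx ha hxa)) h')
  rcases hP.2.2 B (fun x hx => hx.1) hblock with h1 | h1
  · exact absurd (h1 ⟨ha, hR.refl a ha⟩ ⟨hb, hR.symm hab⟩) hne
  · intro x hx y hy
    rw [← h1] at hx hy
    exact hR.trans hx.2 (hR.symm hy.2)

theorem eq_of_vRel_of_primitive (hP : IsPrimitiveUnderConj D) (hD : IsThreeTranspositionClass D) {a b : G} (ha : a ∈ D)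
    (hb : b ∈ D) (h : VRel D a b) : a = b := by
  rcases rel_dichotomy hP hD (vRel_isClassRel hD) with h1 | h1
  · exact h1 a ha b hb h
  · obtain ⟨e, he, hne⟩ := exists_not_commute hD hP.2.1 ha
    exact absurd ((h1 a ha e he).commute he) hne

theorem eq_of_wRel_of_primitive (hP : IsPrimitiveUnderConj D) (hD : IsThreeTranspositionClass D)
    (hw : ∃ a ∈ D, ∃ b ∈ D, a ≠ b ∧ Commute a b) {a b : G} (ha : a ∈ D)
    (hb : b ∈ D) (h : WRel D a b) : a = b := by
  rcases rel_dichotomy hP hD (wRel_isClassRel hD) with h1 | h1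
  · exact h1 a ha b hb h
  · obtain ⟨x, hx, y, hy, hne, hc⟩ := hw
    exact absurd hc ((h1 x hx y hy).not_commute hy hne)

theorem linked_of_primitive (hP : IsPrimitiveUnderConj D) (hD : IsThreeTranspositionClass D)
    (hw : ∃ a ∈ D, ∃ b ∈ D, a ≠ b ∧ Commute a b) {a b : G} (ha : a ∈ D) (hb : b ∈ D) : Linked D a b := by
  rcases rel_dichotomy hP hD (linked_isClassRel hD) with h1 | h1
  · obtain ⟨x, hx, y, hy, hne, hc⟩ := hw
    exact absurd (h1 x hx y hy (Relation.ReflTransGen.single ⟨hx, hy, hc⟩)) hne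
  · exact h1 a ha b hb

theorem Semisimple.primitive [Finite G] (hS : Semisimple D) (hi : (layer G).index ≤ 2) : IsPrimitiveUnderConj D := by
  have hD := hS.cls
  refine ⟨fun a ha b hb => exists_conj hD ha hb, hS.two, fun B hBD hblock => ?_⟩
  by_cases hsub : B.Subsingleton
  · exact Or.inl hsub
  right
  simp only [Set.Subsingleton] at hsub
  push Not at hsub
  obtain ⟨u, hu, v, hv, huv⟩ := hsub
  set R : G → G → Prop := fun x y => ∀ g : G, g * x * g⁻¹ ∈ B ↔ g * y * g⁻¹ ∈ B with hRdef
  have hfix : ∀ g : G, ∀ x ∈ B, g * x * g⁻¹ ∈ B → ∀ y ∈ B, g * y * g⁻¹ ∈ B := by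
    intro g x hx hgx y hy
    rcases hblock g with h | h
    · rw [← h]; exact ⟨y, hy, rfl⟩
    · exact absurd hgx (Set.disjoint_left.1 h ⟨x, hx, rfl⟩)
  have hfix' : ∀ g : G, ∀ x ∈ B, g * x * g⁻¹ ∈ B → ∀ y, g * y * g⁻¹ ∈ B → y ∈ B := by
    intro g x hx hgx y hy
    have := hfix g⁻¹ _ hgx (by simpa [mul_assoc] using hx) _ hy
    simpa [mul_assoc] using this
  have hRB : ∀ x ∈ B, ∀ y ∈ B, R x y := fun x hx y hy g =>
    ⟨fun h => hfix g x hx h y hy, fun h => hfix g y hy h x hx⟩
  have hR : IsClassRel D R := by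
    refine ⟨fun _ _ _ => Iff.rfl, fun h g => (h g).symm, fun h h' g => (h g).trans (h' g), ?_, ?_⟩
    · intro g a b _ _ h k
      have := h (k * g)
      rw [show k * g * a * (k * g)⁻¹ = k * (g * a * g⁻¹) * k⁻¹ by group,
        show k * g * b * (k * g)⁻¹ = k * (g * b * g⁻¹) * k⁻¹ by group] at this
      exact this
    · intro x y e hx _ he hxy hne hc
      obtain ⟨g, hg⟩ := exists_conj hD hx (hBD hu)
      have hxB : g * x * g⁻¹ ∈ B := hg ▸ hu
      have hyB : g * y * g⁻¹ ∈ B := (hxy g).1 hxB
      have he' := conj_mem hD g he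
      rw [← conj_commute_iff g] at hc ⊢
      have heB : g * e * g⁻¹ ∉ B := by
        intro heB
        refine hne fun k => ?_
        have := hRB _ heB _ hxB (k * g⁻¹)
        rw [show k * g⁻¹ * (g * e * g⁻¹) * (k * g⁻¹)⁻¹ = k * e * k⁻¹ by group,
          show k * g⁻¹ * (g * x * g⁻¹) * (k * g⁻¹)⁻¹ = k * x * k⁻¹ by group] at this
        exact this
      set e' := g * e * g⁻¹ with he'def
      set x' := g * x * g⁻¹ with hx'def
      set y' := g * y * g⁻¹ with hy'def
      by_contra hnc
      have h1 : e' * x' * e'⁻¹ ∈ B := by rw [hc.eq, mul_inv_cancel_right]; exact hxB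
      have h2 : e' * y' * e'⁻¹ ∈ B := hfix e' x' hxB h1 y' hyB
      rw [inv_eq hD.1 he', braid hD.1 he' (hBD hyB) hnc] at h2
      refine heB (hfix' y' y' hyB (by simpa using hyB) e' ?_)
      rwa [inv_eq hD.1 (hBD hyB)]
  set K : Subgroup G :=
    { carrier := {g | ∀ x ∈ D, R (g * x * g⁻¹) x}
      one_mem' := fun x _ g => by simp
      mul_mem' := by
        intro g h hg hh x hx
        rw [show g * h * x * (g * h)⁻¹ = g * (h * x * h⁻¹) * g⁻¹ by group]
        exact hR.trans (hg _ (conj_mem hD h hx)) (hh x hx)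
      inv_mem' := by
        intro g hg x hx
        have := hg _ (conj_mem hD g⁻¹ hx)
        rw [show g * (g⁻¹ * x * g⁻¹⁻¹) * g⁻¹ = x by group] at this
        exact hR.symm this } with hK
  have hKn : K.Normal := by
    refine ⟨fun k hk g x hx => ?_⟩
    have h1 := conj_mem hD g⁻¹ hx
    have := hR.equiv g (conj_mem hD k h1) h1 (hk _ h1)
    rw [show g * (g⁻¹ * x * g⁻¹⁻¹) * g⁻¹ = x by group] at this
    rwa [show g * (k * (g⁻¹ * x * g⁻¹⁻¹) * k⁻¹) * g⁻¹ = g * k * g⁻¹ * x * (g * k * g⁻¹)⁻¹ by group] at this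
  by_cases hLK : layer G ≤ K
  · refine Set.Subset.antisymm hBD fun x hx => ?_
    obtain ⟨l, hl, rfl⟩ := transitive_of_index_le_two hD hi (hBD hu) hx
    have := (hLK hl u (hBD hu) 1).2 (by simpa using hu)
    simpa using this
  exfalso
  haveI : (layer G).Normal := inferInstance
  have hcen : K ≤ centralizer (layer G : Set G) := by
    rw [← commutator_eq_bot_iff_le_centralizer, commutator_comm]
    refine Cfsg.Lib.Components.commutator_eq_bot_of_perfect Cfsg.Lib.Components.layer_perfect ?_
    have hsn : (K.subgroupOf (layer G)).IsSubnormal := Subgroup.Normal.isSubnormal inferInstance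
    rcases Cfsg.Lib.Components.qs_subnormal_eq_top_or_le_center hS.layer_comp.2 hsn with h | h
    · exact absurd (subgroupOf_eq_top.1 h) hLK
    · rw [commutator_eq_bot_iff_le_centralizer]
      intro x hx
      have h1 : x ∈ layer G ⊓ K := commutator_le_inf _ _ hx
      refine mem_centralizer_iff.2 fun y hy => ?_
      exact congrArg Subtype.val (mem_center_iff.1 (h (mem_subgroupOf.2 (show ((⟨x, h1.1⟩ : layer G) : G) ∈ K from h1.2))) ⟨y, hy⟩)
  have huvK : u * v ∈ K := fun x hx => hR.fixes_conj hD (hBD hu) (hBD hv) hx (hRB u hu v hv)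
  exact huv (eq_of_mul_mem_center hD (hBD hu) (hBD hv) (hS.centralizer_le_center (hcen huvK)))

/-- Primitive classes with a commuting pair. -/
structure Rich (D : Set G) : Prop where
  cls : IsThreeTranspositionClass D
  prim : IsPrimitiveUnderConj D
  pair : ∃ a ∈ D, ∃ b ∈ D, a ≠ b ∧ Commute a b

theorem exists_commuting_pair [Finite G] (hD : IsThreeTranspositionClass D) (hD2 : ∃ a ∈ D, ∃ b ∈ D, a ≠ b)
    (h3 : pCore 3 G ≤ center G) : ∃ a ∈ D, ∃ b ∈ D, a ≠ b ∧ Commute a b := by
  by_contra hcon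
  push Not at hcon
  haveI : Fact (Nat.Prime 3) := ⟨Nat.prime_three⟩
  have hp := isPGroup_productSubgroup hD fun a ha b hb h => by_contra fun hne => hcon a ha b hb hne h
  haveI : (productSubgroup D).Normal := by
    refine ⟨fun x hx g => ?_⟩
    induction hx using closure_induction with
    | mem x hx =>
      obtain ⟨a, ha, b, hb, rfl⟩ := hx
      rw [show g * (a * b) * g⁻¹ = g * a * g⁻¹ * (g * b * g⁻¹) by group]
      exact mul_mem_productSubgroup (conj_mem hD g ha) (conj_mem hD g hb)
    | one => simp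
    | mul x y _ _ hx hy => rw [show g * (x * y) * g⁻¹ = g * x * g⁻¹ * (g * y * g⁻¹) by group]; exact mul_mem hx hy
    | inv x _ hx => rw [show g * x⁻¹ * g⁻¹ = (g * x * g⁻¹)⁻¹ by group]; exact inv_mem hx
  obtain ⟨a, ha, b, hb, hne⟩ := hD2
  exact hne (eq_of_mul_mem_center hD ha hb (h3 (Cfsg.Lib.Components.le_pCore hp (mul_mem_productSubgroup ha hb))))

theorem commutator_eq_of_index_le_two [Finite G] (hD : IsThreeTranspositionClass D) {L : Subgroup G} [L.Normal]
    (hp : ⁅L, L⁆ = L) (hi : L.index ≤ 2) : commutator G = L := by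
  refine le_antisymm (commutator_le_of_products hD fun a ha b hb => ?_) ?_
  · obtain ⟨g, hg, rfl⟩ := transitive_of_index_le_two hD hi ha hb
    exact moved_diff_mem hg
  · rw [← hp, commutator_def]
    exact commutator_mono le_top le_top

theorem isSimpleGroup_of_quotient_bot {H : Type*} [Group H] (h : center H = ⊥)
    (hs : IsSimpleGroup (H ⧸ center H)) : IsSimpleGroup H := by
  have e : H ⧸ center H ≃* H := (QuotientGroup.quotientMulEquivOfEq h).trans QuotientGroup.quotientBot
  haveI : Nontrivial H := e.symm.toEquiv.nontrivial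
  exact IsSimpleGroup.isSimpleGroup_of_surjective e.toMonoidHom e.surjective

theorem core_le_center_or_commutator_le [Finite G] (hs : IsSimpleGroup (commutator G)) (p : ℕ) :
    pCore p G ≤ center G ∨ commutator G ≤ pCore p G := by
  haveI := (Cfsg.Lib.Components.pCore_normal_and_isPGroup (G := G) p).1
  haveI : ((pCore p G).subgroupOf (commutator G)).Normal := inferInstance
  rcases IsSimpleGroup.eq_bot_or_eq_top_of_normal ((pCore p G).subgroupOf (commutator G)) inferInstance with h | h
  · left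
    intro x hx
    rw [mem_center_iff]
    intro g
    have h1 : ⁅g, x⁆ ∈ pCore p G := by
      rw [commutatorElement_def]
      exact mul_mem ((inferInstance : (pCore p G).Normal).conj_mem x hx g) (inv_mem hx)
    have h2 : ⁅g, x⁆ ∈ commutator G := commutator_mem_commutator (mem_top g) (mem_top x)
    have h3 : (⟨_, h2⟩ : commutator G) ∈ (⊥ : Subgroup (commutator G)) := h ▸ (mem_subgroupOf.2 h1)
    exact commutatorElement_eq_one_iff_mul_comm.1 (congrArg Subtype.val (mem_bot.1 h3))
  · exact Or.inr (subgroupOf_eq_top.1 h)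

theorem orderOf_eq_of_mem_simple_pgroup [Finite G] (hs : IsSimpleGroup (commutator G)) {p : ℕ} [Fact p.Prime]
    (hle : commutator G ≤ pCore p G) {x : G} (hx : x ∈ commutator G) (hx1 : x ≠ 1) : orderOf x = p := by
  have hp : IsPGroup p (commutator G) := (Cfsg.Lib.Components.isPGroup_pCore p).to_le hle
  haveI : Nontrivial (commutator G) := hs.toNontrivial
  have hz : center (commutator G) = ⊤ :=
    (IsSimpleGroup.eq_bot_or_eq_top_of_normal _ inferInstance).resolve_left
      fun h => (nontrivial_iff_ne_bot _).1 hp.center_nontrivial h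
  letI : CommGroup (commutator G) :=
    { mul_comm := fun a b => ((mem_center_iff.1 (hz ▸ mem_top a)) b).symm }
  haveI : IsSimpleGroup (commutator G) := hs
  have hc : (Nat.card (commutator G)).Prime := IsSimpleGroup.prime_card
  obtain ⟨n, hn⟩ := IsPGroup.iff_card.1 hp
  have hcard : Nat.card (commutator G) = p := by
    rcases n with _ | _ | n
    · rw [hn, pow_zero] at hc; exact absurd hc Nat.not_prime_one
    · rw [hn, pow_one]
    · exact absurd (hn ▸ hc) (Nat.Prime.not_prime_pow (by omega))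
  have := Subgroup.orderOf_dvd_natCard (commutator G) hx
  rw [hcard] at this
  exact ((Nat.dvd_prime Fact.out).1 this).resolve_left fun h => hx1 (orderOf_eq_one_iff.1 h)

theorem semisimple_of_simple_commutator [Finite G] (hD : IsThreeTranspositionClass D)
    (hw : ∃ a ∈ D, ∃ b ∈ D, a ≠ b ∧ Commute a b) (hs : IsSimpleGroup (commutator G)) : Semisimple D := by
  obtain ⟨a, ha, b, hb, hab, hc⟩ := hw
  refine ⟨hD, ⟨a, ha, b, hb, hab⟩, (core_le_center_or_commutator_le hs 2).resolve_right ?_,
    (core_le_center_or_commutator_le hs 3).resolve_right ?_⟩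
  · intro hle
    haveI : Fact (Nat.Prime 2) := ⟨Nat.prime_two⟩
    obtain ⟨e, he, hne⟩ := exists_not_commute hD ⟨a, ha, b, hb, hab⟩ ha
    have h := mul_mem_commutator hD ha he
    rw [inv_eq hD.1 ha] at h
    have h3 := orderOf_of_not_commute hD.1 ha he hne
    have := orderOf_eq_of_mem_simple_pgroup hs hle h fun h1 => by simp [h1] at h3
    omega
  · intro hle
    haveI : Fact (Nat.Prime 3) := ⟨Nat.prime_three⟩
    have h := mul_mem_commutator hD ha hb
    rw [inv_eq hD.1 ha] at h
    have h2 := orderOf_mul_of_commute hD.1 ha hb hab hc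
    have := orderOf_eq_of_mem_simple_pgroup hs hle h fun h1 => by simp [h1] at h2
    omega

theorem index_le_two_of_simple_commutator [Finite G] (hS : Semisimple D) (hs : IsSimpleGroup (commutator G)) :
    (layer G).index ≤ 2 := by
  have hle : layer G ≤ commutator G := by
    rw [← Cfsg.Lib.Components.layer_perfect (G := G), commutator_def]
    exact commutator_mono le_top le_top
  haveI : ((layer G).subgroupOf (commutator G)).Normal := inferInstance
  rcases IsSimpleGroup.eq_bot_or_eq_top_of_normal ((layer G).subgroupOf (commutator G)) inferInstance with h | h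
  · exact absurd ((subgroupOf_eq_bot.1 h).eq_bot_of_le hle) (layer_ne_bot hS.cls hS.two hS.h2 hS.h3)
  · exact index_le_two_of_products hS.cls fun a ha b hb => subgroupOf_eq_top.1 h (mul_mem_commutator hS.cls ha hb)

/-- The hypotheses of Fischer's theorem: no solvable normal subgroup, perfect derived group. -/
theorem rich_of_fischer [Finite G] (hsol : ∀ N : Subgroup G, N.Normal → Group.IsSolvable N → N = ⊥)
    (hperf : ⁅commutator G, commutator G⁆ = commutator G) (hD : IsThreeTranspositionClass D) :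
    Semisimple D ∧ (layer G).index ≤ 2 ∧ Rich D := by
  obtain ⟨d, hd, -⟩ := hD.2.1
  have hcore : ∀ p : ℕ, p.Prime → pCore p G = ⊥ := fun p hp => by
    haveI := Fact.mk hp
    haveI := (Cfsg.Lib.Components.isPGroup_pCore (G := G) p).isNilpotent
    exact hsol _ (Cfsg.Lib.Components.pCore_normal_and_isPGroup (G := G) p).1 inferInstance
  have hD2 : ∃ a ∈ D, ∃ b ∈ D, a ≠ b := by
    by_contra h
    push Not at h
    have hn : (zpowers d).Normal := by
      refine ⟨fun x hx g => ?_⟩
      obtain ⟨i, rfl⟩ := hx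
      refine ⟨i, ?_⟩
      show d ^ i = g * d ^ i * g⁻¹
      rw [← conj_zpow, h _ (conj_mem hD g hd) d hd]
    have := hsol _ hn (Group.isSolvable_of_comm fun a b => mul_comm' a b)
    rw [zpowers_eq_bot] at this
    have h2 := hD.1.1 d hd
    simp [this] at h2
  have hS : Semisimple D := ⟨hD, hD2, hcore 2 Nat.prime_two ▸ bot_le, hcore 3 Nat.prime_three ▸ bot_le⟩
  set L := layer G with hLdef
  have hi : L.index ≤ 2 := by
    by_cases hdL : (d : G ⧸ L) = 1
    · refine index_le_two_of_products hD fun a ha b hb => ?_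
      have hall : ∀ x ∈ D, x ∈ L := fun x hx => by
        obtain ⟨k, rfl⟩ := exists_conj hD hd hx
        exact (inferInstance : L.Normal).conj_mem d ((QuotientGroup.eq_one_iff d).1 hdL) k
      exact mul_mem (inv_mem (hall a ha)) (hall b hb)
    haveI : Fact (Nat.Prime 3) := ⟨Nat.prime_three⟩
    have hcls := map_class hD (QuotientGroup.mk' L) (QuotientGroup.mk'_surjective L) hd hdL
    have hp := isPGroup_productSubgroup hcls (by
      rintro _ ⟨a, ha, rfl⟩ _ ⟨b, hb, rfl⟩ h
      refine QuotientGroup.eq.2 (hS.width ha hb ?_)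
      rw [← commutatorElement_def, ← QuotientGroup.eq_one_iff, ← QuotientGroup.mk'_apply, map_commutatorElement,
        commutatorElement_eq_one_iff_mul_comm]
      exact h.eq)
    set N := (productSubgroup ((QuotientGroup.mk' L) '' D)).comap (QuotientGroup.mk' L) with hN
    have hNn : N.Normal := by
      refine Subgroup.Normal.comap ⟨fun x hx g => ?_⟩ _
      induction hx using closure_induction with
      | mem x hx =>
        obtain ⟨a, ha, b, hb, rfl⟩ := hx
        rw [show g * (a * b) * g⁻¹ = g * a * g⁻¹ * (g * b * g⁻¹) by group]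
        exact mul_mem_productSubgroup (conj_mem hcls g ha) (conj_mem hcls g hb)
      | one => simp
      | mul x y _ _ hx hy => rw [show g * (x * y) * g⁻¹ = g * x * g⁻¹ * (g * y * g⁻¹) by group]; exact mul_mem hx hy
      | inv x _ hx => rw [show g * x⁻¹ * g⁻¹ = (g * x * g⁻¹)⁻¹ by group]; exact inv_mem hx
    have hG' : commutator G ≤ N := by
      refine commutator_le_of_products hD fun a ha b hb => ?_
      rw [hN, mem_comap, map_mul, map_inv, inv_eq hcls.1 ⟨a, ha, rfl⟩]
      exact mul_mem_productSubgroup ⟨a, ha, rfl⟩ ⟨b, hb, rfl⟩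
    set M := (commutator G).map (QuotientGroup.mk' L) with hM
    have hMbot : M = ⊥ := by
      by_contra hne
      haveI := (nontrivial_iff_ne_bot M).2 hne
      have hMp : IsPGroup 3 M := hp.to_le (by rw [hM, map_le_iff_le_comap]; exact hG')
      haveI := hMp.isNilpotent
      have hMperf : ⁅M, M⁆ = M := by rw [hM, ← map_commutator, hperf]
      haveI : Group.IsPerfect M := ⟨by
        apply Subgroup.map_injective M.subtype_injective
        rw [commutator_def, map_commutator, ← MonoidHom.range_eq_map, range_subtype, hMperf]⟩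
      exact Group.IsPerfect.not_isSolvable M inferInstance
    refine index_le_two_of_products hD fun a ha b hb => ?_
    rw [← QuotientGroup.eq_one_iff, ← QuotientGroup.mk'_apply, ← mem_bot, ← hMbot]
    exact mem_map_of_mem _ (mul_mem_commutator hD ha hb)
  exact ⟨hS, hi, hD, hS.primitive hi, exists_commuting_pair hD hD2 hS.h3⟩

theorem rich_of_simple [Finite G] (hD : IsThreeTranspositionClass D) (hs : IsSimpleGroup (commutator G))
    (hna : ∃ x y : commutator G, x * y ≠ y * x) : Semisimple D ∧ (layer G).index ≤ 2 ∧ Rich D := by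
  obtain ⟨x, y, hxy⟩ := hna
  obtain ⟨d, hd, -⟩ := hD.2.1
  have hD2 : ∃ a ∈ D, ∃ b ∈ D, a ≠ b := by
    by_contra h
    push Not at h
    have := commutator_le_of_products (N := (⊥ : Subgroup G)) hD fun a ha b hb => by
      rw [h a ha b hb, inv_mul_cancel]; exact one_mem _
    exact hxy (Subtype.ext (by
      rw [mem_bot.1 (this (x * y).2), mem_bot.1 (this (y * x).2)]))
  have hcore : ∀ p : ℕ, p.Prime → pCore p G ≤ center G := fun p hp => by
    haveI := Fact.mk hp
    refine (core_le_center_or_commutator_le hs p).resolve_right fun hle => hxy ?_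
    haveI : Nontrivial (commutator G) := hs.toNontrivial
    have hz : center (commutator G) = ⊤ :=
      (IsSimpleGroup.eq_bot_or_eq_top_of_normal _ inferInstance).resolve_left fun h =>
        (nontrivial_iff_ne_bot _).1 ((Cfsg.Lib.Components.isPGroup_pCore p).to_le hle).center_nontrivial h
    exact (mem_center_iff.1 (hz ▸ mem_top y)) x
  have hS : Semisimple D := ⟨hD, hD2, hcore 2 Nat.prime_two, hcore 3 Nat.prime_three⟩
  have hi := index_le_two_of_simple_commutator hS hs
  exact ⟨hS, hi, hD, hS.primitive hi, exists_commuting_pair hD hD2 hS.h3⟩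

end Cfsg.Lib.ThreeTr
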