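import Cfsg.Agent.ThreeTransposition.Relations
import Cfsg.Agent.S0280
import Cfsg.Agent.S0283

/-!
Relations among commuting members in the groups of type M(22), M(23) and M(24).
-/

set_option linter.unusedSectionVars false
set_option linter.style.haveILetI false

namespace Cfsg.Lib.ThreeTr

open Cfsg Subgroup

variable {G : Type*} [Group G] {D : Set G}

theorem pCore_le_center_of_simple [Finite G] [IsSimpleGroup G] {p : ℕ} [Fact p.Prime] :
    pCore p G ≤ center G := by
  rcases IsSimpleGroup.eq_bot_or_eq_top_of_normal (pCore p G)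
    (Cfsg.Lib.Components.pCore_normal_and_isPGroup (G := G) p).1 with h | h
  · rw [h]; exact bot_le
  have hp : IsPGroup p (⊤ : Subgroup G) := h ▸ (Cfsg.Lib.Components.isPGroup_pCore (G := G) p)
  have hp' : IsPGroup p G := hp.of_equiv Subgroup.topEquiv
  haveI : Nontrivial G := IsSimpleGroup.toNontrivial
  rcases IsSimpleGroup.eq_bot_or_eq_top_of_normal (center G) inferInstance with hc | hc
  · exact absurd hp'.center_nontrivial (by rw [hc]; exact not_nontrivial _)
  · rw [hc]; exact le_top

/-- In a simple nonabelian group a conjugation invariant generating set of 3-transpositions is one twin-free class. -/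
theorem class_of_simple [Finite G] [IsSimpleGroup G] (hE : IsThreeTranspositionSet D)
    (hconj : ∀ g : G, ∀ d ∈ D, g * d * g⁻¹ ∈ D) (hgen : closure D = ⊤) (hc : center G = ⊥) :
    IsThreeTranspositionClass D ∧ TwinFree D := by
  haveI : Nontrivial G := IsSimpleGroup.toNontrivial
  obtain ⟨e, he⟩ : D.Nonempty := by
    by_contra h
    rw [Set.not_nonempty_iff_eq_empty.1 h, Subgroup.closure_empty] at hgen
    exact bot_ne_top hgen
  have hsub : conjugatesOf e ⊆ D := by
    intro x hx
    obtain ⟨g, rfl⟩ := isConj_iff.1 hx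
    exact hconj g e he
  have htop : normalClosure ({e} : Set G) = ⊤ := by
    refine (IsSimpleGroup.eq_bot_or_eq_top_of_normal _ normalClosure_normal).resolve_left fun h => ?_
    have h1 : e ∈ (⊥ : Subgroup G) := h ▸ subset_normalClosure rfl
    have h2 := hE.1 e he
    rw [mem_bot.1 h1, orderOf_one] at h2
    norm_num at h2
  have hD : IsThreeTranspositionClass D := by
    refine ⟨hE, ⟨e, he, Set.Subset.antisymm (fun b hb => ?_) hsub⟩, hgen⟩
    by_contra hbe
    have hcomm : normalClosure ({e} : Set G) ≤ centralizer ({b} : Set G) := by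
      refine (closure_le _).2 fun a ha => ?_
      obtain ⟨e', he', ha'⟩ := Group.mem_conjugatesOfSet_iff.1 ha
      obtain rfl : e' = e := he'
      refine mem_centralizer_singleton_iff.2 (Commute.eq ?_)
      by_contra hne
      exact hbe (show IsConj e' b from
        IsConj.trans ha' (isConj_iff.2 ⟨_, mul_conj_eq hE (hsub ha') hb hne⟩))
    have hb1 : b ∈ center G := mem_center_iff.2 fun g =>
      mem_centralizer_singleton_iff.1 (hcomm (htop ▸ mem_top g))
    rw [hc, mem_bot] at hb1
    have h2 := hE.1 b hb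
    rw [hb1, orderOf_one] at h2
    norm_num at h2
  refine ⟨hD, fun a ha b hb h => ?_⟩
  haveI : Fact (Nat.Prime 2) := ⟨Nat.prime_two⟩
  exact eq_of_mul_mem_center hD ha hb (pCore_le_center_of_simple (vRel_mem_pCore hD ha hb h))

theorem psu_six_facts {F : Type} [Field F] [Fintype F] (hF : Fintype.card F = 4) :
    Nat.card (Cfsg.PSU 6 F 2) = 9196830720 ∧ IsSimpleGroup (Cfsg.PSU 6 F 2) ∧
      center (Cfsg.PSU 6 F 2) = ⊥ := by
  have hc : Nat.card (Cfsg.PSU 6 F 2) = 9196830720 := by
    have h := Cfsg.Agent.S0280.result (F := F) (q := 2) (by rw [hF]; norm_num) 6 (by norm_num)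
    norm_num [Finset.prod_range_succ, Nat.even_iff] at h
    omega
  haveI hs : IsSimpleGroup (Cfsg.PSU 6 F 2) :=
    Cfsg.Agent.S0283.result (F := F) (q := 2) (by rw [hF]; norm_num) 6 (by norm_num) (by norm_num)
  refine ⟨hc, hs, ?_⟩
  haveI : Finite (Cfsg.PSU 6 F 2) := Nat.finite_of_card_ne_zero (by rw [hc]; norm_num)
  refine (IsSimpleGroup.eq_bot_or_eq_top_of_normal (center (Cfsg.PSU 6 F 2)) inferInstance).resolve_right fun h => ?_
  letI : CommGroup (Cfsg.PSU 6 F 2) := { (inferInstance : Group (Cfsg.PSU 6 F 2)) with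
    mul_comm := fun a b => (mem_center_iff.1 (h ▸ mem_top b) a) }
  have hp := IsSimpleGroup.prime_card (α := Cfsg.PSU 6 F 2)
  rw [hc] at hp
  exact absurd (hp.eq_one_or_self_of_dvd 2 (by norm_num)) (by norm_num)

/-- The quotient at the distinguished member of a group of type M(22). -/
theorem m22_perp_facts [Finite G] (h22 : IsOfTypeM22 G D) :
    ∃ d ∈ D, ∃ c ∈ D, ¬ Commute d c ∧
      Nat.card (↥(closure (perp D d)) ⧸ center ↥(closure (perp D d))) = 9196830720 ∧
      IsSimpleGroup (↥(closure (perp D d)) ⧸ center ↥(closure (perp D d))) ∧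
      center (↥(closure (perp D d)) ⧸ center ↥(closure (perp D d))) = ⊥ ∧
      Nat.card (↥(closure (perp D d ∩ perp D c)) ⧸ center ↥(closure (perp D d ∩ perp D c))) ∣
        Nat.card (GL (Fin 6) (ZMod 3)) := by
  obtain ⟨-, d, hd, c, hc, hdc, ⟨F, _, _, hF, ⟨e⟩⟩, c₃, -, Q, -, -, ⟨i⟩⟩ := h22
  obtain ⟨hcard, hsimp, hZ⟩ := psu_six_facts hF
  haveI : Nontrivial (↥(closure (perp D d)) ⧸ center ↥(closure (perp D d))) :=
    haveI := hsimp.toNontrivial
    e.toEquiv.nontrivial
  refine ⟨d, hd, c, hc, hdc, (Nat.card_congr e.toEquiv).trans hcard, ?_, ?_, ?_⟩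
  · haveI := hsimp
    exact IsSimpleGroup.isSimpleGroup_of_surjective e.symm.toMonoidHom e.symm.surjective
  · rw [eq_bot_iff]
    intro x hx
    have : e x ∈ center (Cfsg.PSU 6 F 2) := mem_center_iff.2 fun y => by
      obtain ⟨z, rfl⟩ := e.surjective y
      exact (e.map_mul z x).symm.trans ((congrArg e (mem_center_iff.1 hx z)).trans (e.map_mul x z))
    rw [hZ, mem_bot] at this
    exact mem_bot.2 (e.injective (this.trans e.map_one.symm))
  · refine (Nat.card_congr i.toEquiv) ▸ (Subgroup.card_quotient_dvd_card _).trans ?_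
    exact (Subgroup.card_subgroup_dvd_card _).trans (Subgroup.card_subgroup_dvd_card _)

theorem not_two_pow_fifteen_dvd_gl : ¬ 9196830720 ∣ Nat.card (GL (Fin 6) (ZMod 3)) := by
  haveI : Fact (Nat.Prime 3) := ⟨Nat.prime_three⟩
  rw [Matrix.card_GL_field, Fin.prod_univ_six, ZMod.card]
  norm_num

/-- A group of type M(22) has one class of transpositions, and it is twin-free. -/
theorem m22_class [Finite G] (hD : IsThreeTranspositionGroup D) (h22 : IsOfTypeM22 G D) :
    IsThreeTranspositionClass D ∧ TwinFree D := by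
  obtain ⟨hE, hconj, hgen⟩ := hD
  have hZG := h22.1
  obtain ⟨d, hd, c, hc, hdc, hcard, hsimp, hZQ, hdvd⟩ := m22_perp_facts h22
  haveI := hsimp
  set H := closure (perp D d) with hH
  -- the noncentral members in a class of the quotient
  have hone : ∀ x ∈ D, x ∉ center G := fun x hx h => by
    rw [hZG, mem_bot] at h
    have h2 := hE.1 x hx
    rw [h, orderOf_one] at h2
    norm_num at h2
  have hclass : D = conjugatesOf d := by
    refine Set.Subset.antisymm (fun b hb => ?_) fun x hx => ?_
    swap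
    · obtain ⟨g, rfl⟩ := isConj_iff.1 hx
      exact hconj g d hd
    by_contra hbA
    set B : Set G := {x | x ∈ D ∧ ¬ IsConj d x} with hB
    have hBA : ∀ a ∈ D, IsConj d a → ∀ x ∈ B, Commute a x := by
      intro a ha had x hx
      by_contra hne
      exact hx.2 (had.trans (isConj_iff.2 ⟨_, mul_conj_eq hE ha hx.1 hne⟩))
    have hBperp : ∀ x ∈ B, x ∈ perp D d := fun x hx =>
      ⟨hx.1, fun e => hx.2 (e ▸ IsConj.refl _), hBA d hd (IsConj.refl d) x hx⟩
    have hBH : closure B ≤ H := (closure_le _).2 fun x hx => subset_closure (hBperp x hx)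
    have hBn : ∀ g : G, ∀ x ∈ closure B, g * x * g⁻¹ ∈ closure B := by
      intro g x hx
      induction hx using closure_induction with
      | mem x hx =>
        refine subset_closure ⟨hconj g x hx.1, fun h => hx.2 (h.trans ?_)⟩
        exact isConj_iff.2 ⟨g⁻¹, by group⟩
      | one => simp
      | mul u v _ _ hu hv => rw [show g * (u * v) * g⁻¹ = g * u * g⁻¹ * (g * v * g⁻¹) by group]; exact mul_mem hu hv
      | inv u _ hu => rw [show g * u⁻¹ * g⁻¹ = (g * u * g⁻¹)⁻¹ by group]; exact inv_mem hu
    haveI hBnH : ((closure B).subgroupOf H).Normal :=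
      ⟨fun x hx g => by simpa [mem_subgroupOf] using hBn (g : G) x hx⟩
    set π := QuotientGroup.mk' (center ↥H) with hπ
    -- a member outside the class of `d` is noncentral in `H`
    have hbnc : (⟨b, hBH (subset_closure ⟨hb, hbA⟩)⟩ : ↥H) ∉ center ↥H := by
      intro hcen
      refine hone b hb (mem_center_iff.2 fun g => ?_)
      have hle : closure D ≤ centralizer ({b} : Set G) := by
        refine (closure_le _).2 fun w hw => mem_centralizer_singleton_iff.2 (Commute.eq ?_)
        by_cases hwA : IsConj d w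
        · exact hBA w hw hwA b ⟨hb, hbA⟩
        · exact congrArg Subtype.val (mem_center_iff.1 hcen ⟨w, hBH (subset_closure ⟨hw, hwA⟩)⟩)
      exact mem_centralizer_singleton_iff.1 (hle (hgen ▸ mem_top g))
    have htop : ((closure B).subgroupOf H).map π = ⊤ :=
      (IsSimpleGroup.eq_bot_or_eq_top_of_normal _ (Subgroup.Normal.map hBnH π (QuotientGroup.mk'_surjective _))).resolve_left
        fun h => hbnc ((QuotientGroup.eq_one_iff _).1 (mem_bot.1 (h ▸ mem_map_of_mem π
          (show (⟨b, hBH (subset_closure ⟨hb, hbA⟩)⟩ : ↥H) ∈ (closure B).subgroupOf H from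
            subset_closure ⟨hb, hbA⟩))))
    have hgenB : ∀ h : ↥H, ∃ u : ↥H, (u : G) ∈ closure B ∧ π u = π h := fun h => by
      obtain ⟨u, hu, hu'⟩ := mem_map.1 (htop ▸ mem_top (π h) : π h ∈ ((closure B).subgroupOf H).map π)
      exact ⟨u, hu, hu'⟩
    -- members of the class in `H` are central there
    have hAcen : ∀ a : ↥H, (a : G) ∈ D → IsConj d (a : G) → a ∈ center ↥H := by
      intro a ha had
      rw [← QuotientGroup.eq_one_iff, ← mem_bot, ← hZQ, mem_center_iff]
      intro q
      obtain ⟨h, rfl⟩ := QuotientGroup.mk'_surjective (center ↥H) q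
      obtain ⟨u, hu, hu'⟩ := hgenB h
      rw [show (QuotientGroup.mk' (center ↥H)) h = π u from hu'.symm]
      show π u * π a = π a * π u
      rw [← map_mul, ← map_mul]
      congr 1
      refine Subtype.ext ?_
      have hle : closure B ≤ centralizer ({(a : G)} : Set G) :=
        (closure_le _).2 fun x hx => mem_centralizer_singleton_iff.2 (hBA a ha had x hx).symm.eq
      exact mem_centralizer_singleton_iff.1 (hle hu)
    have hcA : IsConj d c := isConj_iff.2 ⟨_, mul_conj_eq hE hd hc hdc⟩
    set L := closure (perp D d ∩ perp D c) with hL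
    have hBL : closure B ≤ L := by
      refine (closure_le _).2 fun x hx => subset_closure ⟨hBperp x hx, hx.1, fun e => hx.2 (e ▸ hcA), ?_⟩
      exact hBA c hc hcA x hx
    have hLH : L ≤ H := closure_mono Set.inter_subset_left
    set f : ↥L →* ↥H ⧸ center ↥H := π.comp (inclusion hLH) with hf
    have hsurj : Function.Surjective f := by
      intro q
      obtain ⟨h, rfl⟩ := QuotientGroup.mk'_surjective (center ↥H) q
      obtain ⟨u, hu, hu'⟩ := hgenB h
      exact ⟨⟨u, hBL hu⟩, hu'⟩
    have hker : f.ker = center ↥L := by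
      ext z
      rw [MonoidHom.mem_ker, hf, MonoidHom.comp_apply, hπ, QuotientGroup.mk'_apply, QuotientGroup.eq_one_iff,
        mem_center_iff, mem_center_iff]
      constructor
      · intro h g
        exact Subtype.ext (congrArg (Subtype.val : ↥H → G) (h (inclusion hLH g)))
      · intro h g
        refine Subtype.ext ?_
        have hle : H ≤ centralizer ({(z : G)} : Set G) := by
          refine (closure_le _).2 fun w hw => mem_centralizer_singleton_iff.2 ?_
          by_cases hwA : IsConj d w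
          · exact (congrArg Subtype.val
              (mem_center_iff.1 (hAcen ⟨w, subset_closure hw⟩ hw.1 hwA) (inclusion hLH z))).symm
          · exact congrArg Subtype.val (h ⟨w, hBL (subset_closure ⟨hw.1, hwA⟩)⟩)
        exact mem_centralizer_singleton_iff.1 (hle g.2)
    have hcong := Nat.card_congr (QuotientGroup.quotientKerEquivOfSurjective f hsurj).toEquiv
    rw [hcard] at hcong
    have hLZ : Nat.card (↥L ⧸ center ↥L) = 9196830720 :=
      (Nat.card_congr (QuotientGroup.quotientMulEquivOfEq hker).toEquiv).symm.trans hcong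
    exact not_two_pow_fifteen_dvd_gl (hLZ ▸ hdvd)
  have hcls : IsThreeTranspositionClass D := ⟨hE, ⟨d, hd, hclass⟩, hgen⟩
  refine ⟨hcls, ?_⟩
  -- no twins at one member, hence none
  obtain ⟨x, hx, hxnc⟩ : ∃ x : ↥H, (x : G) ∈ perp D d ∧ x ∉ center ↥H := by
    by_contra h
    push Not at h
    have hall : center ↥H = ⊤ := by
      rw [eq_top_iff, ← closure_perp_eq_top (D := D) d]
      exact (closure_le _).2 fun x hx => h x hx
    haveI : Subsingleton (↥H ⧸ center ↥H) := by
      rw [hall]; exact QuotientGroup.subsingleton_quotient_top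
    have := Nat.card_of_subsingleton (1 : ↥H ⧸ center ↥H)
    omega
  set S : Set (↥H ⧸ center ↥H) :=
    (QuotientGroup.mk : ↥H → _) '' {y | (y : G) ∈ perp D d ∧ y ∉ center ↥H} with hS
  have hSset : IsThreeTranspositionSet S := by
    refine ⟨?_, ?_⟩
    · rintro _ ⟨y, ⟨hy, hync⟩, rfl⟩
      refine orderOf_eq_prime (p := 2) ?_ fun h => hync ((QuotientGroup.eq_one_iff y).1 h)
      rw [← QuotientGroup.mk_pow, show y ^ 2 = 1 from Subtype.ext (by simpa [sq] using sq_eq_one hE hy.1),
        QuotientGroup.mk_one]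
    · rintro _ ⟨y, ⟨hy, -⟩, rfl⟩ _ ⟨z, ⟨hz, -⟩, rfl⟩
      rcases hE.2 _ hy.1 _ hz.1 with h | h
      · left
        rw [← QuotientGroup.mk_mul, ← QuotientGroup.mk_pow, show (y * z) ^ 2 = 1 from Subtype.ext (by simpa using h),
          QuotientGroup.mk_one]
      · right
        rw [← QuotientGroup.mk_mul, ← QuotientGroup.mk_pow, show (y * z) ^ 3 = 1 from Subtype.ext (by simpa using h),
          QuotientGroup.mk_one]
  have hSconj : ∀ g : ↥H ⧸ center ↥H, ∀ s ∈ S, g * s * g⁻¹ ∈ S := by
    rintro g _ ⟨y, ⟨hy, hync⟩, rfl⟩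
    obtain ⟨g, rfl⟩ := QuotientGroup.mk_surjective g
    refine ⟨g * y * g⁻¹, ⟨by simpa using conj_mem_perp hconj g.2 hy, fun h => hync ?_⟩, rfl⟩
    have := (inferInstance : (center ↥H).Normal).conj_mem _ h g⁻¹
    rwa [show g⁻¹ * (g * y * g⁻¹) * g⁻¹⁻¹ = y by group] at this
  have hSgen : closure S = ⊤ := by
    refine eq_top_iff.2 ((closure_descSet (D := D) d).symm.le.trans ((closure_le _).2 ?_))
    rintro _ ⟨y, hy, rfl⟩
    by_cases hync : y ∈ center ↥H
    · rw [(QuotientGroup.eq_one_iff y).2 hync]; exact one_mem _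
    · exact subset_closure ⟨y, ⟨hy, hync⟩, rfl⟩
  obtain ⟨-, hST⟩ := class_of_simple hSset hSconj hSgen hZQ
  -- `x` has no twin
  have hx0 : ∀ v ∈ D, VRel D (x : G) v → (x : G) = v := by
    intro v hv h
    have hvd : Commute d v := ((h d hd).1 hx.2.2.symm).symm
    have hvperp : v ∈ perp D d ∨ v = d := by
      by_cases hvd' : v = d
      · exact Or.inr hvd'
      · exact Or.inl ⟨hv, hvd', hvd⟩
    rcases hvperp with hvp | rfl
    swap
    · refine absurd (mem_center_iff.2 fun g => Subtype.ext ?_) hxnc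
      have hle : H ≤ centralizer ({(x : G)} : Set G) :=
        (closure_le _).2 fun w hw => mem_centralizer_singleton_iff.2 ((h w hw.1).2 hw.2.2).symm.eq
      exact mem_centralizer_singleton_iff.1 (hle g.2)
    set y : ↥H := ⟨v, subset_closure hvp⟩ with hy
    have hync : y ∉ center ↥H := by
      intro hcy
      refine hxnc (mem_center_iff.2 fun g => Subtype.ext ?_)
      have hle : H ≤ centralizer ({(x : G)} : Set G) :=
        (closure_le _).2 fun w hw => mem_centralizer_singleton_iff.2 (((h w hw.1).2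
          (congrArg Subtype.val (mem_center_iff.1 hcy ⟨w, subset_closure hw⟩)).symm)).symm.eq
      exact mem_centralizer_singleton_iff.1 (hle g.2)
    have hq : (x : ↥H ⧸ center ↥H) = y := by
      refine hST _ ⟨x, ⟨hx, hxnc⟩, rfl⟩ _ ⟨y, ⟨hvp, hync⟩, rfl⟩ ?_
      rintro _ ⟨w, ⟨hw, -⟩, rfl⟩
      constructor
      · intro hxw
        exact (show Commute y w from Subtype.ext
          (((h w hw.1).1 (commute_of_commute_mk hE hconj hx hw hxnc hxw))).eq).map (QuotientGroup.mk' _)
      · intro hyw
        exact (show Commute x w from Subtype.ext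
          (((h w hw.1).2 (commute_of_commute_mk hE hconj hvp hw hync hyw))).eq).map (QuotientGroup.mk' _)
    exact congrArg Subtype.val (mk_injOn hE hconj hx hvp hxnc hq)
  intro a ha b hb h
  obtain ⟨g, hg⟩ := exists_conj hcls ha hx.1
  have h' := (vRel_isClassRel hcls).equiv g ha hb h
  rw [hg] at h'
  have := hx0 _ (hconj g b hb) h'
  rw [← hg] at this
  exact mul_left_cancel (mul_right_cancel this)

/-- No five commuting members of a class of type M(22) have product one. -/
theorem m22_five [Finite G] (hcls : IsThreeTranspositionClass D) (hT : TwinFree D) (h22 : IsOfTypeM22 G D) :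
    NoRel D 5 := by
  obtain ⟨d, hd, c, -, -, -, hsimp, hZQ, -⟩ := m22_perp_facts h22
  haveI := hsimp
  have hconj : ∀ g : G, ∀ x ∈ D, g * x * g⁻¹ ∈ D := fun g x hx => conj_mem hcls g hx
  have hset := descSet_set hcls.1 (p := d) fun x hx => not_mem_center_of_twinFree hcls hT hd hx
  obtain ⟨-, hT'⟩ := class_of_simple hset (fun g x hx => conj_mem_descSet hconj g hx) (closure_descSet d) hZQ
  exact noRel_succ hcls hT hd (four_noRel hset hT')

/-- No five commuting members of a class of type M(23) have product one. -/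
theorem m23_five [Finite G] (hcls : IsThreeTranspositionClass D) (hT : TwinFree D) (h23 : IsOfTypeM23 G D) :
    NoRel D 5 := by
  obtain ⟨-, d, hd, c, -, -, h22, -⟩ := h23
  have hconj : ∀ g : G, ∀ x ∈ D, g * x * g⁻¹ ∈ D := fun g x hx => conj_mem hcls g hx
  have hset := descSet_set hcls.1 (p := d) fun x hx => not_mem_center_of_twinFree hcls hT hd hx
  obtain ⟨-, hT'⟩ := m22_class ⟨hset, fun g x hx => conj_mem_descSet hconj g hx, closure_descSet d⟩ h22
  exact noRel_succ hcls hT hd (four_noRel hset hT')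

theorem pCore_le_center_conj [Finite G] (hD : IsThreeTranspositionClass D) {p q : G} (hp : p ∈ D) (hq : q ∈ D)
    {r : ℕ} [Fact r.Prime] (h : pCore r ↥(closure (perp D p)) ≤ center ↥(closure (perp D p))) :
    pCore r ↥(closure (perp D q)) ≤ center ↥(closure (perp D q)) := by
  obtain ⟨g, rfl⟩ := exists_conj hD hp hq
  have hmap : (closure (perp D p)).map (MulAut.conj g).toMonoidHom = closure (perp D (g * p * g⁻¹)) := by
    rw [MonoidHom.map_closure, ← conj_image_perp hD g p]
    rfl
  set e : ↥(closure (perp D p)) ≃* ↥(closure (perp D (g * p * g⁻¹))) :=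
    ((MulAut.conj g).subgroupMap (closure (perp D p))).trans (MulEquiv.subgroupCongr hmap) with he
  rw [← Cfsg.Lib.Functor.map_pCore e]
  rintro _ ⟨x, hx, rfl⟩
  refine mem_center_iff.2 fun y => ?_
  obtain ⟨y, rfl⟩ := e.surjective y
  show e y * e x = e x * e y
  rw [← map_mul, ← map_mul, mem_center_iff.1 (h hx) y]

/-- No six commuting members of a class of type M(23) or M(24) have product one. -/
theorem six_noRel [Finite G] (hG : IsThreeTranspositionGroup D) (hprim : IsPrimitiveUnderConj D) {d₀ : G}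
    (hd₀ : d₀ ∈ D) (h2 : pCore 2 ↥(closure (perp D d₀)) ≤ center ↥(closure (perp D d₀)))
    (h : IsOfTypeM23 G D ∨ IsOfTypeM24 G D) :
    IsThreeTranspositionClass D ∧ TwinFree D ∧ NoRel D 6 := by
  obtain ⟨hE, hconj, hgen⟩ := hG
  haveI : Fact (Nat.Prime 2) := ⟨Nat.prime_two⟩
  have hcls : IsThreeTranspositionClass D :=
    ⟨hE, ⟨d₀, hd₀, Set.Subset.antisymm (fun x hx => isConj_iff.2 (hprim.1 d₀ hd₀ x hx)) fun x hx => by
      obtain ⟨g, rfl⟩ := isConj_iff.1 hx
      exact hconj g d₀ hd₀⟩, hgen⟩
  have hT : TwinFree D := fun a ha b hb hab => eq_of_vRel_of_primitive hprim hcls ha hb hab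
  refine ⟨hcls, hT, ?_⟩
  obtain ⟨d, hd, hne, hfive⟩ : ∃ d, d ∈ D ∧ (perp D d).Nonempty ∧
      (IsThreeTranspositionClass (descSet D d) → TwinFree (descSet D d) → NoRel (descSet D d) 5) := by
    rcases h with h | h <;> obtain ⟨-, d, hd, c, -, -, hX, -⟩ := h
    all_goals refine ⟨d, hd, ?_, ?_⟩
    all_goals first
      | exact fun hc hT' => m22_five hc hT' hX
      | exact fun hc hT' => m23_five hc hT' hX
      | (obtain ⟨-, x, ⟨y, hy, -⟩, -⟩ := hX; exact ⟨y, hy⟩)
  have hR : Rich D := ⟨hcls, hprim, by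
    obtain ⟨x, hx⟩ := hne
    exact ⟨d, hd, x, hx.1, hx.2.1.symm, hx.2.2⟩⟩
  obtain ⟨x₀, hx₀⟩ := hne
  have hperp : IsThreeTranspositionClass {x : ↥(closure (perp D d)) | (x : G) ∈ perp D d} := by
    refine ⟨⟨fun x hx => ?_, fun x hx y hy => ?_⟩, ⟨⟨x₀, subset_closure hx₀⟩, hx₀, ?_⟩, closure_perp_eq_top d⟩
    · rw [← Subgroup.orderOf_coe]; exact hE.1 _ hx.1
    · rcases hE.2 _ hx.1 _ hy.1 with h' | h'
      · exact Or.inl (Subtype.ext (by simpa using h'))
      · exact Or.inr (Subtype.ext (by simpa using h'))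
    ext x
    constructor
    · intro hx
      obtain ⟨g, hg, hgx⟩ := hR.perp_transitive hd hx₀ hx
      exact isConj_iff.2 ⟨⟨g, hg⟩, Subtype.ext hgx⟩
    · intro hx
      obtain ⟨g, rfl⟩ := isConj_iff.1 hx
      simpa using conj_mem_perp hconj g.2 hx₀
  obtain ⟨hc', hT'⟩ := descSet_twinFree hcls hT hd hperp (pCore_le_center_conj hcls hd₀ hd h2)
  exact noRel_succ hcls hT hd (hfive hc' hT')

end Cfsg.Lib.ThreeTr
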