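import Mathlib

/-!
The symmetric groups of degree 3 and 4 from their Coxeter relations.
-/

namespace Cfsg.Lib.ThreeTr

open Equiv

variable {G : Type*} [Group G]

/-- The adjacent transpositions of four points. -/
def adj4 : Fin 3 → Perm (Fin 4) := ![swap 0 1, swap 1 2, swap 2 3]

/-- Normal forms of the 24 permutations of four points. -/
def nf4 : Fin 24 → List (Fin 3) := ![[], [2], [2, 1], [2, 1, 0], [1], [1, 2], [1, 2, 1], [1, 2, 1, 0], [1, 0],
  [1, 0, 2], [1, 0, 2, 1], [1, 0, 2, 1, 0], [0], [0, 2], [0, 2, 1], [0, 2, 1, 0], [0, 1], [0, 1, 2], [0, 1, 2, 1],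
  [0, 1, 2, 1, 0], [0, 1, 0], [0, 1, 0, 2], [0, 1, 0, 2, 1], [0, 1, 0, 2, 1, 0]]

/-- Product with a generator, on normal forms. -/
def next4 : Fin 24 → Fin 3 → Fin 24 := fun j i => ![12, 4, 1, 13, 2, 0, 3, 1, 6, 2, 15, 7, 8, 0, 5, 9, 6, 4, 7, 5,
  2, 6, 11, 3, 4, 20, 9, 5, 10, 8, 11, 9, 22, 10, 7, 23, 0, 16, 13, 1, 14, 12, 15, 13, 18, 14, 3, 19, 20, 12, 17,
  21, 18, 16, 19, 17, 14, 18, 23, 15, 16, 8, 21, 17, 22, 20, 23, 21, 10, 22, 19, 11]
    (⟨3 * j.val + i.val, by omega⟩ : Fin 72)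

/-- The permutation of a normal form. -/
def perm4 (j : Fin 24) : Perm (Fin 4) := ((nf4 j).map adj4).prod

theorem next4_spec : ∀ j i, perm4 (next4 j i) = perm4 j * adj4 i := by decide +kernel

theorem perm4_bijective : Function.Bijective perm4 := by
  refine (Fintype.bijective_iff_injective_and_card _).mpr ⟨?_, by simp [Fintype.card_perm]; decide⟩
  unfold Function.Injective; decide +kernel

/-- The word map of three generators on normal forms. -/
def word4 (g : Fin 3 → G) (j : Fin 24) : G := ((nf4 j).map g).prod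

theorem word4_next (g : Fin 3 → G) (h0 : g 0 * g 0 = 1) (h1 : g 1 * g 1 = 1) (h2 : g 2 * g 2 = 1)
    (h01 : g 1 * g 0 * g 1 = g 0 * g 1 * g 0) (h12 : g 2 * g 1 * g 2 = g 1 * g 2 * g 1)
    (h02 : g 2 * g 0 = g 0 * g 2) (j : Fin 24) (i : Fin 3) : word4 g (next4 j i) = word4 g j * g i := by
  have a0 : ∀ x, g 0 * (g 0 * x) = x := fun x => by rw [← mul_assoc, h0, one_mul]
  have a1 : ∀ x, g 1 * (g 1 * x) = x := fun x => by rw [← mul_assoc, h1, one_mul]
  have a2 : ∀ x, g 2 * (g 2 * x) = x := fun x => by rw [← mul_assoc, h2, one_mul]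
  have b1 : ∀ x, g 1 * (g 0 * (g 1 * x)) = g 0 * (g 1 * (g 0 * x)) := fun x => by
    simp only [← mul_assoc, h01]
  have b1' : g 1 * (g 0 * g 1) = g 0 * (g 1 * g 0) := by simp only [← mul_assoc, h01]
  have b2 : ∀ x, g 2 * (g 1 * (g 2 * x)) = g 1 * (g 2 * (g 1 * x)) := fun x => by
    simp only [← mul_assoc, h12]
  have b2' : g 2 * (g 1 * g 2) = g 1 * (g 2 * g 1) := by simp only [← mul_assoc, h12]
  have c2 : ∀ x, g 2 * (g 0 * x) = g 0 * (g 2 * x) := fun x => by simp only [← mul_assoc, h02]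
  have d2 : ∀ x, g 2 * (g 1 * (g 0 * (g 2 * x))) = g 1 * (g 2 * (g 1 * (g 0 * x))) := fun x => by
    rw [← c2, b2]
  have d2' : g 2 * (g 1 * (g 0 * g 2)) = g 1 * (g 2 * (g 1 * g 0)) := by simpa using d2 1
  fin_cases j <;> fin_cases i <;>
    simp [word4, next4, nf4, mul_assoc, a0, a1, a2, b1, b1', b2, b2', c2, h02, h0, h1, h2, d2, d2']

/-- A group with the Coxeter relations receives the symmetric group of degree four. -/
noncomputable def hom4 (g : Fin 3 → G) (h0 : g 0 * g 0 = 1) (h1 : g 1 * g 1 = 1) (h2 : g 2 * g 2 = 1)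
    (h01 : g 1 * g 0 * g 1 = g 0 * g 1 * g 0) (h12 : g 2 * g 1 * g 2 = g 1 * g 2 * g 1)
    (h02 : g 2 * g 0 = g 0 * g 2) : Perm (Fin 4) →* G where
  toFun σ := word4 g ((Equiv.ofBijective _ perm4_bijective).symm σ)
  map_one' := by
    have h : (Equiv.ofBijective _ perm4_bijective).symm 1 = 0 := by
      rw [Equiv.symm_apply_eq]; rfl
    rw [h]; rfl
  map_mul' σ τ := by
    obtain ⟨a, rfl⟩ := perm4_bijective.2 σ
    obtain ⟨b, rfl⟩ := perm4_bijective.2 τ
    have hsymm : ∀ j, (Equiv.ofBijective _ perm4_bijective).symm (perm4 j) = j := fun j => by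
      rw [Equiv.symm_apply_eq]; rfl
    rw [hsymm, hsymm, word4.eq_def g b, perm4.eq_def b]
    induction nf4 b generalizing a with
    | nil => simp [hsymm]
    | cons i l ih =>
      rw [List.map_cons, List.prod_cons, List.map_cons, List.prod_cons, ← mul_assoc, ← next4_spec, ih,
        word4_next g h0 h1 h2 h01 h12 h02, mul_assoc]

theorem perm4_kernel : ∀ j : Fin 24, j ≠ 0 → ∃ a b : Fin 24, ∀ x, perm4 a
    (perm4 j (perm4 b ((perm4 j).symm ((perm4 b).symm ((perm4 a).symm x))))) = (swap 0 1 * swap 2 3 : Perm (Fin 4)) x := by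
  decide +kernel

/-- An injectivity criterion. -/
theorem hom4_injective {φ : Perm (Fin 4) →* G} (h : φ (swap 0 1) ≠ φ (swap 2 3)) : Function.Injective φ := by
  rw [injective_iff_map_eq_one]
  intro σ hσ
  by_contra hne
  obtain ⟨j, rfl⟩ := perm4_bijective.2 σ
  obtain ⟨a, b, hab⟩ := perm4_kernel j fun e => hne (e ▸ rfl)
  have hword : perm4 a * perm4 j * perm4 b * (perm4 j)⁻¹ * (perm4 b)⁻¹ * (perm4 a)⁻¹ = swap 0 1 * swap 2 3 := by
    refine Equiv.ext fun x => ?_
    exact hab x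
  have h1 := congrArg φ hword
  simp only [map_mul, map_inv, hσ, mul_one, inv_one, mul_inv_cancel_right, mul_inv_cancel] at h1
  have h2 : φ (swap 2 3) * φ (swap 2 3) = 1 := by rw [← map_mul, swap_mul_self, map_one]
  exact h (by rw [← mul_one (φ (swap 0 1)), ← h2, ← mul_assoc, ← h1, one_mul])

/-- The two adjacent transpositions of three points. -/
def adj3 : Fin 2 → Perm (Fin 3) := ![swap 0 1, swap 1 2]

/-- Normal forms of the six permutations of three points. -/
def nf3 : Fin 6 → List (Fin 2) := ![[], [0], [1], [0, 1], [1, 0], [0, 1, 0]]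

/-- Product with a generator, on normal forms. -/
def next3 : Fin 6 → Fin 2 → Fin 6 := fun j i => (![![1, 2], ![0, 3], ![4, 0], ![5, 1], ![2, 5], ![3, 4]] j) i

/-- The permutation of a normal form. -/
def perm3 (j : Fin 6) : Perm (Fin 3) := ((nf3 j).map adj3).prod

theorem next3_spec : ∀ j i, perm3 (next3 j i) = perm3 j * adj3 i := by decide +kernel

theorem perm3_bijective : Function.Bijective perm3 := by
  refine (Fintype.bijective_iff_injective_and_card _).mpr ⟨?_, by simp [Fintype.card_perm]; decide⟩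
  unfold Function.Injective; decide +kernel

/-- Two involutions with product of order dividing three receive the symmetric group of degree three. -/
noncomputable def hom3 (g : Fin 2 → G) (h0 : g 0 * g 0 = 1) (h1 : g 1 * g 1 = 1)
    (h01 : g 1 * g 0 * g 1 = g 0 * g 1 * g 0) : Perm (Fin 3) →* G where
  toFun σ := ((nf3 ((Equiv.ofBijective _ perm3_bijective).symm σ)).map g).prod
  map_one' := by
    have h : (Equiv.ofBijective _ perm3_bijective).symm 1 = 0 := by rw [Equiv.symm_apply_eq]; rfl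
    rw [h]; rfl
  map_mul' σ τ := by
    obtain ⟨a, rfl⟩ := perm3_bijective.2 σ
    obtain ⟨b, rfl⟩ := perm3_bijective.2 τ
    have hsymm : ∀ j, (Equiv.ofBijective _ perm3_bijective).symm (perm3 j) = j := fun j => by
      rw [Equiv.symm_apply_eq]; rfl
    have hnext : ∀ j i, ((nf3 (next3 j i)).map g).prod = ((nf3 j).map g).prod * g i := by
      have a0 : ∀ x, g 0 * (g 0 * x) = x := fun x => by rw [← mul_assoc, h0, one_mul]
      have a1 : ∀ x, g 1 * (g 1 * x) = x := fun x => by rw [← mul_assoc, h1, one_mul]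
      have b1' : g 1 * (g 0 * g 1) = g 0 * (g 1 * g 0) := by simp only [← mul_assoc, h01]
      intro j i
      fin_cases j <;> fin_cases i <;> simp [nf3, next3, mul_assoc, a0, a1, b1', h0, h1]
    rw [hsymm, hsymm, perm3.eq_def b]
    induction nf3 b generalizing a with
    | nil => simp [hsymm]
    | cons i l ih =>
      rw [List.map_cons, List.prod_cons, List.map_cons, List.prod_cons, ← mul_assoc, ← next3_spec, ih, hnext,
        mul_assoc]

theorem perm3_kernel : ∀ j : Fin 6, j ≠ 0 → ∃ a b : Fin 6, ∀ x, perm3 a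
    (perm3 j (perm3 b ((perm3 j).symm ((perm3 b).symm ((perm3 a).symm x))))) = (swap 0 1 * swap 1 2 : Perm (Fin 3)) x := by
  decide +kernel

theorem hom3_injective {φ : Perm (Fin 3) →* G} (h : φ (swap 0 1) ≠ φ (swap 1 2)) : Function.Injective φ := by
  rw [injective_iff_map_eq_one]
  intro σ hσ
  by_contra hne
  obtain ⟨j, rfl⟩ := perm3_bijective.2 σ
  obtain ⟨a, b, hab⟩ := perm3_kernel j fun e => hne (e ▸ rfl)
  have hword : perm3 a * perm3 j * perm3 b * (perm3 j)⁻¹ * (perm3 b)⁻¹ * (perm3 a)⁻¹ = swap 0 1 * swap 1 2 := by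
    refine Equiv.ext fun x => ?_
    exact hab x
  have h1 := congrArg φ hword
  simp only [map_mul, map_inv, hσ, mul_one, inv_one, mul_inv_cancel_right, mul_inv_cancel] at h1
  have h2 : φ (swap 1 2) * φ (swap 1 2) = 1 := by rw [← map_mul, swap_mul_self, map_one]
  exact h (by rw [← mul_one (φ (swap 0 1)), ← h2, ← mul_assoc, ← h1, one_mul])

end Cfsg.Lib.ThreeTr
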