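import Cfsg.Agent.ThreeTransposition.Basic
import Cfsg.Agent.ThreeTransposition.Coxeter
import Cfsg.Prelude.Def_FischerSpaces

/-!
Elementary consequences for 3-transposition sets and for classes of involutions.
-/

namespace Cfsg.Lib.ThreeTr

open Cfsg

variable {G : Type*} [Group G]

theorem closure_pair_equiv {E : Set G} (hE : IsThreeTranspositionSet E) {d e : G} (hd : d ∈ E) (he : e ∈ E)
    (h : ¬ Commute d e) : Nonempty (Subgroup.closure ({d, e} : Set G) ≃* Equiv.Perm (Fin 3)) := by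
  let φ := hom3 ![d, e] (sq_eq_one hE hd) (sq_eq_one hE he) (braid hE he hd fun c => h c.symm)
  have hd' : φ (Equiv.swap 0 1) = d := by
    have hs : (Equiv.ofBijective _ perm3_bijective).symm (Equiv.swap 0 1) = 1 := by
      rw [Equiv.symm_apply_eq]; decide +kernel
    show ((nf3 _).map ![d, e]).prod = d
    rw [hs]; simp [nf3]
  have he' : φ (Equiv.swap 1 2) = e := by
    have hs : (Equiv.ofBijective _ perm3_bijective).symm (Equiv.swap 1 2) = 2 := by
      rw [Equiv.symm_apply_eq]; decide +kernel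
    show ((nf3 _).map ![d, e]).prod = e
    rw [hs]; simp [nf3]
  have hinj : Function.Injective φ := hom3_injective (by rw [hd', he']; exact fun e' => h (e' ▸ Commute.refl d))
  have hrange : φ.range = Subgroup.closure {d, e} := by
    refine le_antisymm ?_ ((Subgroup.closure_le _).mpr ?_)
    · rintro _ ⟨σ, rfl⟩
      show ((nf3 _).map ![d, e]).prod ∈ _
      refine Subgroup.list_prod_mem _ fun x hx => ?_
      obtain ⟨i, -, rfl⟩ := List.mem_map.mp hx
      refine Subgroup.subset_closure ?_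
      fin_cases i <;> simp
    · rintro x (rfl | rfl)
      · exact ⟨_, hd'⟩
      · exact ⟨_, he'⟩
  exact ⟨((MonoidHom.ofInjective hinj).trans (MulEquiv.subgroupCongr hrange)).symm⟩

theorem exists_hom_perm4 {D : Set G} (hD : IsThreeTranspositionSet D) {a b c : G} (ha : a ∈ D) (hb : b ∈ D)
    (hc : c ∈ D) (hac : a ≠ c) (hac' : Commute a c) (hab : ¬ Commute a b) (hbc : ¬ Commute b c) :
    ∃ φ : Equiv.Perm (Fin 4) →* G, Function.Injective φ ∧ φ (Equiv.swap 0 1) = a ∧ φ (Equiv.swap 1 2) = b ∧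
      φ (Equiv.swap 2 3) = c := by
  let φ := hom4 ![a, b, c] (sq_eq_one hD ha) (sq_eq_one hD hb) (sq_eq_one hD hc)
    (braid hD hb ha fun h => hab h.symm) (braid hD hc hb fun h => hbc h.symm) hac'.symm.eq
  have hval : ∀ (s : Equiv.Perm (Fin 4)) (j : Fin 24) (x : G), perm4 j = s → word4 ![a, b, c] j = x → φ s = x := by
    intro s j x hj hx
    show word4 ![a, b, c] ((Equiv.ofBijective _ perm4_bijective).symm s) = x
    rw [← hj, show (Equiv.ofBijective _ perm4_bijective).symm (perm4 j) = j from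
      (Equiv.symm_apply_eq _).mpr rfl, hx]
  have h0 := hval (Equiv.swap 0 1) 12 a (by decide +kernel) (by simp [word4, nf4])
  have h1 := hval (Equiv.swap 1 2) 4 b (by decide +kernel) (by simp [word4, nf4])
  have h2 := hval (Equiv.swap 2 3) 1 c (by decide +kernel) (by simp [word4, nf4])
  exact ⟨φ, hom4_injective (by rw [h0, h2]; exact hac), h0, h1, h2⟩

theorem exists_fixed {E : Set G} (hE : IsThreeTranspositionSet E) (hconj : ∀ g : G, ∀ d ∈ E, g * d * g⁻¹ ∈ E)
    (x : G ≃* G) (hx : ∀ g : G, x (x g) = g) (hxE : ∀ d ∈ E, x d ∈ E) {a : G} (ha : a ∈ E)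
    (h : ¬ Commute a (x a)) : ∃ d ∈ E, x d = d := by
  refine ⟨a * x a * a, ?_, ?_⟩
  · have := hconj a _ (hxE a ha)
    rwa [inv_eq hE ha] at this
  · rw [map_mul, map_mul, hx]
    exact (braid hE ha (hxE a ha) h).symm

theorem swap_class (n : ℕ) (hn : 2 ≤ n) :
    IsThreeTranspositionClass {σ : Equiv.Perm (Fin n) | σ.IsSwap} := by
  refine ⟨⟨?_, ?_⟩, ?_, Equiv.Perm.closure_isSwap⟩
  · rintro _ ⟨a, b, hab, rfl⟩
    exact orderOf_eq_prime (by rw [sq, Equiv.swap_mul_self]) fun h => hab (Equiv.swap_eq_one_iff.mp h)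
  · rintro _ ⟨a, b, hab, rfl⟩ _ ⟨c, d, hcd, rfl⟩
    have key : ∀ {p q r : Fin n}, p ≠ q → p ≠ r → q ≠ r → (Equiv.swap p q * Equiv.swap p r) ^ 3 = 1 :=
      fun h1 h2 h3 => by rw [← (Equiv.Perm.isThreeCycle_swap_mul_swap_same h1 h2 h3).orderOf]; exact pow_orderOf_eq_one _
    by_cases hac : a = c
    · subst hac
      by_cases hbd : b = d
      · left; subst hbd; simp [Equiv.swap_mul_self]
      · exact Or.inr (key hab hcd hbd)
    by_cases had : a = d
    · subst had
      rw [Equiv.swap_comm c a]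
      by_cases hbc : b = c
      · left; subst hbc; simp [Equiv.swap_mul_self]
      · exact Or.inr (key hab hcd.symm hbc)
    by_cases hbc : b = c
    · subst hbc
      rw [Equiv.swap_comm a b]
      exact Or.inr (key hab.symm hcd had)
    by_cases hbd : b = d
    · subst hbd
      rw [Equiv.swap_comm a b, Equiv.swap_comm c b]
      exact Or.inr (key hab.symm hcd.symm hac)
    left
    have hdis : Equiv.Perm.Disjoint (Equiv.swap a b) (Equiv.swap c d) := by
      intro x
      by_cases hxa : x = a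
      · exact Or.inr (hxa ▸ Equiv.swap_apply_of_ne_of_ne hac had)
      by_cases hxb : x = b
      · exact Or.inr (hxb ▸ Equiv.swap_apply_of_ne_of_ne hbc hbd)
      exact Or.inl (Equiv.swap_apply_of_ne_of_ne hxa hxb)
    rw [hdis.commute.mul_pow, sq, sq, Equiv.swap_mul_self, Equiv.swap_mul_self, one_mul]
  · refine ⟨Equiv.swap ⟨0, by omega⟩ ⟨1, by omega⟩, ⟨_, _, by simp [Fin.ext_iff], rfl⟩, ?_⟩
    ext σ
    show σ.IsSwap ↔ IsConj _ σ
    constructor
    · rintro ⟨a, b, hab, rfl⟩
      exact Equiv.Perm.isConj_swap (by simp [Fin.ext_iff]) hab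
    · intro h
      obtain ⟨g, hg⟩ := isConj_iff.mp h
      exact ⟨g ⟨0, by omega⟩, g ⟨1, by omega⟩, by simp [Fin.ext_iff],
        by rw [← hg, Equiv.swap_apply_apply]⟩

theorem product_orders_iff [Finite G] {D : Set G} (hinv : ∀ d ∈ D, orderOf d = 2)
    (hconj : ∀ g : G, ∀ d ∈ D, g * d * g⁻¹ ∈ D) :
    (∀ a ∈ D, ∀ b ∈ D, Odd (orderOf (a * b)) ∨ orderOf (a * b) = 2) ↔
      ∀ a ∈ D, ∀ b ∈ D, b ≠ a → Commute a b →
        {y : G | y ∈ D ∧ Commute (a * b) y} = {y : G | y ∈ D ∧ Commute a y} ∩ {y : G | y ∈ D ∧ Commute b y} := by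
  have h2 : ∀ d ∈ D, d * d = 1 := fun d hd => mul_self_of_orderOf_two (hinv d hd)
  constructor
  · intro h a ha b hb hba hab
    ext y
    simp only [Set.mem_setOf_eq, Set.mem_inter_iff]
    refine ⟨fun ⟨hy, hc⟩ => ?_, fun ⟨⟨hy, h1⟩, _, h2'⟩ => ⟨hy, h1.mul_left h2'⟩⟩
    suffices hay : Commute a y from by
      refine ⟨⟨hy, hay⟩, hy, ?_⟩
      have : b = a * (a * b) := by rw [← mul_assoc, h2 a ha, one_mul]
      rw [this]; exact hay.mul_left hc
    by_contra hay
    rcases h a ha y hy with ⟨m, hm⟩ | hm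
    swap
    · exact hay ((commute_iff_sq (h2 a ha) (h2 y hy)).mpr (hm ▸ pow_orderOf_eq_one _))
    have hconj' := conj_of_odd (h2 a ha) (h2 y hy) hm
    set g := (a * y) ^ m with hg
    have hca : Commute (a * b) a := (Commute.refl a).mul_left hab.symm
    have hgc : Commute (a * b) g := (hca.mul_right hc).pow_right m
    have hbmem : g * b * g⁻¹ = y * (a * b) := by
      have hb' : b = a * (a * b) := by rw [← mul_assoc, h2 a ha, one_mul]
      calc g * b * g⁻¹ = g * (a * (a * b)) * g⁻¹ := by rw [← hb']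
        _ = g * a * ((a * b) * g⁻¹) := by simp only [mul_assoc]
        _ = g * a * g⁻¹ * (a * b) := by rw [hgc.inv_right.eq, ← mul_assoc]
        _ = y * (a * b) := by rw [hconj']
    have hmem : y * (a * b) ∈ D := hbmem ▸ hconj g b hb
    have hab2 : orderOf (a * b) = 2 := by
      refine orderOf_eq_prime (by rw [hab.mul_pow, sq, sq, h2 a ha, h2 b hb, one_mul]) fun e => hba ?_
      rw [mul_eq_one_iff_eq_inv, inv_eq_self_of_mul_self (h2 b hb)] at e
      exact e.symm
    have hprod : a * (y * (a * b)) = a * y * (a * b) := (mul_assoc a y _).symm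
    have hord : orderOf (a * y * (a * b)) = (2 * m + 1) * 2 := by
      rw [← hm, ← hab2]
      refine Commute.orderOf_mul_eq_mul_orderOf_of_coprime (hca.mul_right hc).symm ?_
      rw [hm, hab2]
      exact (Nat.coprime_two_right).mpr ⟨m, rfl⟩
    rcases h a ha _ hmem with h' | h' <;> rw [hprod, hord] at h'
    · obtain ⟨r, hr⟩ := h'; omega
    · have hm0 : m = 0 := by omega
      rw [hm0] at hm
      have : a * y = 1 := orderOf_eq_one_iff.mp hm
      rw [mul_eq_one_iff_eq_inv, inv_eq_self_of_mul_self (h2 y hy)] at this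
      exact hay (this ▸ Commute.refl a)
  · intro h a ha b hb
    by_contra hcon
    push Not at hcon
    obtain ⟨hnodd, hne2⟩ := hcon
    obtain ⟨m, hm⟩ := Nat.not_odd_iff_even.mp hnodd
    rw [← two_mul] at hm
    have hm1 : 1 < m := by have := orderOf_pos (a * b); omega
    have hzD : (a * b) ^ m * a ∈ D := pow_mul_mem hconj ha hb (h2 a ha) (h2 b hb) m
    have hzne1 : (a * b) ^ m ≠ 1 := fun e => by
      have := Nat.le_of_dvd (by omega) (orderOf_dvd_of_pow_eq_one e); omega
    have hzc := commute_half (h2 a ha) (h2 b hb) hm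
    have hzb : Commute ((a * b) ^ m) b := by
      have : b = a * (a * b) := by rw [← mul_assoc, h2 a ha, one_mul]
      conv_rhs => rw [this]
      exact hzc.mul_right ((Commute.refl (a * b)).pow_left m)
    have hcomm : Commute a ((a * b) ^ m * a) := hzc.symm.mul_right (Commute.refl a)
    have hb' := h a ha _ hzD (fun e => hzne1 (mul_eq_right.mp e)) hcomm
    have hmem : b ∈ {y : G | y ∈ D ∧ Commute (a * ((a * b) ^ m * a)) y} := by
      refine ⟨hb, ?_⟩
      rw [← mul_assoc, ← hzc.eq, mul_assoc, h2 a ha, mul_one]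
      exact hzb
    rw [hb'] at hmem
    exact hne2 (orderOf_eq_prime ((commute_iff_sq (h2 a ha) (h2 b hb)).mp hmem.1.2) fun e => hnodd (by
      rw [orderOf_eq_one_iff.mpr e]; exact odd_one))

theorem lift_threeTransposition [Finite G] {D : Set G} (hinv : ∀ d ∈ D, orderOf d = 2)
    (hconj : ∀ g : G, ∀ d ∈ D, g * d * g⁻¹ ∈ D) (t : G) (ht : orderOf t = 2) (htZ : t ∈ Subgroup.center G)
    (hDt : ∀ d ∈ D, d * t ∉ D) [(Subgroup.zpowers t).Normal]
    (himg : IsThreeTranspositionSet ((QuotientGroup.mk : G → G ⧸ Subgroup.zpowers t) '' D)) :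
    IsThreeTranspositionSet D := by
  refine ⟨hinv, fun d hd e he => ?_⟩
  have hmem : ∀ x ∈ Subgroup.zpowers t, x = 1 ∨ x = t := by
    rintro x ⟨k, rfl⟩
    show t ^ k = 1 ∨ t ^ k = t
    rw [← zpow_mod_orderOf, ht]
    rcases Int.emod_two_eq_zero_or_one k with h | h <;> simp [h]
  have hnot : ∀ k : ℕ, (d * e) ^ k ≠ t := by
    intro k hk
    refine hDt d hd ?_
    rw [(Subgroup.mem_center_iff.mp htZ d), ← hk]
    exact pow_mul_mem hconj hd he (mul_self_of_orderOf_two (hinv d hd)) (mul_self_of_orderOf_two (hinv e he)) k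
  rcases himg.2 _ ⟨d, hd, rfl⟩ _ ⟨e, he, rfl⟩ with h | h <;>
    rw [← QuotientGroup.mk_mul, ← QuotientGroup.mk_pow, QuotientGroup.eq_one_iff] at h <;>
    rcases hmem _ h with h' | h'
  · exact Or.inl h'
  · exact absurd h' (hnot 2)
  · exact Or.inr h'
  · exact absurd h' (hnot 3)

end Cfsg.Lib.ThreeTr
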