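import Cfsg.Agent.ThreeTransposition.Primitive
import Cfsg.Agent.ThreeTransposition.Elementary
import Cfsg.Agent.Coprime.Basic

/-!
Classes in which commuting means commuting with the same members: the symmetric group of degree four, and an invariant
Sylow 3-subgroup.
-/

set_option linter.unusedSectionVars false
set_option linter.style.haveILetI false

namespace Cfsg.Lib.ThreeTr

open Cfsg Subgroup

universe u

variable {G : Type u} [Group G] {D : Set G}

/-- The hypothesis at one member holds at every member. -/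
theorem vRel_of_commute (hD : IsThreeTranspositionClass D) {d : G} (hd : d ∈ D)
    (hV : {y : G | y ∈ D ∧ Commute d y} = {v : G | v ∈ D ∧ ∀ e ∈ D, Commute v e ↔ Commute d e})
    {a b : G} (ha : a ∈ D) (hb : b ∈ D) (h : Commute a b) : VRel D b a := by
  obtain ⟨g, rfl⟩ := exists_conj hD hd ha
  have hb' : g⁻¹ * b * g ∈ D := by simpa using conj_mem hD g⁻¹ hb
  have hc : Commute d (g⁻¹ * b * g) := by
    refine (conj_commute_iff g _ _).1 ?_
    rwa [show g * (g⁻¹ * b * g) * g⁻¹ = b by group]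
  have := (vRel_isClassRel hD).equiv g hb' hd ((Set.ext_iff.1 hV _).1 ⟨hb', hc⟩).2
  rwa [show g * (g⁻¹ * b * g) * g⁻¹ = b by group] at this

/-- Every member has exactly one partner. -/
theorem exists_partner (hD : IsThreeTranspositionClass D) {d : G} (hd : d ∈ D)
    (hm : {y : G | y ∈ D ∧ Commute d y}.ncard = 2) {a : G} (ha : a ∈ D) :
    ∃ b ∈ D, b ≠ a ∧ Commute a b ∧ ∀ y ∈ D, Commute a y → y = a ∨ y = b := by
  obtain ⟨g, rfl⟩ := exists_conj hD hd ha
  obtain ⟨x, y, hxy, hset⟩ := Set.ncard_eq_two.1 hm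
  have hdm : d ∈ ({x, y} : Set G) := hset ▸ ⟨hd, Commute.refl d⟩
  obtain ⟨d', hd', hne, hall⟩ : ∃ d', d' ∈ {y : G | y ∈ D ∧ Commute d y} ∧ d' ≠ d ∧
      ∀ z, z ∈ {y : G | y ∈ D ∧ Commute d y} → z = d ∨ z = d' := by
    rcases hdm with rfl | rfl
    · exact ⟨y, hset ▸ Or.inr rfl, hxy.symm, fun z hz => by rwa [hset] at hz⟩
    · exact ⟨x, hset ▸ Or.inl rfl, hxy, fun z hz => by rw [hset] at hz; exact hz.symm⟩
  refine ⟨g * d' * g⁻¹, conj_mem hD g hd'.1, fun h => hne (mul_left_cancel (mul_right_cancel h)),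
    (conj_commute_iff g d d').2 hd'.2, fun z hz hc => ?_⟩
  have hc' : Commute d (g⁻¹ * z * g) := by
    refine (conj_commute_iff g _ _).1 ?_
    rwa [show g * (g⁻¹ * z * g) * g⁻¹ = z by group]
  rcases hall _ ⟨by simpa using conj_mem hD g⁻¹ hz, hc'⟩ with h | h
  · exact Or.inl (by rw [← h]; group)
  · exact Or.inr (by rw [← h]; group)

theorem pair_swap [Finite G] (hD : IsThreeTranspositionClass D) {a a' b b' : G} (ha : a ∈ D) (ha' : a' ∈ D) (hb : b ∈ D)
    (hne : a' ≠ a) (hc : Commute a a') (hbb : ∀ y ∈ D, Commute b y → y = b ∨ y = b')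
    (h₁ : ¬ Commute a b) (h₂ : ¬ Commute a' b) :
    (a * a') * b * (a' * a) = b' ∧ b * (a * a') * b = (b * b') * (a * a') := by
  have ha2 := sq_eq_one hD.1 ha
  have ha'2 := sq_eq_one hD.1 ha'
  have hb2 := sq_eq_one hD.1 hb
  have hwD : (a * a') * b * (a' * a) ∈ D := by
    have := conj_mem hD (a * a') hb
    rwa [mul_inv_rev, inv_eq hD.1 ha, inv_eq hD.1 ha'] at this
  have e : (a * a') * b * (a' * a) = a' * (b * a * b) * a' := by
    calc (a * a') * b * (a' * a) = (a' * a) * b * (a * a') := by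
          conv_lhs => rw [hc.eq]
          rw [← hc.eq]
      _ = a' * (a * b * a) * a' := by simp only [mul_assoc]
      _ = _ := by rw [braid hD.1 ha hb h₁]
  have hfix : b * ((a * a') * b * (a' * a)) * b = (a * a') * b * (a' * a) := by
    rw [e]
    calc b * (a' * (b * a * b) * a') * b = (b * a' * b) * a * (b * a' * b) := by simp only [mul_assoc]
      _ = (a' * b * a') * a * (a' * b * a') := by rw [braid hD.1 hb ha' fun h => h₂ h.symm]
      _ = a' * b * (a' * a * a') * b * a' := by simp only [mul_assoc]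
      _ = a' * b * a * b * a' := by rw [← hc.eq, mul_assoc a a' a', ha'2, mul_one]
      _ = _ := by simp only [mul_assoc]
  have hcomm : Commute b ((a * a') * b * (a' * a)) := by
    show b * _ = _ * b
    conv_rhs => rw [← hfix]
    rw [mul_assoc _ b b, hb2, mul_one]
  rcases hbb _ hwD hcomm with h | h
  · exfalso
    refine h₁ ?_
    have hcb : Commute b (a * a') := by
      show b * (a * a') = (a * a') * b
      calc b * (a * a') = ((a * a') * b * (a' * a)) * (a * a') := by rw [h]
        _ = (a * a') * b * (a' * (a * a) * a') := by simp only [mul_assoc]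
        _ = _ := by rw [ha2, mul_one, ha'2, mul_one]
    exact ((commute_pair_iff hD.1 ha ha' hb hne.symm hc).1 hcb).1.symm
  · refine ⟨h, ?_⟩
    rw [← h]
    symm
    calc b * ((a * a') * b * (a' * a)) * (a * a') = b * (a * a') * b * (a' * (a * a) * a') := by simp only [mul_assoc]
      _ = _ := by rw [ha2, mul_one, ha'2, mul_one]

/-- The case of width two with three classes. -/
theorem nonempty_mulEquiv_perm4 [Finite G] (hD : IsThreeTranspositionClass D) (hD2 : ∃ a ∈ D, ∃ b ∈ D, a ≠ b) {d : G}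
    (hd : d ∈ D) (hV : {y : G | y ∈ D ∧ Commute d y} = {v : G | v ∈ D ∧ ∀ e ∈ D, Commute v e ↔ Commute d e})
    (hm : {y : G | y ∈ D ∧ Commute d y}.ncard = 2) : Nonempty (G ≃* Equiv.Perm (Fin 4)) := by
  obtain ⟨a', ha', hne, hc, haa⟩ := exists_partner hD hd hm hd
  obtain ⟨b, hb, hdb⟩ := exists_not_commute hD hD2 hd
  obtain ⟨b', hb', hbne, hbc, hbb⟩ := exists_partner hD hd hm hb
  have hsame : ∀ {u v e : G}, u ∈ D → v ∈ D → e ∈ D → Commute u v → ¬ Commute u e → ¬ Commute v e :=
    fun hu hv he huv hne' h => hne' ((vRel_of_commute hD hd hV hu hv huv _ he).1 h)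
  have ha'b := hsame hd ha' hb hc hdb
  obtain ⟨φ, hφ, e1, e2, e3⟩ := exists_hom_perm4 hD.1 hd hb ha' hne.symm hc hdb fun h => ha'b h.symm
  set R := φ.range with hR
  have hdR : d ∈ R := e1 ▸ ⟨_, rfl⟩
  have hbR : b ∈ R := e2 ▸ ⟨_, rfl⟩
  have ha'R : a' ∈ R := e3 ▸ ⟨_, rfl⟩
  obtain ⟨hb'eq, htC⟩ := pair_swap hD hd ha' hb hne hc hbb hdb ha'b
  have hb'R : b' ∈ R := hb'eq ▸ mul_mem (mul_mem (mul_mem hdR ha'R) hbR) (mul_mem ha'R hdR)
  have hb2 := sq_eq_one hD.1 hb
  set c := b * d * b with hcdef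
  have hcD : c ∈ D := conj_invol_mem hD hb hd
  have hc'D : b * a' * b ∈ D := conj_invol_mem hD hb ha'
  have hcne : b * a' * b ≠ c := fun h => hne (mul_left_cancel (mul_right_cancel h))
  have hcc : Commute c (b * a' * b) := by
    have := (conj_commute_iff b d a').2 hc
    rwa [inv_eq hD.1 hb] at this
  obtain ⟨c', hc', hc'ne, hc'c, hccl⟩ := exists_partner hD hd hm hcD
  have hc'eq : b * a' * b = c' := ((hccl _ hc'D hcc).resolve_left hcne)
  have hall : ∀ y ∈ D, y ∈ R := by
    intro y hy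
    by_cases hdy : Commute d y
    · rcases haa y hy hdy with rfl | rfl <;> assumption
    by_cases hby : Commute b y
    · rcases hbb y hy hby with rfl | rfl <;> assumption
    by_cases hcy : Commute c y
    · rcases hccl y hy hcy with rfl | rfl
      · exact mul_mem (mul_mem hbR hdR) hbR
      · exact hc'eq ▸ mul_mem (mul_mem hbR ha'R) hbR
    exfalso
    obtain ⟨y', hy', hy'ne, hy'c, hyy⟩ := exists_partner hD hd hm hy
    have h1 := (pair_swap hD hd ha' hy hne hc hyy hdy (hsame hd ha' hy hc hdy)).2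
    have h2 := (pair_swap hD hb hb' hy hbne hbc hyy hby (hsame hb hb' hy hbc hby)).2
    have h3 := (pair_swap hD hcD hc'D hy hcne hcc hyy hcy (hsame hcD hc'D hy hcc hcy)).2
    have h4 := pair_swap hD hb hb' hy hbne hbc hyy hby (hsame hb hb' hy hbc hby)
    have htC' : c * (b * a' * b) = (b * b') * (d * a') := by
      rw [← htC, hcdef]
      calc b * d * b * (b * a' * b) = b * d * (b * b) * a' * b := by simp only [mul_assoc]
        _ = _ := by rw [hb2, mul_one]; simp only [mul_assoc]
    have hy2 := sq_eq_one hD.1 hy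
    have ht2 : (y * y') * (y * y') = 1 := by
      rw [← sq]; exact (commute_iff_sq hy2 (sq_eq_one hD.1 hy')).1 hy'c
    have htB2 : (b * b') * (b * b') = 1 := by
      rw [← sq]; exact (commute_iff_sq hb2 (sq_eq_one hD.1 hb')).1 hbc
    -- the products of the pairs commute
    have hty : Commute (b * b') (y * y') := by
      have h5 := h4.2
      have h6 : (y * (b * b') * y) * (y * (b * b') * y) = 1 := by
        calc (y * (b * b') * y) * (y * (b * b') * y) = y * (b * b') * (y * y) * (b * b') * y := by simp only [mul_assoc]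
          _ = 1 := by rw [hy2, mul_one, mul_assoc y (b * b'), htB2, mul_one, hy2]
      rw [h5] at h6
      exact ((commute_iff_sq ht2 htB2).2 (by rw [sq]; exact h6)).symm
    have h7 : y * (c * (b * a' * b)) * y = c * (b * a' * b) := by
      rw [htC']
      calc y * ((b * b') * (d * a')) * y = (y * (b * b') * y) * (y * (d * a') * y) := by
            rw [show (y * (b * b') * y) * (y * (d * a') * y) = y * (b * b') * (y * y) * (d * a') * y by
              simp only [mul_assoc], hy2, mul_one]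
            simp only [mul_assoc]
        _ = ((y * y') * (b * b')) * ((y * y') * (d * a')) := by rw [h1, h2]
        _ = ((b * b') * (y * y')) * ((y * y') * (d * a')) := by rw [hty.eq]
        _ = (b * b') * (((y * y') * (y * y')) * (d * a')) := by simp only [mul_assoc]
        _ = _ := by rw [ht2, one_mul]
    rw [h3] at h7
    have : y * y' = 1 := mul_eq_right.1 h7
    rw [mul_eq_one_iff_eq_inv, inv_eq hD.1 hy'] at this
    exact hy'ne this.symm
  have htop : φ.range = ⊤ := by
    rw [eq_top_iff, ← hD.2.2, closure_le]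
    exact hall
  exact ⟨((MonoidHom.ofInjective hφ).trans ((MulEquiv.subgroupCongr htop).trans Subgroup.topEquiv)).symm⟩

/-- An involution fixes a Sylow 3-subgroup when its conjugates in a coset of a normal 2-group are conjugate under it. -/
theorem exists_invariant_sylow_three_aux (n : ℕ) : ∀ (G : Type u) [Group G] [Finite G], Nat.card G ≤ n →
    ∀ (d : G) (Q : Subgroup G) [Q.Normal] (P : Sylow 3 G), d * d = 1 → IsPGroup 2 Q →
      zpowers d ⊔ (P : Subgroup G) ⊔ Q = ⊤ → (Q ⊔ (P : Subgroup G)).Normal →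
      (∀ g : G, d⁻¹ * (g * d * g⁻¹) ∈ Q → ∃ q ∈ Q, q * d * q⁻¹ = g * d * g⁻¹) →
      ∃ P' : Sylow 3 G, d ∈ normalizer ((P' : Subgroup G) : Set G) := by
  induction n with
  | zero =>
    intro G _ _ hG
    exact absurd hG (Nat.pos_iff_ne_zero.1 Nat.card_pos ∘ Nat.le_zero.1)
  | succ n ih =>
    intro G _ _ hG d Q _ P hd2 hQ htop hQP hconj
    haveI : Fact (Nat.Prime 2) := ⟨Nat.prime_two⟩
    haveI : Fact (Nat.Prime 3) := ⟨Nat.prime_three⟩
    by_cases hQbot : Q = ⊥
    · refine ⟨P, ?_⟩
      rw [hQbot, bot_sup_eq] at hQP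
      rw [normalizer_eq_top]
      exact mem_top d
    have hdinv : d⁻¹ = d := inv_eq_of_mul_eq_one_right hd2
    -- a minimal normal subgroup of exponent two inside the centre of `Q`
    haveI := (nontrivial_iff_ne_bot Q).2 hQbot
    set Z : Subgroup G := (center Q).map Q.subtype with hZ
    have hZn : Z.Normal := by rw [hZ]; infer_instance
    have hZQ : Z ≤ Q := map_subtype_le _
    have hZc : ∀ z ∈ Z, ∀ q ∈ Q, q * z = z * q := by
      rintro _ ⟨z, hz, rfl⟩ q hq
      exact congrArg Subtype.val (mem_center_iff.1 hz ⟨q, hq⟩)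
    set W : Subgroup G :=
      { carrier := {z | z ∈ Z ∧ z * z = 1}
        one_mem' := ⟨one_mem _, mul_one 1⟩
        mul_mem' := fun {a b} ha hb => ⟨mul_mem ha.1 hb.1, by
          calc a * b * (a * b) = a * (b * a) * b := by simp only [mul_assoc]
            _ = a * (a * b) * b := by rw [hZc a ha.1 b (hZQ hb.1)]
            _ = a * a * (b * b) := by simp only [mul_assoc]
            _ = 1 := by rw [ha.2, hb.2, one_mul]⟩
        inv_mem' := fun {a} ha => ⟨inv_mem ha.1, by rw [← mul_inv_rev, ha.2, inv_one]⟩ } with hW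
    have hWn : W.Normal := by
      refine ⟨fun z hz g => ⟨hZn.conj_mem z hz.1 g, ?_⟩⟩
      rw [show g * z * g⁻¹ * (g * z * g⁻¹) = g * (z * z) * g⁻¹ by group, hz.2, mul_one, mul_inv_cancel]
    have hWne : W ≠ ⊥ := by
      haveI := hQ.center_nontrivial
      obtain ⟨m, hm⟩ := IsPGroup.iff_card.1 (hQ.to_subgroup (center Q))
      have hm0 : m ≠ 0 := by
        rintro rfl
        have h1 := Finite.one_lt_card_iff_nontrivial.2 (inferInstance : Nontrivial (center Q))
        rw [hm, pow_zero] at h1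
        omega
      obtain ⟨z, hz⟩ := exists_prime_orderOf_dvd_card' (G := center Q) 2 (hm ▸ dvd_pow_self 2 hm0)
      intro hbot
      have hmem : ((z : Q) : G) ∈ W := by
        refine ⟨⟨z, z.2, rfl⟩, ?_⟩
        have h : ((z : Q) : G) ^ 2 = 1 := by
          rw [← SubgroupClass.coe_pow, ← SubgroupClass.coe_pow, ← hz, pow_orderOf_eq_one]; rfl
        rwa [sq] at h
      rw [hbot, mem_bot] at hmem
      have : z = 1 := Subtype.ext (Subtype.ext hmem)
      rw [this, orderOf_one] at hz
      omega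
    obtain ⟨V, ⟨hVn, hVne, hVW⟩, hmin⟩ := WellFounded.has_min (wellFounded_lt (α := Subgroup G))
      {K | K.Normal ∧ K ≠ ⊥ ∧ K ≤ W} ⟨W, hWn, hWne, le_rfl⟩
    haveI := hVn
    have hVQ : V ≤ Q := fun v hv => hZQ (hVW hv).1
    have hV2 : ∀ v ∈ V, v * v = 1 := fun v hv => (hVW hv).2
    have hVc : ∀ v ∈ V, ∀ q ∈ Q, q * v = v * q := fun v hv => hZc v (hVW hv).1
    have hVp : IsPGroup 2 V := hQ.to_le hVQ
    -- pass to the quotient
    set f := QuotientGroup.mk' V with hf
    have hfs : Function.Surjective f := QuotientGroup.mk'_surjective V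
    have hcard : Nat.card (G ⧸ V) ≤ n := by
      have h1 := Subgroup.card_eq_card_quotient_mul_card_subgroup V
      have h2 : 2 ≤ Nat.card V := Finite.one_lt_card_iff_nontrivial.2 ((nontrivial_iff_ne_bot V).2 hVne)
      have h3 : 0 < Nat.card (G ⧸ V) := Nat.card_pos
      nlinarith
    haveI : (Q.map f).Normal := Subgroup.Normal.map inferInstance f hfs
    obtain ⟨P₁, hP₁⟩ := ih (G ⧸ V) hcard (f d) (Q.map f) (P.mapSurjective hfs)
      (by rw [← map_mul, hd2, map_one]) (hQ.map f) (by
        rw [Sylow.coe_mapSurjective, ← MonoidHom.map_zpowers, ← Subgroup.map_sup, ← Subgroup.map_sup, htop,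
          map_top_of_surjective f hfs])
      (by rw [Sylow.coe_mapSurjective, ← Subgroup.map_sup]; exact hQP.map f hfs) (by
        intro g hg
        obtain ⟨g, rfl⟩ := hfs g
        rw [← map_inv f d, ← map_inv f g, ← map_mul, ← map_mul, ← map_mul, ← mem_comap, comap_map_eq,
          QuotientGroup.ker_mk', sup_eq_left.2 hVQ] at hg
        obtain ⟨q, hq, hqd⟩ := hconj g hg
        exact ⟨f q, mem_map_of_mem f hq, by rw [← map_inv, ← map_mul, ← map_mul, hqd, map_mul, map_mul, map_inv]⟩)
    obtain ⟨P₀, hP₀⟩ := Sylow.mapSurjective_surjective hfs 3 P₁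
    -- the preimage is normalised
    set M := V ⊔ (P₀ : Subgroup G) with hM
    have hMd : ∀ x ∈ (P₀ : Subgroup G), d * x * d⁻¹ ∈ M := by
      intro x hx
      have h1 : f x ∈ (P₁ : Subgroup (G ⧸ V)) := by
        rw [← hP₀, Sylow.coe_mapSurjective]
        exact mem_map_of_mem f hx
      have h2 := (mem_normalizer_iff.1 hP₁ _).1 h1
      rw [← map_mul, ← map_inv, ← map_mul, ← hP₀, Sylow.coe_mapSurjective, ← mem_comap, comap_map_eq,
        QuotientGroup.ker_mk', sup_comm] at h2
      exact h2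
    -- Frattini
    obtain ⟨v, hv, hn⟩ : ∃ v ∈ V, v * d ∈ normalizer ((P₀ : Subgroup G) : Set G) := by
      set P₂ : Sylow 3 G := MulAut.conj d • P₀ with hP₂
      have hP₂M : (P₂ : Subgroup G) ≤ M := by
        rw [hP₂, Sylow.pointwise_smul_def]
        rintro _ ⟨x, hx, rfl⟩
        exact hMd x hx
      obtain ⟨k, hk⟩ := MulAction.exists_smul_eq M (P₂.subtype hP₂M) (P₀.subtype le_sup_right)
      obtain ⟨v, hv, x, hx, hkx⟩ := mem_sup_of_normal_left.1 k.2
      have hk' : ∀ y ∈ (P₀ : Subgroup G), (k : G) * (d * y * d⁻¹) * (k : G)⁻¹ ∈ (P₀ : Subgroup G) := by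
        intro y hy
        have hyM : d * y * d⁻¹ ∈ M := hMd y hy
        have h1 : (⟨_, hyM⟩ : M) ∈ (P₂.subtype hP₂M : Subgroup M) := by
          refine mem_subgroupOf.2 ?_
          rw [hP₂, Sylow.pointwise_smul_def]
          exact ⟨y, hy, rfl⟩
        have h2 := Subgroup.smul_mem_pointwise_smul _ (MulAut.conj k) _ h1
        rw [← Sylow.pointwise_smul_def] at h2
        rw [show (MulAut.conj k • (P₂.subtype hP₂M) : Sylow 3 M) = P₀.subtype le_sup_right from hk] at h2
        exact mem_subgroupOf.1 h2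
      refine ⟨x⁻¹ * v * x, by simpa using hVn.conj_mem v hv x⁻¹, ?_⟩
      have hfwd : ∀ y ∈ (P₀ : Subgroup G), (x⁻¹ * v * x * d) * y * (x⁻¹ * v * x * d)⁻¹ ∈ (P₀ : Subgroup G) := by
        intro y hy
        have h := mul_mem (mul_mem (inv_mem hx) (hk' y hy)) hx
        rw [← hkx] at h
        convert h using 1
        group
      haveI : Finite (P₀ : Subgroup G) := inferInstance
      refine mem_normalizer_fintype fun y hy => hfwd y hy
    set nn := v * d with hnn
    have hPn : ∀ y ∈ (P₀ : Subgroup G), nn * y * nn⁻¹ ∈ (P₀ : Subgroup G) :=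
      fun y hy => (mem_normalizer_iff.1 hn y).1 hy
    have hv2 := hV2 v hv
    set C := V ⊓ centralizer ((P₀ : Subgroup G) : Set G) with hC
    have hCn : C.Normal := by
      rw [← normalizer_eq_top_iff, eq_top_iff, ← htop]
      have hnorm : ∀ g : G, (∀ c ∈ C, g * c * g⁻¹ ∈ C) → g ∈ normalizer (C : Set G) := fun g hg =>
        mem_normalizer_fintype fun c hc => hg c hc
      have hQC : Q ≤ normalizer (C : Set G) := fun q hq => hnorm q fun c hc => by
        rwa [hVc c hc.1 q hq, mul_inv_cancel_right]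
      have hP₀C : (P₀ : Subgroup G) ≤ normalizer (C : Set G) := fun x hx => hnorm x fun c hc => by
        rwa [(mem_centralizer_iff.1 hc.2 x hx), mul_inv_cancel_right]
      have hnC : nn ∈ normalizer (C : Set G) := hnorm nn fun c hc => by
        refine ⟨hVn.conj_mem c hc.1 nn, mem_centralizer_iff.2 fun y hy => ?_⟩
        have h1 : nn⁻¹ * y * nn ∈ (P₀ : Subgroup G) := by
          have := (mem_normalizer_iff.1 (inv_mem hn) y).1 hy
          simpa using this
        calc y * (nn * c * nn⁻¹) = nn * ((nn⁻¹ * y * nn) * c) * nn⁻¹ := by group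
          _ = nn * (c * (nn⁻¹ * y * nn)) * nn⁻¹ := by rw [mem_centralizer_iff.1 hc.2 _ h1]
          _ = _ := by group
      have hdC : d ∈ normalizer (C : Set G) := by
        have := mul_mem (inv_mem (hQC (hVQ hv))) hnC
        rwa [hnn, inv_mul_cancel_left] at this
      -- the Sylow subgroup `P` lies in `Q P₀`
      have hle : (P : Subgroup G) ≤ Q ⊔ (P₀ : Subgroup G) := by
        obtain ⟨g, hg⟩ := MulAction.exists_smul_eq G P P₀
        have h0 : (P₀ : Subgroup G) ≤ Q ⊔ (P : Subgroup G) := by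
          rw [← hg, Sylow.smul_def, Sylow.pointwise_smul_def]
          rintro _ ⟨x, hx, rfl⟩
          exact hQP.conj_mem x (mem_sup_right hx) g
        have hQP₀ : IsPGroup 3 (P₀ : Subgroup G) := P₀.2
        -- equal orders
        have hcardPP : Nat.card (P : Subgroup G) = Nat.card (P₀ : Subgroup G) := by
          rw [P.card_eq_multiplicity, P₀.card_eq_multiplicity]
        have hcardsup : ∀ R : Sylow 3 G, Nat.card ↥(Q ⊔ (R : Subgroup G)) = Nat.card Q * Nat.card (R : Subgroup G) :=
          fun R => Cfsg.Lib.Coprime.card_sup_coprime (fun x _ => by rw [normalizer_eq_top]; exact mem_top x) (by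
            obtain ⟨i, hi⟩ := IsPGroup.iff_card.1 hQ
            obtain ⟨j, hj⟩ := IsPGroup.iff_card.1 R.2
            rw [hi, hj]
            exact Nat.Coprime.pow i j (by norm_num))
        have heq : Q ⊔ (P₀ : Subgroup G) = Q ⊔ (P : Subgroup G) :=
          Subgroup.eq_of_le_of_card_ge (sup_le le_sup_left h0) (by rw [hcardsup, hcardsup, hcardPP])
        exact heq ▸ le_sup_right
      exact sup_le (sup_le (zpowers_le.2 hdC) (hle.trans (sup_le hQC hP₀C))) hQC
    by_cases hCV : C = ⊥
    swap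
    · refine ⟨P₀, ?_⟩
      have hVC : V ≤ C := by
        by_contra h
        exact hmin C ⟨hCn, hCV, inf_le_left.trans hVW⟩ (lt_of_le_of_ne inf_le_left fun e => h e.ge)
      have hvP : v ∈ normalizer ((P₀ : Subgroup G) : Set G) := centralizer_le_normalizer _ (hVC hv).2
      have := mul_mem (inv_mem hvP) hn
      rwa [hnn, inv_mul_cancel_left] at this
    -- the remaining case
    have hnn2 : nn * nn = 1 := by
      have hmem : nn * nn ∈ V := by
        have := mul_mem hv (hVn.conj_mem v hv d)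
        rw [hdinv] at this
        rwa [hnn, show v * d * (v * d) = v * (d * v * d) by simp only [mul_assoc]]
      rw [← mem_bot, ← hCV]
      refine ⟨hmem, mem_centralizer_iff.2 fun y hy => ?_⟩
      have hPV : Disjoint (P₀ : Subgroup G) V := IsPGroup.disjoint_of_ne 3 2 (by norm_num) _ _ P₀.2 hVp
      have hy' : nn * nn * y * (nn * nn)⁻¹ * y⁻¹ ∈ (P₀ : Subgroup G) := by
        have h := hPn _ (hPn y hy)
        rw [show nn * (nn * y * nn⁻¹) * nn⁻¹ = nn * nn * y * (nn * nn)⁻¹ by group] at h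
        exact mul_mem h (inv_mem hy)
      have hy'' : nn * nn * y * (nn * nn)⁻¹ * y⁻¹ ∈ V := by
        have h := mul_mem hmem (hVn.conj_mem _ (inv_mem hmem) y)
        rwa [show nn * nn * (y * (nn * nn)⁻¹ * y⁻¹) = nn * nn * y * (nn * nn)⁻¹ * y⁻¹ by group] at h
      have := (disjoint_def.1 hPV) hy' hy''
      rw [mul_inv_eq_one, mul_inv_eq_iff_eq_mul] at this
      exact this.symm
    have hdv : d * v = v * d := by
      have h : v * d * v * d = 1 := by rw [← hnn2, hnn]; simp only [mul_assoc]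
      calc d * v = (v * v) * d * v * (d * d) := by rw [hv2, hd2, one_mul, mul_one]
        _ = v * (v * d * v * d) * d := by simp only [mul_assoc]
        _ = v * d := by rw [h, mul_one]
    set S : Subgroup G :=
      { carrier := {s | s ∈ V ∧ ∃ q ∈ Q, q * d * q⁻¹ = d * s}
        one_mem' := ⟨one_mem _, 1, one_mem _, by group⟩
        mul_mem' := by
          rintro a b ⟨ha, q, hq, hqa⟩ ⟨hb, r, hr, hrb⟩
          refine ⟨mul_mem ha hb, q * r, mul_mem hq hr, ?_⟩
          calc q * r * d * (q * r)⁻¹ = q * (r * d * r⁻¹) * q⁻¹ := by group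
            _ = q * d * (b * q⁻¹) := by rw [hrb]; group
            _ = q * d * (q⁻¹ * b) := by rw [hVc b hb q⁻¹ (inv_mem hq)]
            _ = (q * d * q⁻¹) * b := by group
            _ = _ := by rw [hqa, mul_assoc]
        inv_mem' := by
          rintro a ⟨ha, h⟩
          have : a⁻¹ = a := inv_eq_of_mul_eq_one_right (hV2 a ha)
          exact ⟨inv_mem ha, by rwa [this]⟩ } with hS
    have hSV : S ≤ V := fun s hs => hs.1
    have hcommS : ∀ w ∈ V, d * w * d * w ∈ S := by
      intro w hw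
      refine ⟨mul_mem (by simpa only [hdinv] using hVn.conj_mem w hw d) hw, w, hVQ hw, ?_⟩
      rw [inv_eq_of_mul_eq_one_right (hV2 w hw)]
      simp only [← mul_assoc, hd2, one_mul]
    letI : CommGroup V := { mul_comm := fun a b => Subtype.ext (hVc b b.2 a (hVQ a.2)) }
    haveI : Fintype (P₀ : Subgroup G) := Fintype.ofFinite _
    classical
    set φ : ↥(P₀ : Subgroup G) → V := fun c => ⟨(c : G) * v * (c : G)⁻¹, hVn.conj_mem v hv c⟩ with hφ
    have hprod : ∏ c, φ c = 1 := by
      have hfix : ∀ x : (P₀ : Subgroup G), (x : G) * ((∏ c, φ c : V) : G) * (x : G)⁻¹ = ((∏ c, φ c : V) : G) := by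
        intro x
        let e : V →* V :=
          { toFun := fun w => ⟨(x : G) * w * (x : G)⁻¹, hVn.conj_mem w w.2 x⟩
            map_one' := Subtype.ext (by simp)
            map_mul' := fun a b => Subtype.ext (by simp [mul_assoc]) }
        have h1 : e (∏ c, φ c) = ∏ c, φ c := by
          rw [map_prod]
          refine Fintype.prod_equiv (Equiv.mulLeft x) _ _ fun c => Subtype.ext ?_
          show (x : G) * ((c : G) * v * (c : G)⁻¹) * (x : G)⁻¹ = ((x : G) * c) * v * ((x : G) * c)⁻¹
          group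
        exact congrArg Subtype.val h1
      refine Subtype.ext (mem_bot.1 (hCV ▸ (⟨(∏ c, φ c : V).2, mem_centralizer_iff.2 fun y hy => ?_⟩ :
        ((∏ c, φ c : V) : G) ∈ C)))
      exact mul_inv_eq_iff_eq_mul.1 (hfix ⟨y, hy⟩)
    set π : V →* V ⧸ S.subgroupOf V := QuotientGroup.mk' (S.subgroupOf V) with hπ
    have hdetect : ∀ a b : V, (a : G) * b ∈ S → π a = π b := by
      intro a b h
      refine QuotientGroup.eq.2 (mem_subgroupOf.2 ?_)
      show (a : G)⁻¹ * b ∈ S
      rwa [inv_eq_of_mul_eq_one_right (hV2 _ a.2)]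
    have hfixed : ∀ c : (P₀ : Subgroup G), nn * (c : G) * nn⁻¹ = c → π (φ c) = π ⟨v, hv⟩ := by
      intro c hc
      refine hdetect _ _ ?_
      show (c : G) * v * (c : G)⁻¹ * v ∈ S
      set w := (c : G) * v * (c : G)⁻¹ with hw
      have hwV : w ∈ V := hVn.conj_mem v hv c
      have hcn : nn * (c : G) = (c : G) * nn := mul_inv_eq_iff_eq_mul.1 hc
      have hnv : nn * v = v * nn := by rw [hnn, mul_assoc, hdv]
      have hwn : nn * w = w * nn := by
        have hcn' : nn * (c : G)⁻¹ = (c : G)⁻¹ * nn := (Commute.inv_right (show Commute nn (c : G) from hcn)).eq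
        calc nn * w = (nn * c) * v * (c : G)⁻¹ := by rw [hw]; simp only [mul_assoc]
          _ = (c : G) * (nn * v) * (c : G)⁻¹ := by rw [hcn]; simp only [mul_assoc]
          _ = (c : G) * v * (nn * (c : G)⁻¹) := by rw [hnv]; simp only [mul_assoc]
          _ = _ := by rw [hcn', hw]; simp only [mul_assoc]
      have hdw : d * w = w * d := by
        have e : d = v * nn := by rw [hnn, ← mul_assoc, hv2, one_mul]
        rw [e, mul_assoc, hwn, ← mul_assoc, hVc w hwV v (hVQ hv), mul_assoc]
      have e : (c : G) * d * (c : G)⁻¹ = d * (w * v) := by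
        have e1 : d = v * nn := by rw [hnn, ← mul_assoc, hv2, one_mul]
        calc (c : G) * d * (c : G)⁻¹ = (c : G) * (v * nn) * (c : G)⁻¹ := by rw [← e1]
          _ = (c : G) * v * (nn * (c : G)⁻¹) := by simp only [mul_assoc]
          _ = (c : G) * v * ((c : G)⁻¹ * nn) := by
            rw [(Commute.inv_right (show Commute nn (c : G) from hcn)).eq]
          _ = w * nn := by rw [hw]; simp only [mul_assoc]
          _ = w * (v * d) := by rw [hnn]
          _ = (w * v) * d := (mul_assoc _ _ _).symm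
          _ = d * (w * v) := (Commute.mul_right (show Commute d w from hdw) (show Commute d v from hdv)).eq.symm
      obtain ⟨q, hq, hqd⟩ := hconj c (by
        rw [e, inv_mul_cancel_left]
        exact hVQ (mul_mem hwV hv))
      exact ⟨mul_mem hwV hv, q, hq, hqd.trans e⟩
    let σ : ↥(P₀ : Subgroup G) → ↥(P₀ : Subgroup G) := fun c => ⟨nn * (c : G) * nn⁻¹, hPn c c.2⟩
    have hσσ : ∀ c, σ (σ c) = c := fun c => Subtype.ext (by
      show nn * (nn * (c : G) * nn⁻¹) * nn⁻¹ = c
      rw [show nn * (nn * (c : G) * nn⁻¹) * nn⁻¹ = (nn * nn) * c * (nn * nn)⁻¹ by group, hnn2]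
      group)
    have hσφ : ∀ c, π (φ (σ c)) = π (φ c) := by
      intro c
      refine hdetect _ _ ?_
      show (nn * (c : G) * nn⁻¹) * v * (nn * (c : G) * nn⁻¹)⁻¹ * ((c : G) * v * (c : G)⁻¹) ∈ S
      set w := (c : G) * v * (c : G)⁻¹ with hw
      have hwV : w ∈ V := hVn.conj_mem v hv c
      have hnv : nn⁻¹ * v * nn = v := by
        rw [mul_assoc, show v * nn = nn * v by rw [hnn, mul_assoc, hdv], inv_mul_cancel_left]
      have e : (nn * (c : G) * nn⁻¹) * v * (nn * (c : G) * nn⁻¹)⁻¹ = d * w * d := by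
        calc (nn * (c : G) * nn⁻¹) * v * (nn * (c : G) * nn⁻¹)⁻¹
            = nn * ((c : G) * (nn⁻¹ * v * nn) * (c : G)⁻¹) * nn⁻¹ := by group
          _ = nn * w * nn⁻¹ := by rw [hnv]
          _ = v * (d * w * d) * v⁻¹ := by rw [hnn, mul_inv_rev, hdinv]; simp only [mul_assoc]
          _ = d * w * d := by
            rw [hVc _ (by simpa only [hdinv] using hVn.conj_mem w hwV d) v (hVQ hv), mul_inv_cancel_right]
      rw [e]
      exact hcommS w hwV
    have hsq : ∀ z : V ⧸ S.subgroupOf V, z * z = 1 := by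
      intro z
      induction z using QuotientGroup.induction_on with
      | H a => rw [← QuotientGroup.mk_mul]; exact (QuotientGroup.eq_one_iff _).2 (mem_subgroupOf.2 (by simpa [hV2 _ a.2] using one_mem S))
    have hvS : v ∈ S := by
      have h1 : ∏ c, π (φ c) = 1 := by rw [← map_prod, hprod, map_one]
      rw [← Finset.prod_filter_mul_prod_filter_not Finset.univ (fun c => σ c = c)] at h1
      have h2 : ∏ c ∈ Finset.univ.filter (fun c => ¬ σ c = c), π (φ c) = 1 := by
        refine Finset.prod_involution (fun c _ => σ c) (fun c _ => by rw [hσφ, hsq])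
          (fun c hc _ => (Finset.mem_filter.1 hc).2) (fun c hc => ?_) (fun c _ => hσσ c)
        refine Finset.mem_filter.2 ⟨Finset.mem_univ _, fun h => (Finset.mem_filter.1 hc).2 ?_⟩
        rw [hσσ] at h
        exact h.symm
      rw [h2, mul_one, Finset.prod_eq_pow_card fun c hc =>
        hfixed c (congrArg Subtype.val (Finset.mem_filter.1 hc).2)] at h1
      have hodd : Odd (Finset.univ.filter (fun c => σ c = c)).card := by
        set F : Subgroup (P₀ : Subgroup G) := (centralizer ({nn} : Set G)).subgroupOf (P₀ : Subgroup G) with hF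
        have hFc : Nat.card F = (Finset.univ.filter (fun c => σ c = c)).card := by
          rw [Nat.card_eq_fintype_card, Fintype.card_subtype]
          congr 1
          ext c
          simp [hF, mem_subgroupOf, mem_centralizer_singleton_iff, σ, Subtype.ext_iff, mul_inv_eq_iff_eq_mul]
          exact eq_comm
        obtain ⟨j, hj⟩ := IsPGroup.iff_card.1 (P₀.2.to_subgroup F)
        rw [← hFc, hj]
        exact (by decide : Odd 3).pow
      obtain ⟨k, hk⟩ := hodd
      rw [hk, pow_succ, pow_mul, sq, hsq, one_pow, one_mul] at h1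
      exact mem_subgroupOf.1 ((QuotientGroup.eq_one_iff _).1 h1)
    obtain ⟨q, hq, hqd⟩ := hvS.2
    refine ⟨MulAut.conj q⁻¹ • P₀, ?_⟩
    refine mem_normalizer_fintype fun y hy => ?_
    rw [SetLike.mem_coe, Sylow.pointwise_smul_def] at hy ⊢
    obtain ⟨x, hx, rfl⟩ := hy
    refine ⟨nn * x * nn⁻¹, hPn x hx, ?_⟩
    show q⁻¹ * (nn * x * nn⁻¹) * q⁻¹⁻¹ = d * (q⁻¹ * x * q⁻¹⁻¹) * d⁻¹
    rw [hnn, ← hdv, ← hqd]
    group

/-- A Sylow 3-subgroup normalised by `d`, generating with `d` and the 2-core. -/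
theorem exists_sylow_three [Finite G] (hD : IsThreeTranspositionClass D) (hD2 : ∃ a ∈ D, ∃ b ∈ D, a ≠ b) {d : G}
    (hd : d ∈ D) (hV : {y : G | y ∈ D ∧ Commute d y} = {v : G | v ∈ D ∧ ∀ e ∈ D, Commute v e ↔ Commute d e}) :
    ∃ P : Sylow 3 G, d ∈ normalizer ((P : Subgroup G) : Set G) ∧ zpowers d ⊔ (P : Subgroup G) ⊔ pCore 2 G = ⊤ := by
  haveI : Fact (Nat.Prime 2) := ⟨Nat.prime_two⟩
  haveI : Fact (Nat.Prime 3) := ⟨Nat.prime_three⟩
  haveI := (Cfsg.Lib.Components.pCore_normal_and_isPGroup (G := G) 2).1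
  set Q := pCore 2 G with hQdef
  have hQ : IsPGroup 2 Q := Cfsg.Lib.Components.isPGroup_pCore 2
  set f := QuotientGroup.mk' Q with hf
  have hfs : Function.Surjective f := QuotientGroup.mk'_surjective Q
  have hdne : f d ≠ 1 := by
    intro h
    obtain ⟨e, he, hne⟩ := exists_not_commute hD hD2 hd
    have hall : ∀ x ∈ D, x ∈ Q := fun x hx => by
      obtain ⟨k, rfl⟩ := exists_conj hD hd hx
      exact (inferInstance : Q.Normal).conj_mem d ((QuotientGroup.eq_one_iff d).1 h) k
    exact hne ((vRel_of_mem_pCore hD hd he (mul_mem (inv_mem (hall d hd)) (hall e he))).commute hd).symm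
  have hcls := map_class hD f hfs hd hdne
  have hR := isPGroup_productSubgroup hcls (by
    rintro _ ⟨a, ha, rfl⟩ _ ⟨b, hb, rfl⟩ h
    by_cases hab : Commute a b
    · exact QuotientGroup.eq.2 (by
        rw [inv_eq hD.1 ha]
        have := inv_mem (vRel_mem_pCore hD hb ha (vRel_of_commute hD hd hV ha hb hab))
        rwa [mul_inv_rev, inv_eq hD.1 ha, inv_eq hD.1 hb] at this)
    · have h3 : (f a * f b) ^ 3 = 1 := by rw [← map_mul, ← map_pow, cube_of_not_commute hD.1 ha hb hab, map_one]
      have h2 : (f a * f b) ^ 2 = 1 := (commute_iff_sq (sq_eq_one hcls.1 ⟨a, ha, rfl⟩) (sq_eq_one hcls.1 ⟨b, hb, rfl⟩)).1 h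
      rw [pow_succ, h2, one_mul, mul_eq_one_iff_eq_inv, inv_eq hcls.1 ⟨b, hb, rfl⟩] at h3
      exact h3)
  set R := productSubgroup (f '' D) with hRdef
  haveI hRn : R.Normal := by
    refine ⟨fun x hx g => ?_⟩
    induction hx using closure_induction with
    | mem x hx =>
      obtain ⟨a, ha, b, hb, rfl⟩ := hx
      rw [show g * (a * b) * g⁻¹ = g * a * g⁻¹ * (g * b * g⁻¹) by group]
      exact mul_mem_productSubgroup (conj_mem hcls g ha) (conj_mem hcls g hb)
    | one => simp
    | mul x y _ _ hx hy => rw [show g * (x * y) * g⁻¹ = g * x * g⁻¹ * (g * y * g⁻¹) by group]; exact mul_mem hx hy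
    | inv x _ hx => rw [show g * x⁻¹ * g⁻¹ = (g * x * g⁻¹)⁻¹ by group]; exact inv_mem hx
  have hsup : zpowers (f d) ⊔ R = ⊤ := by
    rw [eq_top_iff, ← hcls.2.2, closure_le]
    intro x hx
    have e : x = f d * (f d * x) := by rw [← mul_assoc, sq_eq_one hcls.1 ⟨d, hd, rfl⟩, one_mul]
    rw [e]
    exact mul_mem (mem_sup_left (mem_zpowers _)) (mem_sup_right (mul_mem_productSubgroup ⟨d, hd, rfl⟩ hx))
  obtain ⟨S, hS⟩ := hR.exists_le_sylow
  have hSR : (S : Subgroup (G ⧸ Q)) = R := by
    refine le_antisymm (fun x hx => ?_) hS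
    obtain ⟨a, ⟨i, rfl⟩, r, hr, rfl⟩ := mem_sup_of_normal_right.1 (hsup ▸ mem_top x)
    dsimp only at hx ⊢
    have hfd2 : orderOf (f d) = 2 := hcls.1.1 _ ⟨d, hd, rfl⟩
    rw [← zpow_mod_orderOf, hfd2] at hx ⊢
    rcases Int.emod_two_eq_zero_or_one i with h | h <;> simp only [Nat.cast_ofNat, h, zpow_zero, zpow_one] at hx ⊢
    · rwa [one_mul]
    · exfalso
      have hdS : f d ∈ (S : Subgroup (G ⧸ Q)) := by simpa using mul_mem hx (inv_mem (hS hr))
      refine hdne (eq_one_of_sq_mem_pgroup Nat.prime_three S.2 Nat.prime_two (by norm_num) hdS ?_)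
      rw [sq, sq_eq_one hcls.1 ⟨d, hd, rfl⟩]
  obtain ⟨P, hP⟩ := Sylow.mapSurjective_surjective hfs 3 S
  have hPR : (P : Subgroup G).map f = R := by rw [← hSR, ← hP, Sylow.coe_mapSurjective]
  have hQP : Q ⊔ (P : Subgroup G) = R.comap f := by
    rw [← hPR, comap_map_eq, QuotientGroup.ker_mk', sup_comm]
  have htop : ∀ P' : Sylow 3 G, zpowers d ⊔ (P' : Subgroup G) ⊔ Q = ⊤ := by
    intro P'
    obtain ⟨g, hg⟩ := MulAction.exists_smul_eq G P P'
    have hmap : (P' : Subgroup G).map f = R := by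
      rw [← hg, Sylow.smul_def, Sylow.pointwise_smul_def]
      refine le_antisymm ?_ ?_
      · rintro _ ⟨_, ⟨x, hx, rfl⟩, rfl⟩
        rw [← hPR]
        have h1 : f g * f x * (f g)⁻¹ ∈ R := hRn.conj_mem _ (hPR ▸ mem_map_of_mem f hx) _
        rw [hPR]
        show f (g * x * g⁻¹) ∈ R
        rwa [map_mul, map_mul, map_inv]
      · intro r hr
        have h1 : (f g)⁻¹ * r * f g ∈ R := by simpa using hRn.conj_mem r hr (f g)⁻¹
        rw [← hPR] at h1
        obtain ⟨x, hx, hxr⟩ := h1
        refine ⟨g * x * g⁻¹, ⟨x, hx, rfl⟩, ?_⟩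
        rw [map_mul, map_mul, map_inv, hxr]; group
    have h := comap_map_eq f (zpowers d ⊔ (P' : Subgroup G))
    rw [Subgroup.map_sup, MonoidHom.map_zpowers, hmap, hsup, comap_top, QuotientGroup.ker_mk'] at h
    exact h.symm
  obtain ⟨P', hP'⟩ := exists_invariant_sylow_three_aux (Nat.card G) G le_rfl d Q P (sq_eq_one hD.1 hd) hQ (htop P)
    (hQP ▸ hRn.comap f) fun g hg => vRel_exists_conj hD hD2 hd (conj_mem hD g hd)
      (vRel_of_mem_pCore hD hd (conj_mem hD g hd) hg)
  exact ⟨P', hP', htop P'⟩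

end Cfsg.Lib.ThreeTr
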