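import Cfsg.Agent.ThreeTransposition.Primitive

/-!
Primitive classes of 3-transpositions: the members commuting with a given one form a class, rank three.
-/

set_option linter.unusedSectionVars false
set_option linter.style.haveILetI false

namespace Cfsg.Lib.ThreeTr

open Cfsg Subgroup

variable {G : Type*} [Group G] {D : Set G}

/-- The members commuting with `d`, other than `d`. -/
def perp (D : Set G) (d : G) : Set G := {y | y ∈ D ∧ y ≠ d ∧ Commute d y}

theorem conj_image_perp (hD : IsThreeTranspositionClass D) (g : G) (p : G) :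
    (fun x => g * x * g⁻¹) '' perp D p = perp D (g * p * g⁻¹) := by
  ext y
  constructor
  · rintro ⟨x, ⟨hx, hne, hc⟩, rfl⟩
    exact ⟨conj_mem hD g hx, fun h => hne (mul_left_cancel (mul_right_cancel h)), (conj_commute_iff g p x).2 hc⟩
  · rintro ⟨hy, hne, hc⟩
    refine ⟨g⁻¹ * y * g, ⟨by simpa using conj_mem hD g⁻¹ hy, fun h => hne ?_, ?_⟩, by group⟩
    · rw [← h]; group
    · have := (conj_commute_iff g⁻¹ (g * p * g⁻¹) y).2 hc
      rwa [show g⁻¹ * (g * p * g⁻¹) * g⁻¹⁻¹ = p by group, inv_inv] at this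

theorem conj_image_injective (g : G) : Function.Injective fun x : G => g * x * g⁻¹ :=
  fun _ _ h => mul_left_cancel (mul_right_cancel h)

theorem ncard_perp_eq (hD : IsThreeTranspositionClass D) {p q : G} (hp : p ∈ D) (hq : q ∈ D) :
    (perp D p).ncard = (perp D q).ncard := by
  obtain ⟨g, rfl⟩ := exists_conj hD hp hq
  rw [← conj_image_perp hD g p, Set.ncard_image_of_injective _ (conj_image_injective g)]

/-- Steps between noncommuting members of a subset. -/
def StepIn (S : Set G) (a b : G) : Prop := a ∈ S ∧ b ∈ S ∧ ¬ Commute a b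

/-- The part of `perp D p` linked to `x` by noncommuting steps. -/
def nclass (D : Set G) (p x : G) : Set G := {y | y ∈ perp D p ∧ Relation.ReflTransGen (StepIn (perp D p)) x y}

theorem step_symm {S : Set G} {a b : G} (h : Relation.ReflTransGen (StepIn S) a b) :
    Relation.ReflTransGen (StepIn S) b a := by
  induction h with
  | refl => exact Relation.ReflTransGen.refl
  | tail _ hbc ih => exact Relation.ReflTransGen.head ⟨hbc.2.1, hbc.1, fun h => hbc.2.2 h.symm⟩ ih

theorem nclass_subset (p x : G) : nclass D p x ⊆ perp D p := fun _ h => h.1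

theorem self_mem_nclass {p x : G} (hx : x ∈ perp D p) : x ∈ nclass D p x := ⟨hx, Relation.ReflTransGen.refl⟩

theorem nclass_eq_of_mem {p x y : G} (h : y ∈ nclass D p x) : nclass D p y = nclass D p x :=
  Set.ext fun _ => ⟨fun hz => ⟨hz.1, h.2.trans hz.2⟩, fun hz => ⟨hz.1, (step_symm h.2).trans hz.2⟩⟩

theorem commute_of_not_mem_nclass {p x a b : G} (ha : a ∈ nclass D p x) (hb : b ∈ perp D p) (hb' : b ∉ nclass D p x) :
    Commute a b :=
  by_contra fun hne => hb' ⟨hb, ha.2.tail ⟨ha.1, hb, hne⟩⟩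

theorem conj_image_nclass (hD : IsThreeTranspositionClass D) (g : G) (p x : G) :
    (fun y => g * y * g⁻¹) '' nclass D p x = nclass D (g * p * g⁻¹) (g * x * g⁻¹) := by
  have fwd : ∀ (g p x y : G), y ∈ nclass D p x → g * y * g⁻¹ ∈ nclass D (g * p * g⁻¹) (g * x * g⁻¹) := by
    intro g p x y hy
    refine ⟨conj_image_perp hD g p ▸ ⟨y, hy.1, rfl⟩, ?_⟩
    refine hy.2.lift (fun z => g * z * g⁻¹) fun a b hab => ?_
    exact ⟨conj_image_perp hD g p ▸ ⟨a, hab.1, rfl⟩, conj_image_perp hD g p ▸ ⟨b, hab.2.1, rfl⟩,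
      fun h => hab.2.2 ((conj_commute_iff g a b).1 h)⟩
  refine Set.Subset.antisymm (by rintro _ ⟨y, hy, rfl⟩; exact fwd g p x y hy) fun z hz => ?_
  refine ⟨g⁻¹ * z * g, ?_, by group⟩
  have := fwd g⁻¹ _ _ z hz
  rwa [show g⁻¹ * (g * p * g⁻¹) * g⁻¹⁻¹ = p by group, show g⁻¹ * (g * x * g⁻¹) * g⁻¹⁻¹ = x by group,
    inv_inv] at this

/-- A noncommuting chain inside `perp D p` is realised by conjugation inside the subgroup it generates. -/
theorem exists_closure_conj (hD : IsThreeTranspositionClass D) {p x y : G}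
    (h : Relation.ReflTransGen (StepIn (perp D p)) x y) : ∃ g ∈ closure (perp D p), g * x * g⁻¹ = y := by
  induction h with
  | refl => exact ⟨1, one_mem _, by group⟩
  | @tail b c _ hbc ih =>
    obtain ⟨g, hg, rfl⟩ := ih
    refine ⟨(g * x * g⁻¹) * c * g, mul_mem (mul_mem (subset_closure hbc.1) (subset_closure hbc.2.1)) hg, ?_⟩
    refine Eq.trans ?_ (mul_conj_eq hD.1 hbc.1.1 hbc.2.1.1 hbc.2.2)
    group

theorem closure_perp_commute {p g : G} (hg : g ∈ closure (perp D p)) : Commute g p := by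
  have : closure (perp D p) ≤ centralizer ({p} : Set G) := by
    rw [closure_le]
    exact fun y hy => mem_centralizer_singleton_iff.2 hy.2.2.symm.eq
  exact mem_centralizer_singleton_iff.1 (this hg)

theorem Rich.two (hR : Rich D) : ∃ a ∈ D, ∃ b ∈ D, a ≠ b := hR.prim.2.1

theorem Rich.exists_perp (hR : Rich D) {d : G} (hd : d ∈ D) : ∃ x, x ∈ perp D d := by
  obtain ⟨a, ha, b, hb, hab, hc⟩ := hR.pair
  obtain ⟨g, rfl⟩ := exists_conj hR.cls ha hd
  exact ⟨g * b * g⁻¹, conj_image_perp hR.cls g a ▸ ⟨b, ⟨hb, hab.symm, hc⟩, rfl⟩⟩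

theorem Rich.exists_sep [Finite G] (hR : Rich D) {d f : G} (hd : d ∈ D) (hf : f ∈ perp D d) :
    ∃ z ∈ D, Commute f z ∧ ¬ Commute d z := by
  by_contra hcon
  push Not at hcon
  have hD := hR.cls
  have hdf : d ∈ perp D f := ⟨hd, hf.2.1.symm, hf.2.2.symm⟩
  have hsub : perp D f \ {d} ⊆ perp D d \ {f} := by
    rintro y ⟨⟨hy, hyf, hfy⟩, hyd⟩
    exact ⟨⟨hy, hyd, hcon y hy hfy⟩, hyf⟩
  have heq : perp D f \ {d} = perp D d \ {f} := Set.eq_of_subset_of_ncard_le hsub (by
    rw [Set.ncard_sdiff_singleton_of_mem hdf, Set.ncard_sdiff_singleton_of_mem hf, ncard_perp_eq hD hd hf.1])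
    (Set.toFinite _)
  refine hf.2.1 (eq_of_vRel_of_primitive hR.prim hD hd hf.1 fun e he => ?_).symm
  by_cases hed : e = d
  · subst hed; exact iff_of_true (Commute.refl _) hdf.2.2
  by_cases hef : e = f
  · subst hef; exact iff_of_true hf.2.2 (Commute.refl _)
  constructor
  · intro h
    have : e ∈ perp D d \ {f} := ⟨⟨he, hed, h⟩, hef⟩
    rw [← heq] at this
    exact this.1.2.2
  · exact fun h => hcon e he h

/-- A subset containing `d`, normalised by the centraliser of `d` and by something not centralising `d`. -/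
theorem Rich.eq_of_stab (hR : Rich D) {B : Set G} {d z : G} (hBD : B ⊆ D) (hd : d ∈ B)
    (hC : ∀ g : G, Commute g d → g ∈ normalizer B) (hz : z ∈ normalizer B) (hzd : ¬ Commute z d) : B = D := by
  set O : Set G := {u | ∃ h ∈ normalizer B, u = h * d * h⁻¹} with hO
  have hOB : O ⊆ B := by
    rintro _ ⟨h, hh, rfl⟩
    exact (mem_set_normalizer_iff.1 hh d).1 hd
  have hblock : ∀ g : G, (fun x => g * x * g⁻¹) '' O = O ∨ Disjoint ((fun x => g * x * g⁻¹) '' O) O := by
    intro g
    by_cases hg : g ∈ normalizer B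
    · left
      refine Set.Subset.antisymm ?_ ?_
      · rintro _ ⟨_, ⟨h, hh, rfl⟩, rfl⟩
        exact ⟨g * h, mul_mem hg hh, by group⟩
      · rintro _ ⟨h, hh, rfl⟩
        exact ⟨(g⁻¹ * h) * d * (g⁻¹ * h)⁻¹, ⟨g⁻¹ * h, mul_mem (inv_mem hg) hh, rfl⟩, by group⟩
    · right
      rw [Set.disjoint_left]
      rintro _ ⟨_, ⟨h, hh, rfl⟩, rfl⟩ ⟨k, hk, hk'⟩
      refine hg ?_
      have hc : Commute (k⁻¹ * g * h) d := by
        show k⁻¹ * g * h * d = d * (k⁻¹ * g * h)
        calc k⁻¹ * g * h * d = k⁻¹ * (g * (h * d * h⁻¹) * g⁻¹) * g * h := by group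
          _ = k⁻¹ * (k * d * k⁻¹) * g * h := by rw [show g * (h * d * h⁻¹) * g⁻¹ = k * d * k⁻¹ from hk']
          _ = _ := by group
      have := mul_mem (mul_mem hk (hC _ hc)) (inv_mem hh)
      rwa [show k * (k⁻¹ * g * h) * h⁻¹ = g by group] at this
  rcases hR.prim.2.2 O (hOB.trans hBD) hblock with h | h
  · refine absurd ?_ hzd
    have := h (x := z * d * z⁻¹) ⟨z, hz, rfl⟩ (y := d) ⟨1, one_mem _, by group⟩
    exact mul_inv_eq_iff_eq_mul.1 this
  · exact Set.Subset.antisymm hBD (h ▸ hOB)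

/-- The members commuting with `d` are linked by noncommuting steps. -/
theorem Rich.perp_connected [Finite G] (hR : Rich D) {d x y : G} (hd : d ∈ D) (hx : x ∈ perp D d)
    (hy : y ∈ perp D d) : Relation.ReflTransGen (StepIn (perp D d)) x y := by
  classical
  have hD := hR.cls
  -- the largest classes
  obtain ⟨x₀, hx₀, hmax₀⟩ := Set.exists_max_image (perp D d) (fun z => (nclass D d z).ncard) (Set.toFinite _) ⟨x, hx⟩
  set M := (nclass D d x₀).ncard with hM
  have hle : ∀ p ∈ D, ∀ z ∈ perp D p, (nclass D p z).ncard ≤ M := by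
    intro p hp z hz
    obtain ⟨g, rfl⟩ := exists_conj hD hd hp
    rw [← conj_image_perp hD g d] at hz
    obtain ⟨w, hw, rfl⟩ := hz
    rw [← conj_image_nclass hD g d w, Set.ncard_image_of_injective _ (conj_image_injective g)]
    exact hmax₀ w hw
  set MC : G → Set (Set G) := fun p => {E | ∃ z ∈ perp D p, nclass D p z = E ∧ E.ncard = M} with hMC
  have hMCconj : ∀ g p : G, (fun E : Set G => (fun u => g * u * g⁻¹) '' E) '' MC p = MC (g * p * g⁻¹) := by
    intro g p
    ext E
    constructor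
    · rintro ⟨F, ⟨z, hz, hF, hcard⟩, rfl⟩
      refine ⟨g * z * g⁻¹, conj_image_perp hD g p ▸ ⟨z, hz, rfl⟩, by dsimp only; rw [← hF, conj_image_nclass hD], ?_⟩
      rw [Set.ncard_image_of_injective _ (conj_image_injective g), hcard]
    · rintro ⟨z, hz, hE, hcard⟩
      rw [← conj_image_perp hD g p] at hz
      obtain ⟨w, hw, rfl⟩ := hz
      rw [← conj_image_nclass hD g p w] at hE
      refine ⟨nclass D p w, ⟨w, hw, rfl, ?_⟩, hE⟩
      rwa [← Set.ncard_image_of_injective _ (conj_image_injective g), hE]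
  have hMCcard : ∀ p ∈ D, (MC p).ncard = (MC d).ncard := by
    intro p hp
    obtain ⟨g, rfl⟩ := exists_conj hD hd hp
    rw [← hMCconj g d, Set.ncard_image_of_injective _ (Set.image_injective.2 (conj_image_injective g))]
  have hsub : ∀ {p : G} {E : Set G}, E ∈ MC p → E ⊆ perp D p := by
    rintro p E ⟨z, _, rfl, _⟩; exact nclass_subset p z
  have hne : ∀ {p : G} {E : Set G}, E ∈ MC p → ∀ e ∈ E, nclass D p e = E := by
    rintro p E ⟨z, _, rfl, _⟩ e he; exact nclass_eq_of_mem he
  have hcomm : ∀ {p : G} {E : Set G}, E ∈ MC p → ∀ a ∈ E, ∀ b ∈ perp D p, b ∉ E → Commute a b := by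
    rintro p E ⟨z, _, rfl, _⟩ a ha b hb hb'; exact commute_of_not_mem_nclass ha hb hb'
  have key : ∀ {p q : G} {E : Set G}, E ∈ MC p → q ∈ perp D p → q ∉ E → E ∈ MC q := by
    intro p q E hE hq hqE
    have hEq : ∀ a ∈ E, a ∈ perp D q := fun a ha =>
      ⟨(hsub hE ha).1, fun h => hqE (h ▸ ha), (hcomm hE a ha q hq hqE).symm⟩
    have hsubset : ∀ z, z ∈ E → E ⊆ nclass D q z := by
      intro z hz a ha
      rw [← hne hE z hz] at ha
      refine ⟨hEq a (hne hE z hz ▸ ha), ?_⟩
      have hrec : ∀ b, Relation.ReflTransGen (StepIn (perp D p)) z b → b ∈ E ∧ Relation.ReflTransGen (StepIn (perp D q)) z b := by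
        intro b hb
        induction hb with
        | refl => exact ⟨hz, Relation.ReflTransGen.refl⟩
        | @tail b c _ hbc ih =>
          have hcE : c ∈ E := by
            by_contra hc
            exact hbc.2.2 (hcomm hE b ih.1 c hbc.2.1 hc)
          exact ⟨hcE, ih.2.tail ⟨hEq b ih.1, hEq c hcE, hbc.2.2⟩⟩
      exact (hrec a ha.2).2
    obtain ⟨z, hzp, hzE, hcard⟩ := id hE
    have hz : z ∈ E := hzE ▸ self_mem_nclass hzp
    refine ⟨z, hEq z hz, ?_, hcard⟩
    exact (Set.eq_of_subset_of_ncard_le (hsubset z hz) (hcard ▸ hle q hq.1 z (hEq z hz)) (Set.toFinite _)).symm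
  have hE₀ : nclass D d x₀ ∈ MC d := ⟨x₀, hx₀, rfl, rfl⟩
  by_cases hall : perp D d ⊆ nclass D d x₀
  · exact (step_symm (hall hx).2).trans (hall hy).2
  exfalso
  set B : Set G := {p | p ∈ D ∧ MC p = MC d} with hB
  have hCd : ∀ g p : G, MC p = MC d → Commute g p → g ∈ normalizer B := by
    intro g p hp hgp
    have hfix : ∀ g : G, Commute g p → (fun E : Set G => (fun u => g * u * g⁻¹) '' E) '' MC d = MC d := by
      intro g hg
      rw [← hp, hMCconj, hg.eq, mul_inv_cancel_right]
    have hfwd : ∀ g : G, Commute g p → ∀ q ∈ B, g * q * g⁻¹ ∈ B := fun g hg q hq =>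
      ⟨conj_mem hD g hq.1, by rw [← hMCconj, hq.2, hfix g hg]⟩
    refine mem_set_normalizer_iff.2 fun q => ⟨hfwd g hgp q, fun hq => ?_⟩
    have := hfwd g⁻¹ hgp.inv_left _ hq
    simpa [mul_assoc] using this
  -- a member outside the centraliser normalising `B` yields a contradiction
  have hfinish : ∀ z : G, z ∈ normalizer B → ¬ Commute z d → False := by
    intro z hz hzd
    have hBall := hR.eq_of_stab (B := B) (fun p hp => hp.1) ⟨hd, rfl⟩ (fun g hg => hCd g d rfl hg) hz hzd
    have : x₀ ∈ B := hBall.symm ▸ hx₀.1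
    have h' := hsub (this.2.symm ▸ hE₀) (self_mem_nclass hx₀)
    exact h'.2.1 rfl
  obtain ⟨f, hf, hfout⟩ := Set.not_subset.1 hall
  by_cases hcase : ∃ f ∈ perp D d, ∀ E ∈ MC d, f ∉ E
  · obtain ⟨f, hf, hfout⟩ := hcase
    have hMCf : MC d = MC f := Set.eq_of_subset_of_ncard_le (fun E hE => key hE hf (hfout E hE))
      (hMCcard f hf.1).le (Set.toFinite _)
    obtain ⟨z, hz, hfz, hdz⟩ := hR.exists_sep hd hf
    exact hfinish z (hCd z f hMCf.symm hfz.symm) fun h => hdz h.symm
  push Not at hcase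
  -- every member of `perp D d` lies in a largest class, and there are at least two of them
  obtain ⟨F, hF, hfF⟩ := hcase f hf
  have hFne : F ≠ nclass D d x₀ := fun h => hfout (h ▸ hfF)
  have hstep : ∀ {E : Set G} {e z : G}, E ∈ MC d → e ∈ E → z ∈ D → Commute e z → ¬ Commute d z →
      ∀ E' ∈ MC d, E' ≠ E → E' ∈ MC z := by
    intro E e z hE he hz hez hdz E' hE' hne'
    have heperp := hsub hE he
    have heE' : e ∉ E' := fun h => hne' ((hne hE' e h).symm.trans (hne hE e he))
    have hE'e : E' ∈ MC e := key hE' heperp heE'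
    have hdE' : d ∉ E' := fun h => (hsub hE' h).2.1 rfl
    have hde : d ∈ perp D e := ⟨hd, heperp.2.1.symm, heperp.2.2.symm⟩
    have hze : z ∈ perp D e := ⟨hz, fun h => hdz (h ▸ heperp.2.2), hez⟩
    exact key hE'e hze fun h => hdz (hcomm hE'e z h d hde hdE').symm
  obtain ⟨z, hz, hfz, hdz⟩ := hR.exists_sep hd (hsub hF hfF)
  have h1 : nclass D d x₀ ∈ MC z := hstep hF hfF hz hfz hdz _ hE₀ hFne.symm
  have hxz : Commute x₀ z := ((hsub h1 (self_mem_nclass hx₀)).2.2).symm
  have hMCz : MC d = MC z := by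
    refine Set.eq_of_subset_of_ncard_le (fun E hE => ?_) (hMCcard z hz).le (Set.toFinite _)
    by_cases hEF : E = F
    · exact hEF ▸ hstep hE₀ (self_mem_nclass hx₀) hz hxz hdz F hF hFne
    · exact hstep hF hfF hz hfz hdz E hE hEF
  exact hfinish z (hCd z z hMCz.symm (Commute.refl z)) fun h => hdz h.symm

theorem Rich.perp_transitive [Finite G] (hR : Rich D) {d x y : G} (hd : d ∈ D) (hx : x ∈ perp D d)
    (hy : y ∈ perp D d) : ∃ g ∈ closure (perp D d), g * x * g⁻¹ = y :=
  exists_closure_conj hR.cls (hR.perp_connected hd hx hy)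

/-- The conjugates of `c` under the centraliser of `d`. -/
def orbitOf (d c : G) : Set G := {u | ∃ g, Commute g d ∧ g * c * g⁻¹ = u}

theorem self_mem_orbitOf (d c : G) : c ∈ orbitOf d c := ⟨1, Commute.one_left d, by group⟩

theorem orbitOf_conj {d c u g : G} (hu : u ∈ orbitOf d c) (hg : Commute g d) : g * u * g⁻¹ ∈ orbitOf d c := by
  obtain ⟨h, hh, rfl⟩ := hu
  exact ⟨g * h, hg.mul_left hh, by group⟩

theorem orbitOf_not_commute {d c u : G} (hu : u ∈ orbitOf d c) (hc : ¬ Commute d c) : ¬ Commute d u := by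
  obtain ⟨g, hg, rfl⟩ := hu
  intro h
  refine hc ((conj_commute_iff g d c).1 ?_)
  rwa [hg.eq, mul_inv_cancel_right]

/-- Commuting members off the centraliser of `d` are conjugate by something centralising `d`. -/
theorem exists_conj_fix (hE : IsThreeTranspositionSet D) {d c c' : G} (hd : d ∈ D) (hc : c ∈ D) (hc' : c' ∈ D)
    (h₁ : ¬ Commute d c) (h₂ : ¬ Commute d c') (h : Commute c c') :
    ∃ g : G, Commute g d ∧ g * c * g⁻¹ = c' := by
  have hd2 := sq_eq_one hE hd
  have hc2 := sq_eq_one hE hc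
  have hc'2 := sq_eq_one hE hc'
  set w := c * d * c' * d * c with hw
  have hwd : Commute w d := by
    have hb : d * c * d * c * d = c := by
      calc d * c * d * c * d = d * (c * d * c) * d := by simp only [mul_assoc]
        _ = d * (d * c * d) * d := by rw [braid hE hd hc h₁]
        _ = c := invol_conj_conj hd2 c
    have h' : Commute c' (d * c * d * c * d) := by rw [hb]; exact h.symm
    have := (conj_commute_iff (c * d) c' (d * c * d * c * d)).2 h'
    rw [show c * d * c' * (c * d)⁻¹ = w by rw [hw, mul_inv_rev, inv_eq hE hd, inv_eq hE hc]; simp only [mul_assoc]] at this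
    rwa [show c * d * (d * c * d * c * d) * (c * d)⁻¹ = d by
      rw [mul_inv_rev, inv_eq hE hd, inv_eq hE hc]
      calc c * d * (d * c * d * c * d) * (d * c) = c * ((d * d) * c) * d * c * (d * d) * c := by simp only [mul_assoc]
        _ = d := by rw [hd2, one_mul, hc2, one_mul, mul_one, mul_assoc, hc2, mul_one]] at this
  refine ⟨w * d, hwd.mul_left (Commute.refl d), ?_⟩
  have hwinv : w⁻¹ = w := by
    simp only [hw, mul_inv_rev, inv_eq hE hd, inv_eq hE hc, inv_eq hE hc', mul_assoc]
  rw [mul_inv_rev, inv_eq hE hd, hwinv]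
  calc w * d * c * (d * w) = w * (d * c * d) * w := by simp only [mul_assoc]
    _ = w * (c * d * c) * w := by rw [braid hE hd hc h₁]
    _ = c * d * c' * (d * ((c * c) * (d * ((c * c) * d)))) * c' * d * c := by simp only [hw, mul_assoc]
    _ = c * d * (c' * d * c') * d * c := by
        rw [hc2, one_mul, one_mul, hd2, mul_one]; simp only [mul_assoc]
    _ = c * d * (d * c' * d) * d * c := by rw [braid hE hd hc' h₂]
    _ = c * (d * (d * c' * d) * d) * c := by simp only [mul_assoc]
    _ = c' := by rw [invol_conj_conj hd2, h.eq, mul_assoc, hc2, mul_one]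

/-- The centraliser of `d` is transitive on the members not commuting with `d`. -/
theorem Rich.nonperp_transitive [Finite G] (hR : Rich D) {d u v : G} (hd : d ∈ D) (hu : u ∈ D) (hdu : ¬ Commute d u)
    (hv : v ∈ D) (hdv : ¬ Commute d v) : ∃ g : G, Commute g d ∧ g * u * g⁻¹ = v := by
  have hD := hR.cls
  have hd2 := sq_eq_one hD.1 hd
  set A : Set G := {y | y ∈ D ∧ ¬ Commute d y} with hA
  set X : G → Set G := fun y => {x | x ∈ perp D d ∧ Commute x y} with hX
  obtain ⟨c, ⟨hc, hdc⟩, hmax⟩ := Set.exists_max_image A (fun y => (X y).ncard) (Set.toFinite _) ⟨u, hu, hdu⟩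
  set O := orbitOf d c with hOdef
  suffices hAO : ∀ y ∈ A, y ∈ O by
    obtain ⟨g, hg, rfl⟩ := hAO u ⟨hu, hdu⟩
    obtain ⟨h, hh, rfl⟩ := hAO v ⟨hv, hdv⟩
    exact ⟨h * g⁻¹, hh.mul_left hg.inv_left, by group⟩
  have hOA : ∀ y ∈ O, y ∈ A := by
    intro y hy
    refine ⟨?_, orbitOf_not_commute hy hdc⟩
    obtain ⟨g, -, rfl⟩ := hy
    exact conj_mem hD g hc
  have hnb : ∀ y ∈ O, ∀ z ∈ A, Commute y z → z ∈ O := by
    intro y hy z hz hyz
    obtain ⟨g, hg, rfl⟩ := exists_conj_fix hD.1 hd (hOA y hy).1 hz.1 (hOA y hy).2 hz.2 hyz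
    exact orbitOf_conj hy hg
  have hXconj : ∀ (g y : G), Commute g d → (X (g * y * g⁻¹)).ncard = (X y).ncard := by
    intro g y hg
    rw [← Set.ncard_image_of_injective (X y) (conj_image_injective g)]
    congr 1
    ext x
    constructor
    · rintro ⟨hx, hxy⟩
      have hgd : g * d * g⁻¹ = d := by rw [hg.eq, mul_inv_cancel_right]
      rw [← hgd, ← conj_image_perp hD g d] at hx
      obtain ⟨w, hw, rfl⟩ := hx
      exact ⟨w, ⟨hw, (conj_commute_iff g w y).1 hxy⟩, rfl⟩
    · rintro ⟨w, ⟨hw, hwy⟩, rfl⟩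
      refine ⟨?_, (conj_commute_iff g w y).2 hwy⟩
      have hgd : g * d * g⁻¹ = d := by rw [hg.eq, mul_inv_cancel_right]
      rw [← hgd, ← conj_image_perp hD g d]
      exact ⟨w, hw, rfl⟩
  have hXO : ∀ y ∈ O, (X y).ncard = (X c).ncard := by
    rintro _ ⟨g, hg, rfl⟩
    exact hXconj g c hg
  by_contra hcon
  push Not at hcon
  obtain ⟨m, hm, hmO⟩ := hcon
  -- conjugation inside the orbit escapes
  obtain ⟨a, ha, o, ho, hesc⟩ : ∃ a ∈ O, ∃ o ∈ O, o * a * o ∉ insert d (perp D d ∪ O) := by
    by_contra h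
    push Not at h
    set U : Set G := insert d (perp D d ∪ O) with hU
    have hUD : U ⊆ D := by
      rintro y (rfl | hy | hy)
      exacts [hd, hy.1, (hOA y hy).1]
    have hmap : ∀ g : G, Commute g d → ∀ y ∈ U, g * y * g⁻¹ ∈ U := by
      intro g hg y hy
      have hgd : g * d * g⁻¹ = d := by rw [hg.eq, mul_inv_cancel_right]
      rcases hy with rfl | hy | hy
      · exact Or.inl hgd
      · exact Or.inr (Or.inl (hgd ▸ conj_image_perp hD g d ▸ ⟨y, hy, rfl⟩))
      · exact Or.inr (Or.inr (orbitOf_conj hy hg))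
    have hC : ∀ g : G, Commute g d → g ∈ normalizer U := fun g hg =>
      mem_set_normalizer_iff.2 fun y => ⟨hmap g hg y, fun hy => by simpa [mul_assoc] using hmap g⁻¹ hg.inv_left _ hy⟩
    have hcD := (hOA c (self_mem_orbitOf d c)).1
    have hinv : ∀ y ∈ U, c * y * c ∈ U := by
      intro y hy
      rcases hy with hyd | hy | hy
      · rw [hyd, ← braid hD.1 hd hc hdc]
        refine Or.inr (Or.inr ?_)
        have := orbitOf_conj (self_mem_orbitOf d c) (Commute.refl d) (c := c)
        rwa [inv_eq hD.1 hd] at this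
      · by_cases hcy : Commute c y
        · rw [hcy.eq, mul_assoc, sq_eq_one hD.1 hc, mul_one]; exact Or.inr (Or.inl hy)
        · rw [braid hD.1 hc hy.1 hcy]
          refine Or.inr (Or.inr ?_)
          have := orbitOf_conj (self_mem_orbitOf d c) hy.2.2.symm (c := c)
          rwa [inv_eq hD.1 hy.1] at this
      · exact h y hy c (self_mem_orbitOf d c)
    have hcN : c ∈ normalizer U := mem_set_normalizer_iff.2 fun y => by
      rw [inv_eq hD.1 hc]
      exact ⟨hinv y, fun hy => by simpa [invol_conj_conj (sq_eq_one hD.1 hc)] using hinv _ hy⟩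
    have hUall := hR.eq_of_stab hUD (Or.inl rfl) hC hcN fun h => hdc h.symm
    rcases (hUall.symm ▸ hm.1 : m ∈ U) with rfl | h' | h'
    · exact hm.2 (Commute.refl _)
    · exact hm.2 h'.2.2
    · exact hmO h'
  obtain ⟨haD, hda⟩ := hOA a ha
  obtain ⟨hoD, hdo⟩ := hOA o ho
  have hz : o * a * o ∈ A := ⟨conj_invol_mem hD hoD haD, fun h => by
    by_cases hzd : o * a * o = d
    · exact hesc (Or.inl hzd)
    · exact hesc (Or.inr (Or.inl ⟨conj_invol_mem hD hoD haD, hzd, h⟩))⟩
  -- all of `X` is shared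
  have hshare : ∀ a ∈ O, ∀ o ∈ O, o * a * o ∈ A → o * a * o ∉ O →
      X (o * a * o) = X a ∧ X o = X a := by
    intro a ha o ho hz hzO
    obtain ⟨haD, hda⟩ := hOA a ha
    obtain ⟨hoD, hdo⟩ := hOA o ho
    have ha2 := sq_eq_one hD.1 haD
    have ho2 := sq_eq_one hD.1 hoD
    have hao : ¬ Commute a o := fun h => hzO (by rwa [← h.eq, mul_assoc, ho2, mul_one])
    set z := o * a * o with hzdef
    have hz' : z = a * o * a := (braid hD.1 hoD haD fun h => hao h.symm)
    have hsub : X a ⊆ X z ∧ X a ⊆ X o := by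
      have key : ∀ x ∈ X a, Commute x z ∧ Commute x o := by
        rintro x ⟨hxp, hxa⟩
        have hxz : Commute x z := by
          by_contra hxz
          have hxo : ¬ Commute x o := fun h => hxz ((h.mul_right hxa).mul_right h)
          refine hzO ?_
          -- the conjugate of `z` by `x` commutes with `o`
          have hx2 := sq_eq_one hD.1 hxp.1
          have hp : x * z * x ∈ A := by
            refine ⟨conj_invol_mem hD hxp.1 hz.1, fun h => hz.2 ?_⟩
            have h' := (conj_commute_iff x d z).1 (by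
              rwa [hxp.2.2.symm.eq, mul_inv_cancel_right, inv_eq hD.1 hxp.1])
            exact h'
          have hpo : Commute o (x * z * x) := by
            have e1 : x * z * x = a * o * x * o * a := by
              calc x * z * x = (x * a) * o * (a * x) := by rw [hz']; simp only [mul_assoc]
                _ = (a * x) * o * (x * a) := by rw [hxa.eq]
                _ = a * (x * o * x) * a := by simp only [mul_assoc]
                _ = a * (o * x * o) * a := by rw [braid hD.1 hxp.1 hoD hxo]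
                _ = _ := by simp only [mul_assoc]
            have e2 : o * (a * o * x * o * a) * o = a * o * x * o * a := by
              calc o * (a * o * x * o * a) * o = (o * a * o) * x * (o * a * o) := by simp only [mul_assoc]
                _ = (a * o * a) * x * (a * o * a) := by rw [← hzdef, hz']
                _ = a * o * (a * x * a) * o * a := by simp only [mul_assoc]
                _ = _ := by rw [← hxa.eq, mul_assoc x a a, ha2, mul_one]
            rw [e1]
            show o * (a * o * x * o * a) = (a * o * x * o * a) * o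
            conv_rhs => rw [← e2]
            rw [mul_assoc _ o o, ho2, mul_one]
          have := orbitOf_conj (hnb o ho _ hp hpo) hxp.2.2.symm (g := x)
          rwa [inv_eq hD.1 hxp.1, invol_conj_conj hx2] at this
        refine ⟨hxz, ?_⟩
        have : o = a * z * a := by rw [hz', invol_conj_conj ha2]
        rw [this]
        exact (hxa.mul_right hxz).mul_right hxa
      exact ⟨fun x hx => ⟨hx.1, (key x hx).1⟩, fun x hx => ⟨hx.1, (key x hx).2⟩⟩
    refine ⟨(Set.eq_of_subset_of_ncard_le hsub.1 ?_ (Set.toFinite _)).symm,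
      (Set.eq_of_subset_of_ncard_le hsub.2 ?_ (Set.toFinite _)).symm⟩
    · rw [hXO a ha]; exact hmax z hz
    · rw [hXO a ha, hXO o ho]
  have hzO : o * a * o ∉ O := fun h => hesc (Or.inr (Or.inr h))
  obtain ⟨hXz, hXo⟩ := hshare a ha o ho hz hzO
  have hsplit : ∀ x ∈ X a, ∀ x' ∈ perp D d, x' ∉ X a → Commute x x' := by
    intro x hx x' hx' hx'a
    have hax' : ¬ Commute a x' := fun h => hx'a ⟨hx', h.symm⟩
    set y := (d * a) * x' * (d * a)⁻¹ with hy
    have hyD : y ∈ D := conj_mem hD _ hx'.1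
    have e1 : (d * a) * d * (d * a)⁻¹ = a := mul_conj_eq hD.1 hd haD hda
    have hya : Commute a y := by
      have := (conj_commute_iff (d * a) d x').2 hx'.2.2
      rwa [e1] at this
    have hyd : ¬ Commute d y := by
      intro h
      have h' := (conj_commute_iff (d * a)⁻¹ d y).2 h
      rw [show (d * a)⁻¹ * y * (d * a)⁻¹⁻¹ = x' by rw [hy]; group, inv_inv, mul_inv_rev, inv_eq hD.1 hd,
        inv_eq hD.1 haD, show a * d * d * (d * a) = a * (d * d) * (d * a) by group, hd2, mul_one, ← mul_assoc] at h'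
      rw [← braid hD.1 hd haD hda] at h'
      have h'' : Commute a x' := by
        have := (hx'.2.2.mul_left h').mul_left hx'.2.2
        rwa [invol_conj_conj hd2] at this
      exact hax' h''
    have hyO : y ∈ O := hnb a ha y ⟨hyD, hyd⟩ hya
    have hyo : ¬ Commute y o := by
      intro h
      exact hzO (hnb y hyO _ hz ((h.mul_right hya.symm).mul_right h))
    set w := o * y * o with hw
    have hwD : w ∈ D := conj_invol_mem hD hoD hyD
    have hwz : Commute w (o * a * o) := by
      have := (conj_commute_iff o y a).2 hya.symm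
      rwa [inv_eq hD.1 hoD] at this
    have hwA : w ∈ A := by
      refine ⟨hwD, fun h => ?_⟩
      by_cases hwd : w = d
      · exact hz.2 (hwd ▸ hwz)
      have hwX : w ∈ X a := hXz ▸ ⟨⟨hwD, hwd, h⟩, hwz⟩
      have h1 := (conj_commute_iff o w a).2 hwX.2
      rw [inv_eq hD.1 hoD, hw, invol_conj_conj (sq_eq_one hD.1 hoD)] at h1
      exact hzO (hnb y hyO _ hz h1)
    have hwO : w ∉ O := fun h => hzO (hnb w h _ hz hwz)
    obtain ⟨-, hXo'⟩ := hshare y hyO o ho hwA hwO
    have hxy : x ∈ X y := by rw [← hXo', hXo]; exact hx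
    have h1 := (conj_commute_iff (d * a)⁻¹ x y).2 hxy.2
    rw [show (d * a)⁻¹ * y * (d * a)⁻¹⁻¹ = x' by rw [hy]; group] at h1
    have hfix : (d * a)⁻¹ * x * (d * a)⁻¹⁻¹ = x := by
      rw [((hx.1.2.2.symm.mul_right hx.2).inv_right).eq.symm, inv_inv, mul_assoc, inv_mul_cancel, mul_one]
    rwa [hfix] at h1
  rcases (X a).eq_empty_or_nonempty with hX0 | ⟨x₀, hx₀⟩
  · -- nothing commutes across
    have hc0 : (X c).ncard = 0 := by rw [← hXO a ha, hX0, Set.ncard_empty]
    have hstep : ∀ e, Linked D d e → e = d ∨ e ∈ perp D d := by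
      intro e he
      induction he with
      | refl => exact Or.inl rfl
      | @tail b e' _ hbc ih =>
        by_cases hed : e' = d
        · exact Or.inl hed
        refine Or.inr ⟨hbc.2.1, hed, ?_⟩
        rcases ih with rfl | hb
        · exact hbc.2.2
        by_contra hne
        have h0 : (X e').ncard = 0 := Nat.le_zero.1 (hc0 ▸ hmax e' ⟨hbc.2.1, hne⟩)
        rw [Set.ncard_eq_zero (Set.toFinite _)] at h0
        exact (Set.eq_empty_iff_forall_notMem.1 h0 b) ⟨hb, hbc.2.2⟩
    rcases hstep a (linked_of_primitive hR.prim hD hR.pair hd haD) with h | h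
    · exact hda (h ▸ Commute.refl d)
    · exact hda h.2.2
  · have hfull : perp D d ⊆ X a := by
      intro x' hx'
      have hchain := hR.perp_connected hd hx₀.1 hx'
      clear hx'
      induction hchain with
      | refl => exact hx₀
      | @tail b e' _ hbc ih => exact by_contra fun h => hbc.2.2 (hsplit b ih e' hbc.2.1 h)
    have hsub' : perp D d ⊆ perp D a := fun x hx =>
      ⟨hx.1, fun h => hda (h ▸ hx.2.2), (hfull hx).2.symm⟩
    have heq : perp D d = perp D a :=
      Set.eq_of_subset_of_ncard_le hsub' (ncard_perp_eq hD haD hd).le (Set.toFinite _)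
    have hW : WRel D d a := fun y hy => by
      have := Set.ext_iff.1 heq y
      simpa [perp, hy] using this
    exact hda (eq_of_wRel_of_primitive hR.prim hD hR.pair hd haD hW ▸ Commute.refl d)

end Cfsg.Lib.ThreeTr
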