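import Cfsg.Agent.ThreeTransposition.Relations

/-!
Products of at most three commuting members determine their factors when there are no short relations.
-/

namespace Cfsg.Lib.ThreeTr

open Cfsg

variable {G : Type*} [Group G] {D : Set G}

theorem prod_mul_self (hE : IsThreeTranspositionSet D) :
    ∀ l : List G, (∀ a ∈ l, a ∈ D) → (∀ a ∈ l, ∀ b ∈ l, Commute a b) → l.prod * l.prod = 1
  | [], _, _ => by simp
  | a :: t, hm, hc => by
    have hat : Commute a t.prod := Commute.list_prod_right _ _ fun b hb =>
      hc a (by simp) b (List.mem_cons_of_mem _ hb)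
    rw [List.prod_cons, show a * t.prod * (a * t.prod) = a * (t.prod * a) * t.prod by simp only [mul_assoc], ← hat.eq,
      ← mul_assoc a a, sq_eq_one hE (hm a (by simp)), one_mul]
    exact prod_mul_self hE t (fun b hb => hm b (List.mem_cons_of_mem _ hb))
      fun b hb c hc' => hc b (List.mem_cons_of_mem _ hb) c (List.mem_cons_of_mem _ hc')

/-- A member commuting with the product of at most three commuting members commutes with each of them. -/
theorem commute_of_commute_prod (hE : IsThreeTranspositionSet D) {l : List G} (hlen : l.length ≤ 3) (hnd : l.Nodup)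
    (hm : ∀ a ∈ l, a ∈ D) (hc : ∀ a ∈ l, ∀ b ∈ l, Commute a b) {e : G} (he : e ∈ D) (h : Commute e l.prod) :
    ∀ a ∈ l, Commute e a := by
  match l, hlen with
  | [], _ => simp
  | [a], _ => simpa using h
  | [a, b], _ =>
    simp only [List.nodup_cons, List.mem_cons, List.not_mem_nil, or_false, List.nodup_nil, not_false_eq_true,
      and_true] at hnd
    have h' : Commute e (a * b) := by simpa using h
    obtain ⟨x, y⟩ := (commute_pair_iff hE (hm a (by simp)) (hm b (by simp)) he hnd (hc a (by simp) b (by simp))).1 h'
    simp [x, y]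
  | [a, b, c], _ =>
    simp only [List.nodup_cons, List.mem_cons, List.not_mem_nil, or_false, not_or, List.nodup_nil,
      not_false_eq_true, and_true] at hnd
    have h' : Commute e (a * b * c) := by simpa [mul_assoc] using h
    obtain ⟨x, y, z⟩ := (commute_triple_iff hE (hm a (by simp)) (hm b (by simp)) (hm c (by simp)) he hnd.1.1 hnd.1.2
      hnd.2 (hc a (by simp) b (by simp)) (hc a (by simp) c (by simp)) (hc b (by simp) c (by simp))).1 h'
    simp [x, y, z]

theorem two_noRel (hE : IsThreeTranspositionSet D) : NoRel D 2 := by
  intro l hl hnd hm _ hp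
  match l, hl with
  | [a, b], _ =>
    simp only [List.nodup_cons, List.mem_cons, List.not_mem_nil, or_false, List.nodup_nil, not_false_eq_true,
      and_true] at hnd
    have hp' : a * b = 1 := by simpa using hp
    exact hnd ((eq_inv_of_mul_eq_one_left hp').trans (inv_eq hE (hm b (by simp))))

/-- Products of at most `k` commuting members determine their factors. -/
theorem factors_unique (hE : IsThreeTranspositionSet D) : ∀ (k : ℕ), k ≤ 3 → (∀ i, 0 < i → i ≤ k → NoRel D (i + i)) →
    ∀ l l' : List G, l.length = k → l'.length = k → l.Nodup → l'.Nodup → (∀ a ∈ l, a ∈ D) → (∀ a ∈ l', a ∈ D) →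
      (∀ a ∈ l, ∀ b ∈ l, Commute a b) → (∀ a ∈ l', ∀ b ∈ l', Commute a b) → l.prod = l'.prod →
      ∀ x, x ∈ l ↔ x ∈ l' := by
  classical
  intro k
  induction k with
  | zero =>
    intro _ _ l l' hl hl'
    simp [List.length_eq_zero_iff.1 hl, List.length_eq_zero_iff.1 hl']
  | succ k ih =>
    intro hk hno l l' hl hl' hnd hnd' hm hm' hc hc' hp
    by_cases hcom : ∃ a, a ∈ l ∧ a ∈ l'
    · obtain ⟨a, ha, ha'⟩ := hcom
      have he : (l.erase a).prod = (l'.erase a).prod := by
        have h1 := List.prod_erase_of_comm ha fun x hx y hy => (hc x hx y hy).eq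
        have h2 := List.prod_erase_of_comm ha' fun x hx y hy => (hc' x hx y hy).eq
        exact mul_left_cancel (h1.trans (hp.trans h2.symm))
      have hrec := ih (by omega) (fun i h1 h2 => hno i h1 (by omega)) (l.erase a) (l'.erase a)
        (by rw [List.length_erase_of_mem ha]; omega) (by rw [List.length_erase_of_mem ha']; omega)
        (hnd.erase a) (hnd'.erase a) (fun x hx => hm x (List.mem_of_mem_erase hx))
        (fun x hx => hm' x (List.mem_of_mem_erase hx))
        (fun x hx y hy => hc x (List.mem_of_mem_erase hx) y (List.mem_of_mem_erase hy))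
        (fun x hx y hy => hc' x (List.mem_of_mem_erase hx) y (List.mem_of_mem_erase hy)) he
      intro x
      by_cases hxa : x = a
      · subst hxa; exact iff_of_true ha ha'
      · rw [← List.mem_erase_of_ne hxa, ← List.mem_erase_of_ne (l := l') hxa]; exact hrec x
    exfalso
    have hmix : ∀ a ∈ l, ∀ b ∈ l', Commute a b := by
      intro a ha b hb
      have : Commute b l.prod := by
        rw [hp]
        exact Commute.list_prod_right _ _ fun y hy => hc' b hb y hy
      exact (commute_of_commute_prod hE (by omega) hnd hm hc (hm' b hb) this a ha).symm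
    refine hno (k + 1) (by omega) le_rfl (l ++ l') (by simp [hl, hl']) ?_ ?_ ?_ ?_
    · refine List.nodup_append.2 ⟨hnd, hnd', fun a ha b hb => ?_⟩
      rintro rfl
      exact hcom ⟨a, ha, hb⟩
    · intro a ha
      rcases List.mem_append.1 ha with h | h
      exacts [hm a h, hm' a h]
    · intro a ha b hb
      rcases List.mem_append.1 ha with h | h <;> rcases List.mem_append.1 hb with h' | h'
      exacts [hc a h b h', hmix a h b h', (hmix b h' a h).symm, hc' a h b h']
    · rw [List.prod_append, ← hp]
      exact prod_mul_self hE l hm hc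

end Cfsg.Lib.ThreeTr
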