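import Cfsg.Agent.ThreeTransposition.RankThree
import Cfsg.Agent.Components.Functor.Sections
import Cfsg.Agent.Components.ZJ.Stable

/-!
Relations among commuting members of a set of 3-transpositions: in a twin-free class no four commuting members
have product one, and a relation of length `n + 1` gives one of length `n` in the group of the members
commuting with one of them.
-/

set_option linter.unusedSectionVars false
set_option linter.style.haveILetI false

namespace Cfsg.Lib.ThreeTr

open Cfsg Subgroup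

variable {G : Type*} [Group G] {D : Set G}

/-- No two members commute with the same members. -/
def TwinFree (D : Set G) : Prop := ∀ a ∈ D, ∀ b ∈ D, VRel D a b → a = b

/-- No `n` distinct pairwise commuting members have product one. -/
def NoRel (D : Set G) (n : ℕ) : Prop :=
  ∀ l : List G, l.length = n → l.Nodup → (∀ a ∈ l, a ∈ D) → (∀ a ∈ l, ∀ b ∈ l, Commute a b) → l.prod ≠ 1

/-- The image of `perp D p` in the group it generates, modulo the centre. -/
def descSet (D : Set G) (p : G) : Set (↥(closure (perp D p)) ⧸ center ↥(closure (perp D p))) :=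
  (QuotientGroup.mk : ↥(closure (perp D p)) → _) '' {x | (x : G) ∈ perp D p}

theorem four_noRel (hE : IsThreeTranspositionSet D) (hT : TwinFree D) : NoRel D 4 := by
  intro l hl hnd hmem hcomm hprod
  obtain ⟨a, b, c, d, rfl⟩ : ∃ a b c d, l = [a, b, c, d] := by
    match l, hl with
    | [a, b, c, d], _ => exact ⟨a, b, c, d, rfl⟩
  simp only [List.nodup_cons, List.mem_cons, List.not_mem_nil, or_false, not_or, List.nodup_nil] at hnd
  obtain ⟨⟨hab, hac, had⟩, ⟨hbc, hbd⟩, hcd, -⟩ := hnd
  have ha := hmem a (by simp); have hb := hmem b (by simp); have hc := hmem c (by simp); have hd := hmem d (by simp)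
  have cab : Commute a b := hcomm a (by simp) b (by simp)
  have cac : Commute a c := hcomm a (by simp) c (by simp)
  have cad : Commute a d := hcomm a (by simp) d (by simp)
  have cbc : Commute b c := hcomm b (by simp) c (by simp)
  have cbd : Commute b d := hcomm b (by simp) d (by simp)
  have ccd : Commute c d := hcomm c (by simp) d (by simp)
  simp only [List.prod_cons, List.prod_nil, mul_one] at hprod
  have ea : a = b * c * d := by
    have := eq_inv_of_mul_eq_one_right hprod
    rw [inv_eq hE ha] at this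
    rw [mul_assoc]; exact this.symm
  have eb : b = a * c * d := by
    have h' : b * (a * (c * d)) = 1 := by rw [← mul_assoc, ← cab.eq, mul_assoc]; exact hprod
    have := eq_inv_of_mul_eq_one_right h'
    rw [inv_eq hE hb] at this
    rw [mul_assoc]; exact this.symm
  refine hab (hT a ha b hb fun e he => ⟨fun h => ?_, fun h => ?_⟩)
  · have h' : Commute e (b * c * d) := ea ▸ h.symm
    exact ((commute_triple_iff hE hb hc hd he hbc hbd hcd cbc cbd ccd).1 h').1.symm
  · have h' : Commute e (a * c * d) := eb ▸ h.symm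
    exact ((commute_triple_iff hE ha hc hd he hac had hcd cac cad ccd).1 h').1.symm

theorem perp_subset (p : G) : perp D p ⊆ D := fun _ h => h.1

theorem self_mem_centralizer_closure {p : G} : ∀ h ∈ closure (perp D p), Commute h p :=
  fun _ hh => closure_perp_commute hh

/-- Noncentral members differing by a central element are equal. -/
theorem eq_of_mul_mem_center' (hE : IsThreeTranspositionSet D) (hconj : ∀ g : G, ∀ d ∈ D, g * d * g⁻¹ ∈ D)
    {p : G} {x y : ↥(closure (perp D p))} (hx : (x : G) ∈ perp D p) (hy : (y : G) ∈ perp D p)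
    (hnc : x ∉ center ↥(closure (perp D p))) (h : x * y ∈ center ↥(closure (perp D p))) : x = y := by
  by_contra hne
  have hne' : (x : G) ≠ y := fun e => hne (Subtype.ext e)
  have hxy : Commute (x : G) y := by
    have hc := congrArg Subtype.val (mem_center_iff.1 h x)
    simp only [coe_mul] at hc
    rw [← mul_assoc, sq_eq_one hE hx.1, one_mul] at hc
    show (x : G) * y = y * x
    conv_rhs => rw [hc, mul_assoc, sq_eq_one hE hx.1, mul_one]
  have hcent : ∀ w ∈ perp D p, Commute w ((x : G) * y) := fun w hw =>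
    congrArg Subtype.val (mem_center_iff.1 h ⟨w, subset_closure hw⟩)
  apply hnc
  rw [mem_center_iff]
  intro g
  refine Subtype.ext ?_
  have : closure (perp D p) ≤ centralizer ({(x : G)} : Set G) := by
    rw [closure_le]
    intro w hw
    exact mem_centralizer_singleton_iff.2 ((commute_pair_iff hE hx.1 hy.1 hw.1 hne' hxy).1 (hcent w hw)).1.eq
  exact mem_centralizer_singleton_iff.1 (this g.2)

/-- In a twin-free class the members commuting with `p` are noncentral in the group they generate. -/
theorem not_mem_center_of_twinFree [Finite G] (hD : IsThreeTranspositionClass D) (hT : TwinFree D) {p : G}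
    (hp : p ∈ D) {x : ↥(closure (perp D p))} (hx : (x : G) ∈ perp D p) :
    x ∉ center ↥(closure (perp D p)) := by
  intro hc
  have hall : ∀ w ∈ perp D p, Commute w (x : G) := fun w hw =>
    congrArg Subtype.val (mem_center_iff.1 hc ⟨w, subset_closure hw⟩)
  have hpx : p ∈ perp D x := ⟨hp, hx.2.1.symm, hx.2.2.symm⟩
  have hsub : perp D p \ {(x : G)} ⊆ perp D x \ {p} := by
    rintro w ⟨hw, hwx⟩
    exact ⟨⟨hw.1, hwx, (hall w hw).symm⟩, hw.2.1⟩
  have heq : perp D p \ {(x : G)} = perp D x \ {p} := Set.eq_of_subset_of_ncard_le hsub (by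
    rw [Set.ncard_sdiff_singleton_of_mem hpx, Set.ncard_sdiff_singleton_of_mem hx, ncard_perp_eq hD hx.1 hp])
    (Set.toFinite _)
  refine hx.2.1 (hT x hx.1 p hp fun e he => ⟨fun h => ?_, fun h => ?_⟩)
  · by_cases hep : e = p
    · subst hep; exact Commute.refl e
    by_cases hex : e = (x : G)
    · subst hex; exact hx.2.2
    have : e ∈ perp D x \ {p} := ⟨⟨he, hex, h⟩, hep⟩
    rw [← heq] at this
    exact this.1.2.2
  · by_cases hex : e = (x : G)
    · subst hex; exact Commute.refl _
    by_cases hep : e = p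
    · subst hep; exact hx.2.2.symm
    exact (hall e ⟨he, hep, h⟩).symm

/-- Commutation is reflected by the quotient by the centre. -/
theorem commute_of_commute_mk (hE : IsThreeTranspositionSet D) (hconj : ∀ g : G, ∀ d ∈ D, g * d * g⁻¹ ∈ D)
    {p : G} {x y : ↥(closure (perp D p))} (hx : (x : G) ∈ perp D p) (hy : (y : G) ∈ perp D p)
    (hnc : x ∉ center ↥(closure (perp D p)))
    (h : Commute (x : ↥(closure (perp D p)) ⧸ center ↥(closure (perp D p))) y) : Commute (x : G) y := by
  by_contra hne
  have h3 : (x * y) ^ 3 = 1 := Subtype.ext (by simpa using cube_of_not_commute hE hx.1 hy.1 hne)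
  have hx2 : x * x = 1 := Subtype.ext (by simpa using sq_eq_one hE hx.1)
  have hy2 : y * y = 1 := Subtype.ext (by simpa using sq_eq_one hE hy.1)
  have h2 : (((x * y) ^ 2 : ↥(closure (perp D p))) : ↥(closure (perp D p)) ⧸ center ↥(closure (perp D p))) = 1 := by
    rw [QuotientGroup.mk_pow, QuotientGroup.mk_mul, h.mul_pow, ← QuotientGroup.mk_pow, ← QuotientGroup.mk_pow, sq, sq,
      hx2, hy2, QuotientGroup.mk_one, mul_one]
  rw [QuotientGroup.eq_one_iff] at h2
  have hxy : x * y ∈ center ↥(closure (perp D p)) := by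
    have e : x * y = ((x * y) ^ 2)⁻¹ := eq_inv_of_mul_eq_one_right (by rw [← pow_succ]; exact h3)
    rw [e]; exact inv_mem h2
  exact hne (eq_of_mul_mem_center' hE hconj hx hy hnc hxy ▸ Commute.refl _)

theorem mk_injOn (hE : IsThreeTranspositionSet D) (hconj : ∀ g : G, ∀ d ∈ D, g * d * g⁻¹ ∈ D)
    {p : G} {x y : ↥(closure (perp D p))} (hx : (x : G) ∈ perp D p) (hy : (y : G) ∈ perp D p)
    (hnc : x ∉ center ↥(closure (perp D p)))
    (h : (x : ↥(closure (perp D p)) ⧸ center ↥(closure (perp D p))) = y) : x = y := by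
  refine eq_of_mul_mem_center' hE hconj hx hy hnc ?_
  have hx2 : x⁻¹ = x := Subtype.ext (by simpa using inv_eq hE hx.1)
  rw [← hx2]; exact QuotientGroup.eq.1 h

/-- Conjugating a relation. -/
theorem norel_of_conj (hD : IsThreeTranspositionClass D) {p : G} (hp : p ∈ D) {n : ℕ}
    (h : ∀ l : List G, l.length = n → (p :: l).Nodup → (∀ a ∈ p :: l, a ∈ D) →
      (∀ a ∈ p :: l, ∀ b ∈ p :: l, Commute a b) → (p :: l).prod ≠ 1) : NoRel D (n + 1) := by
  intro l hl hnd hmem hcomm hprod
  match l, hl with
  | q :: t, hl =>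
    obtain ⟨g, hg⟩ := exists_conj hD (hmem q (by simp)) hp
    set f : G →* G := (MulAut.conj g).toMonoidHom with hf
    have hfq : f q = p := by simpa [hf] using hg
    have hinj : Function.Injective f := (MulAut.conj g).injective
    have hl' : (q :: t).map f = p :: t.map f := by rw [List.map_cons, hfq]
    refine h (t.map f) (by simpa using hl) (hl' ▸ hnd.map hinj) ?_ ?_ ?_
    · rw [← hl']
      intro a ha
      obtain ⟨b, hb, rfl⟩ := List.mem_map.1 ha
      simpa [hf] using conj_mem hD g (hmem b hb)
    · rw [← hl']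
      intro a ha b hb
      obtain ⟨a', ha', rfl⟩ := List.mem_map.1 ha
      obtain ⟨b', hb', rfl⟩ := List.mem_map.1 hb
      exact (hcomm a' ha' b' hb').map f
    · rw [← hl', ← map_list_prod, hprod, map_one]

/-- A relation of length `n + 1` descends to one of length `n`. -/
theorem noRel_succ [Finite G] (hD : IsThreeTranspositionClass D) (hT : TwinFree D) {p : G} (hp : p ∈ D) {n : ℕ}
    (h : NoRel (descSet D p) n) : NoRel D (n + 1) := by
  have hconj : ∀ g : G, ∀ d ∈ D, g * d * g⁻¹ ∈ D := fun g d hd => conj_mem hD g hd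
  refine norel_of_conj hD hp fun l hl hnd hmem hcomm hprod => ?_
  rw [List.nodup_cons] at hnd
  have hperp : ∀ a ∈ l, a ∈ perp D p := fun a ha =>
    ⟨hmem a (List.mem_cons_of_mem _ ha), fun e => hnd.1 (e ▸ ha), hcomm p (by simp) a (List.mem_cons_of_mem _ ha)⟩
  set H := closure (perp D p) with hH
  let l₁ : List ↥H := l.pmap (fun a ha => ⟨a, subset_closure ha⟩) hperp
  have hval : l₁.map Subtype.val = l := by simp [l₁, List.map_pmap]
  have hmem₁ : ∀ x ∈ l₁, (x : G) ∈ perp D p := fun x hx => hperp _ (hval ▸ List.mem_map_of_mem hx)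
  have hnc : ∀ x ∈ l₁, x ∉ center ↥H := fun x hx => not_mem_center_of_twinFree hD hT hp (hmem₁ x hx)
  have hnd₁ : l₁.Nodup := List.Nodup.of_map Subtype.val (hval.symm ▸ hnd.2)
  refine h (l₁.map (QuotientGroup.mk' (center ↥H))) (by simp [l₁, hl]) ?_ ?_ ?_ ?_
  · exact hnd₁.map_on fun x hx y hy e => mk_injOn hD.1 hconj (hmem₁ x hx) (hmem₁ y hy) (hnc x hx) e
  · intro a ha
    obtain ⟨x, hx, rfl⟩ := List.mem_map.1 ha
    exact ⟨x, hmem₁ x hx, rfl⟩
  · intro a ha b hb
    obtain ⟨x, hx, rfl⟩ := List.mem_map.1 ha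
    obtain ⟨y, hy, rfl⟩ := List.mem_map.1 hb
    refine Commute.map ?_ _
    exact Subtype.ext (hcomm x (List.mem_cons_of_mem _ (hval ▸ List.mem_map_of_mem hx)) y
      (List.mem_cons_of_mem _ (hval ▸ List.mem_map_of_mem hy))).eq
  · rw [List.prod_cons] at hprod
    have hlp : l.prod = p := by rw [eq_inv_of_mul_eq_one_right hprod, inv_eq hD.1 hp]
    rw [← map_list_prod]
    show ((l₁.prod : ↥H) : ↥H ⧸ center ↥H) = 1
    rw [QuotientGroup.eq_one_iff, mem_center_iff]
    intro g
    refine Subtype.ext ?_
    have hv : (l₁.prod : G) = p := by rw [SubmonoidClass.coe_list_prod, hval, hlp]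
    simp only [coe_mul, hv]
    exact (closure_perp_commute g.2).eq

theorem descSet_set (hE : IsThreeTranspositionSet D) {p : G}
    (hnc : ∀ x : ↥(closure (perp D p)), (x : G) ∈ perp D p → x ∉ center ↥(closure (perp D p))) :
    IsThreeTranspositionSet (descSet D p) := by
  refine ⟨?_, ?_⟩
  · rintro _ ⟨x, hx, rfl⟩
    refine orderOf_eq_prime (p := 2) ?_ fun h => hnc x hx ((QuotientGroup.eq_one_iff x).1 h)
    rw [← QuotientGroup.mk_pow, show x ^ 2 = 1 from Subtype.ext (by simpa [sq] using sq_eq_one hE hx.1),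
      QuotientGroup.mk_one]
  · rintro _ ⟨x, hx, rfl⟩ _ ⟨y, hy, rfl⟩
    rcases hE.2 _ hx.1 _ hy.1 with h | h
    · left
      rw [← QuotientGroup.mk_mul, ← QuotientGroup.mk_pow, show (x * y) ^ 2 = 1 from Subtype.ext (by simpa using h),
        QuotientGroup.mk_one]
    · right
      rw [← QuotientGroup.mk_mul, ← QuotientGroup.mk_pow, show (x * y) ^ 3 = 1 from Subtype.ext (by simpa using h),
        QuotientGroup.mk_one]

theorem closure_perp_eq_top (p : G) :
    closure {x : ↥(closure (perp D p)) | (x : G) ∈ perp D p} = ⊤ :=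
  closure_closure_coe_preimage (k := perp D p)

theorem closure_descSet (p : G) : closure (descSet D p) = ⊤ := by
  show Subgroup.closure ((QuotientGroup.mk' _) '' _) = ⊤
  rw [← MonoidHom.map_closure, closure_perp_eq_top, map_top_of_surjective _ (QuotientGroup.mk'_surjective _)]

theorem conj_mem_perp (hconj : ∀ g : G, ∀ d ∈ D, g * d * g⁻¹ ∈ D) {p x g : G} (hg : g ∈ closure (perp D p))
    (hx : x ∈ perp D p) : g * x * g⁻¹ ∈ perp D p := by
  have hgp : g * p * g⁻¹ = p := by rw [(closure_perp_commute hg).eq, mul_inv_cancel_right]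
  refine ⟨hconj g x hx.1, fun e => hx.2.1 ?_, ?_⟩
  · exact mul_left_cancel (mul_right_cancel (e.trans hgp.symm))
  · have := (conj_commute_iff g p x).2 hx.2.2
    rwa [hgp] at this

theorem conj_mem_descSet (hconj : ∀ g : G, ∀ d ∈ D, g * d * g⁻¹ ∈ D) {p : G}
    (g : ↥(closure (perp D p)) ⧸ center ↥(closure (perp D p))) {x} (hx : x ∈ descSet D p) :
    g * x * g⁻¹ ∈ descSet D p := by
  obtain ⟨g, rfl⟩ := QuotientGroup.mk_surjective g
  obtain ⟨x, hx, rfl⟩ := hx
  exact ⟨g * x * g⁻¹, by simpa using conj_mem_perp hconj g.2 hx, rfl⟩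

/-- The image set is twin-free when its members form a class and the normal 2-subgroup is central. -/
theorem descSet_twinFree [Finite G] (hD : IsThreeTranspositionClass D) (hT : TwinFree D) {p : G} (hp : p ∈ D)
    (hcls : IsThreeTranspositionClass {x : ↥(closure (perp D p)) | (x : G) ∈ perp D p})
    (h2 : pCore 2 ↥(closure (perp D p)) ≤ center ↥(closure (perp D p))) :
    IsThreeTranspositionClass (descSet D p) ∧ TwinFree (descSet D p) := by
  have hconj : ∀ g : G, ∀ d ∈ D, g * d * g⁻¹ ∈ D := fun g d hd => conj_mem hD g hd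
  refine ⟨?_, ?_⟩
  · obtain ⟨d, hd, -⟩ := hcls.2.1
    exact map_class hcls (QuotientGroup.mk' _) (QuotientGroup.mk'_surjective _) hd fun h =>
      not_mem_center_of_twinFree hD hT hp hd ((QuotientGroup.eq_one_iff d).1 h)
  rintro _ ⟨x, hx, rfl⟩ _ ⟨y, hy, rfl⟩ h
  have hv : VRel {x : ↥(closure (perp D p)) | (x : G) ∈ perp D p} x y := by
    intro e he
    constructor
    · intro hc
      refine Subtype.ext ?_
      exact (commute_of_commute_mk hD.1 hconj hy he (not_mem_center_of_twinFree hD hT hp hy)
        ((h _ ⟨e, he, rfl⟩).1 (hc.map (QuotientGroup.mk' _)))).eq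
    · intro hc
      refine Subtype.ext ?_
      exact (commute_of_commute_mk hD.1 hconj hx he (not_mem_center_of_twinFree hD hT hp hx)
        ((h _ ⟨e, he, rfl⟩).2 (hc.map (QuotientGroup.mk' _)))).eq
  have hc := h2 (vRel_mem_pCore hcls hx hy hv)
  rw [eq_of_mul_mem_center' hD.1 hconj hx hy (not_mem_center_of_twinFree hD hT hp hx) hc]

end Cfsg.Lib.ThreeTr
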