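import Cfsg.Agent.ThreeTransposition.Basic
import Cfsg.Prelude.Def_FischerSpaces
import Cfsg.Prelude.Def_MonsterType

/-!
Sylow arguments for classes of involutions.
-/

namespace Cfsg.Lib.ThreeTr

open Cfsg

variable {G : Type*} [Group G]

theorem mem_sylow_of_le_centralizer [Finite G] {t : G} (ht : orderOf t = 2) {P : Sylow 2 G}
    (hP : (P : Subgroup G) ≤ Subgroup.centralizer {t}) : t ∈ P ∧ ∀ x ∈ P, x * t = t * x := by
  have hc : ∀ x ∈ P, x * t = t * x := fun x hx => Subgroup.mem_centralizer_singleton_iff.mp (hP hx)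
  refine ⟨?_, hc⟩
  have hnorm : Subgroup.zpowers t ≤ Subgroup.normalizer ((P : Subgroup G) : Set G) := by
    rw [Subgroup.zpowers_le, Subgroup.mem_normalizer_iff]
    intro x
    have ht2 := mul_self_of_orderOf_two ht
    have hfix : ∀ y ∈ P, t * y * t⁻¹ = y := fun y hy => by rw [← hc y hy, mul_inv_cancel_right]
    refine ⟨fun hx => (hfix x hx).symm ▸ hx, fun hx => ?_⟩
    have := hfix _ hx
    rw [show t * (t * x * t⁻¹) * t⁻¹ = x by
      rw [inv_eq_self_of_mul_self ht2, ← mul_assoc, ← mul_assoc, ht2, one_mul, mul_assoc, ht2, mul_one]] at this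
    exact this ▸ hx
  have hsup : IsPGroup 2 ((P : Subgroup G) ⊔ Subgroup.zpowers t : Subgroup G) :=
    P.2.to_sup_of_normal_left'
      (IsPGroup.of_card (n := 1) (by rw [Nat.card_zpowers, ht, pow_one])) hnorm
  show t ∈ (P : Subgroup G)
  rw [← P.3 hsup le_sup_left]
  exact Subgroup.mem_sup_right (Subgroup.mem_zpowers t)

theorem isTwoCentral_iff [Finite G] {t : G} (ht : orderOf t = 2) :
    IsTwoCentralInvolution t ↔ ∃ P : Sylow 2 G, (P : Subgroup G) ≤ Subgroup.centralizer ({t} : Set G) := by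
  constructor
  · rintro ⟨-, P, -, hc⟩
    exact ⟨P, fun x hx => Subgroup.mem_centralizer_singleton_iff.mpr (hc x hx)⟩
  · rintro ⟨P, hP⟩
    exact ⟨ht, P, mem_sylow_of_le_centralizer ht hP⟩

theorem exists_twoCentral [Finite G] (h : Even (Nat.card G)) : ∃ t : G, IsTwoCentralInvolution t := by
  obtain ⟨P⟩ : Nonempty (Sylow 2 G) := inferInstance
  have hdvd : 2 ∣ Nat.card G := even_iff_two_dvd.mp h
  have hne : (P : Subgroup G) ≠ ⊥ := P.ne_bot_of_dvd_card hdvd
  have : Nontrivial (P : Subgroup G) := (Subgroup.nontrivial_iff_ne_bot _).mpr hne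
  have hZ := P.2.center_nontrivial
  obtain ⟨z, hz⟩ := exists_prime_orderOf_dvd_card' (G := Subgroup.center (P : Subgroup G)) 2 (by
    obtain ⟨n, hn⟩ := (P.2.to_subgroup (Subgroup.center (P : Subgroup G))).exists_card_eq
    have := Finite.one_lt_card (α := Subgroup.center (P : Subgroup G))
    cases n with
    | zero => omega
    | succ n => exact hn ▸ dvd_pow_self 2 (Nat.succ_ne_zero n))
  refine ⟨((z : (P : Subgroup G)) : G), ?_, P, (z : (P : Subgroup G)).2, fun x hx => ?_⟩
  · rw [Subgroup.orderOf_coe, Subgroup.orderOf_coe, hz]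
  · exact congrArg Subtype.val (Subgroup.mem_center_iff.mp z.2 ⟨x, hx⟩)

/-- Two members lying in one 2-group commute. -/
theorem commute_of_mem_twoGroup {D : Set G} (hD : IsThreeTranspositionSet D) {P : Subgroup G} (hP : IsPGroup 2 P)
    {a b : G} (ha : a ∈ D) (hb : b ∈ D) (haP : a ∈ P) (hbP : b ∈ P) : Commute a b := by
  by_contra h
  have h3 := orderOf_of_not_commute hD ha hb h
  obtain ⟨k, hk⟩ := (IsPGroup.iff_orderOf.mp hP) ⟨a * b, mul_mem haP hbP⟩
  rw [← Subgroup.orderOf_coe, h3] at hk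
  cases k with
  | zero => simp at hk
  | succ k => rw [pow_succ] at hk; omega

theorem isPGroup_closure_commuting [Finite G] {E : Set G} (h2 : ∀ a ∈ E, a * a = 1)
    (hc : ∀ a ∈ E, ∀ b ∈ E, Commute a b) : IsPGroup 2 (Subgroup.closure E) := by
  rintro ⟨g, hg⟩
  refine ⟨1, Subtype.ext ?_⟩
  have key : ∀ x ∈ Subgroup.closure E, x * x = 1 := by
    have := Subgroup.isMulCommutative_closure hc
    intro x hx
    induction hx using Subgroup.closure_induction with
    | mem x hx => exact h2 x hx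
    | one => simp
    | mul x y hx hy hx' hy' =>
      have hxy : Commute x y := congrArg Subtype.val
        (IsMulCommutative.is_comm.comm (⟨x, hx⟩ : Subgroup.closure E) ⟨y, hy⟩)
      rw [← sq, hxy.mul_pow, sq, sq, hx', hy', one_mul]
    | inv x _ hx' => rw [← mul_inv_rev, hx', inv_one]
  rw [pow_one, SubmonoidClass.coe_pow, sq]
  exact key g hg

theorem width_sylow [Finite G] {D : Set G} (hD : IsThreeTranspositionGroup D) (T : Sylow 2 G) :
    IsMulCommutative (Subgroup.closure {d : G | d ∈ D ∧ d ∈ T}) ∧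
      {d : G | d ∈ D ∧ d ∈ T}.ncard = commutingWidth D := by
  obtain ⟨hset, hconj, -⟩ := hD
  have hcomm : ∀ a ∈ {d : G | d ∈ D ∧ d ∈ T}, ∀ b ∈ {d : G | d ∈ D ∧ d ∈ T}, Commute a b :=
    fun a ha b hb => commute_of_mem_twoGroup hset T.2 ha.1 hb.1 ha.2 hb.2
  refine ⟨Subgroup.isMulCommutative_closure hcomm, ?_⟩
  symm
  refine IsGreatest.csSup_eq ⟨⟨_, fun d hd => hd.1, Set.toFinite _, hcomm, rfl⟩, ?_⟩
  rintro _ ⟨E, hED, -, hEc, rfl⟩
  obtain ⟨T', hT'⟩ := (isPGroup_closure_commuting (fun a ha => sq_eq_one hset (hED ha)) hEc).exists_le_sylow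
  obtain ⟨g, hg⟩ := MulAction.exists_smul_eq G T' T
  refine Set.ncard_le_ncard_of_injOn (fun x => g * x * g⁻¹) (fun x hx => ?_) ?_
  · refine ⟨hconj g x (hED hx), ?_⟩
    rw [← hg]
    show g * x * g⁻¹ ∈ ((g • T' : Sylow 2 G) : Subgroup G)
    rw [Sylow.coe_subgroup_smul]
    exact Subgroup.mem_pointwise_smul_iff_inv_smul_mem.mpr (by
      simp only [MulAut.smul_def, MulAut.conj_inv_apply]
      rw [show g⁻¹ * (g * x * g⁻¹) * g = x by group]
      exact hT' (Subgroup.subset_closure hx))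
  · intro a _ b _ h
    simpa using h

theorem commute_normalized [Finite G] {D : Set G} (hD : IsThreeTranspositionGroup D) {p : ℕ} (hp : p.Prime)
    (hp3 : 3 < p) {P : Subgroup G} (hP : IsPGroup p P) {d : G} (hd : d ∈ D)
    (hnorm : d ∈ Subgroup.normalizer (P : Set G)) : ∀ x ∈ P, Commute d x := by
  intro x hx
  obtain ⟨hset, hconj, -⟩ := hD
  have hmem : d * (x * d * x⁻¹) ∈ P := by
    have h1 : d * x * d⁻¹ ∈ P := (Subgroup.mem_normalizer_iff.mp hnorm x).mp hx
    rw [inv_eq hset hd] at h1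
    rw [← mul_assoc, ← mul_assoc]
    exact mul_mem h1 (inv_mem hx)
  haveI := Fact.mk hp
  obtain ⟨k, hk⟩ := IsPGroup.iff_orderOf.mp hP ⟨_, hmem⟩
  rw [← Subgroup.orderOf_coe] at hk
  have hone : orderOf (d * (x * d * x⁻¹)) = 1 := by
    rcases hset.2 d hd _ (hconj x d hd) with h | h
    · have := orderOf_dvd_of_pow_eq_one h
      rw [hk] at this ⊢
      cases k with
      | zero => rfl
      | succ k =>
        have := Nat.le_of_dvd (by norm_num) ((dvd_pow_self p k.succ_ne_zero).trans this)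
        omega
    · have := orderOf_dvd_of_pow_eq_one h
      rw [hk] at this ⊢
      cases k with
      | zero => rfl
      | succ k =>
        have := Nat.le_of_dvd (by norm_num) ((dvd_pow_self p k.succ_ne_zero).trans this)
        omega
  have h1 : d * (x * d * x⁻¹) = 1 := orderOf_eq_one_iff.mp hone
  rw [mul_eq_one_iff_eq_inv', inv_eq hset hd, mul_inv_eq_iff_eq_mul] at h1
  exact h1.symm

theorem two_central_unique [Finite G] {z : G} (hz : orderOf z = 2) {Q : Subgroup G}
    (hQC : Q ≤ Subgroup.centralizer ({z} : Set G)) (hQ2 : IsPGroup 2 Q) (hZ : Nat.card (Subgroup.center Q) = 2)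
    (hlarge : Subgroup.centralizer (Q : Set G) ≤ Q) :
    (∃ P : Sylow 2 G, (P : Subgroup G) ≤ Subgroup.centralizer ({z} : Set G)) ∧
      ∀ u : G, orderOf u = 2 → (∃ P : Sylow 2 G, (P : Subgroup G) ≤ Subgroup.centralizer ({u} : Set G)) →
        IsConj z u := by
  obtain ⟨T, hT⟩ := hQ2.exists_le_sylow
  have hzc : z ∈ Subgroup.centralizer (Q : Set G) := Subgroup.mem_centralizer_iff.mpr fun q hq =>
    Subgroup.mem_centralizer_singleton_iff.mp (hQC hq)
  have huniq : ∀ u : G, orderOf u = 2 → (∀ q ∈ Q, q * u = u * q) → u = z := by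
    intro u hu hc
    have huQ : u ∈ Q := hlarge (Subgroup.mem_centralizer_iff.mpr hc)
    have huZ : (⟨u, huQ⟩ : Q) ∈ Subgroup.center Q :=
      Subgroup.mem_center_iff.mpr fun q => Subtype.ext (hc q q.2)
    have hzZ : (⟨z, hlarge hzc⟩ : Q) ∈ Subgroup.center Q :=
      Subgroup.mem_center_iff.mpr fun q => Subtype.ext (Subgroup.mem_centralizer_iff.mp hzc q q.2)
    obtain ⟨y, hy, hy'⟩ := (Nat.card_eq_two_iff' (1 : Subgroup.center Q)).mp hZ
    have h1 := hy' ⟨_, huZ⟩ fun e => by
      have : u = 1 := congrArg (fun w : Subgroup.center Q => ((w : Q) : G)) e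
      rw [this, orderOf_one] at hu; omega
    have h2 := hy' ⟨_, hzZ⟩ fun e => by
      have : z = 1 := congrArg (fun w : Subgroup.center Q => ((w : Q) : G)) e
      rw [this, orderOf_one] at hz; omega
    exact congrArg (fun w : Subgroup.center Q => ((w : Q) : G)) (h1.trans h2.symm)
  obtain ⟨w, hw⟩ : ∃ w : G, IsTwoCentralInvolution w := exists_twoCentral (by
    rw [even_iff_two_dvd, ← hz]; exact orderOf_dvd_natCard z)
  have key : ∀ u : G, IsTwoCentralInvolution u → IsConj z u ∧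
      ∃ g : G, (T : Subgroup G) ≤ Subgroup.centralizer {g * u * g⁻¹} ∧ g * u * g⁻¹ = z := by
    rintro u ⟨hu, P, -, hc⟩
    obtain ⟨g, hg⟩ := MulAction.exists_smul_eq G P T
    have hcg : (T : Subgroup G) ≤ Subgroup.centralizer {g * u * g⁻¹} := by
      intro x hx
      rw [← hg] at hx
      change x ∈ ((g • P : Sylow 2 G) : Subgroup G) at hx
      rw [Sylow.coe_subgroup_smul, Subgroup.mem_pointwise_smul_iff_inv_smul_mem, MulAut.smul_def,
        MulAut.conj_inv_apply] at hx
      rw [Subgroup.mem_centralizer_singleton_iff]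
      calc x * (g * u * g⁻¹) = g * ((g⁻¹ * x * g) * u) * g⁻¹ := by group
        _ = g * (u * (g⁻¹ * x * g)) * g⁻¹ := by rw [hc _ hx]
        _ = g * u * g⁻¹ * x := by group
    have he := huniq _ (by rw [orderOf_conj_eq, hu]) fun q hq =>
      Subgroup.mem_centralizer_singleton_iff.mp (hcg (hT hq))
    exact ⟨(isConj_iff.mpr ⟨g, he⟩).symm, g, hcg, he⟩
  obtain ⟨-, g, hcg, he⟩ := key w hw
  exact ⟨⟨T, he ▸ hcg⟩, fun u hu hP => (key u ((isTwoCentral_iff hu).mpr hP)).1⟩

end Cfsg.Lib.ThreeTr
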