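import Cfsg.Agent.ThreeTransposition.Basic
import Cfsg.Agent.ThreeTransposition.SylowFacts
import Cfsg.Agent.Coprime.Sylow
import Cfsg.Agent.Coprime.Generation
import Cfsg.Agent.S0215

/-!
Conjugacy classes of 3-transpositions: connectedness, and classes in which no two members commute.
-/

set_option linter.unusedSectionVars false

namespace Cfsg.Lib.ThreeTr

open Cfsg Subgroup
open scoped Pointwise

variable {G : Type*} [Group G] {D : Set G}

theorem mem_conjugatesOf' {a b : G} : b ∈ conjugatesOf a ↔ IsConj a b := Iff.rfl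

theorem conj_mem (hD : IsThreeTranspositionClass D) (g : G) {x : G} (hx : x ∈ D) : g * x * g⁻¹ ∈ D := by
  obtain ⟨d, -, hDd⟩ := hD.2.1
  rw [hDd, mem_conjugatesOf'] at hx ⊢
  exact hx.trans (isConj_iff.2 ⟨g, rfl⟩)

theorem conj_invol_mem (hD : IsThreeTranspositionClass D) {x y : G} (hx : x ∈ D) (hy : y ∈ D) :
    x * y * x ∈ D := by
  have := conj_mem hD x hy
  rwa [inv_eq hD.1 hx] at this

theorem exists_conj (hD : IsThreeTranspositionClass D) {a b : G} (ha : a ∈ D) (hb : b ∈ D) :
    ∃ g : G, g * a * g⁻¹ = b := by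
  obtain ⟨d, -, hDd⟩ := hD.2.1
  rw [hDd, mem_conjugatesOf'] at ha hb
  exact isConj_iff.1 (ha.symm.trans hb)

theorem mul_conj_eq (hE : IsThreeTranspositionSet D) {a b : G} (ha : a ∈ D) (hb : b ∈ D) (h : ¬ Commute a b) :
    (a * b) * a * (a * b)⁻¹ = b := by
  rw [mul_inv_rev, inv_eq hE ha, inv_eq hE hb]
  calc a * b * a * (b * a) = (a * b * a) * (b * a) := rfl
    _ = b * a * b * (b * a) := by rw [braid hE ha hb h]
    _ = b * (a * (b * b) * a) := by simp only [mul_assoc]
    _ = b := by rw [sq_eq_one hE hb, mul_one, sq_eq_one hE ha, mul_one]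

theorem conj_commute_iff (g x y : G) : Commute (g * x * g⁻¹) (g * y * g⁻¹) ↔ Commute x y :=
  ⟨fun h => by
    have := h.map (MulAut.conj g⁻¹)
    simpa [mul_assoc] using this, fun h => by simpa using h.map (MulAut.conj g)⟩

/-- A nonempty subset closed under noncommuting neighbours is the whole class. -/
theorem closed_eq (hD : IsThreeTranspositionClass D) {S : Set G} (hS : S ⊆ D) (hne : S.Nonempty)
    (hcl : ∀ x ∈ S, ∀ y ∈ D, ¬ Commute x y → y ∈ S) : S = D := by
  have hone : ∀ y ∈ D, ∀ x ∈ S, y * x * y⁻¹ ∈ S := by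
    intro y hy x hx
    rw [inv_eq hD.1 hy]
    by_cases h : Commute x y
    · rwa [← h.eq, mul_assoc, sq_eq_one hD.1 hy, mul_one]
    · refine hcl x hx _ (conj_invol_mem hD hy (hS hx)) fun hc => h ?_
      rw [braid hD.1 hy (hS hx) fun h' => h h'.symm] at hc
      have h2 := hc.map (MulAut.conj x)
      simp only [MulAut.conj_apply, inv_eq hD.1 (hS hx)] at h2
      have e1 : x * x * x = x := by rw [sq_eq_one hD.1 (hS hx), one_mul]
      have e2 : x * (x * y * x) * x = y := by
        simp only [← mul_assoc, sq_eq_one hD.1 (hS hx), one_mul]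
        rw [mul_assoc, sq_eq_one hD.1 (hS hx), mul_one]
      rwa [e1, e2] at h2
  have hN : ∀ g : G, g ∈ normalizer S := by
    intro g
    have hle : closure D ≤ normalizer S := by
      rw [closure_le]
      intro y hy
      refine mem_set_normalizer_iff.2 fun x => ⟨hone y hy x, fun hx => ?_⟩
      have := hone y hy _ hx
      simp only [inv_eq hD.1 hy, ← mul_assoc, sq_eq_one hD.1 hy, one_mul] at this
      rwa [mul_assoc, sq_eq_one hD.1 hy, mul_one] at this
    exact hle (hD.2.2 ▸ mem_top g)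
  obtain ⟨x, hx⟩ := hne
  refine Set.Subset.antisymm hS fun z hz => ?_
  obtain ⟨g, rfl⟩ := exists_conj hD (hS hx) hz
  exact (mem_set_normalizer_iff.1 (hN g) x).1 hx

theorem exists_not_commute (hD : IsThreeTranspositionClass D) (hD2 : ∃ a ∈ D, ∃ b ∈ D, a ≠ b) {d : G} (hd : d ∈ D) :
    ∃ e ∈ D, ¬ Commute d e := by
  by_contra hcon
  push Not at hcon
  have h := closed_eq hD (S := {d}) (by simpa using hd) (Set.singleton_nonempty d)
    (by rintro x rfl y hy hne; exact absurd (hcon y hy) hne)
  obtain ⟨a, ha, b, hb, hab⟩ := hD2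
  rw [← h] at ha hb
  exact hab (ha.trans hb.symm)

/-- Two members of a class which differ by a central element are equal. -/
theorem eq_of_mul_mem_center (hD : IsThreeTranspositionClass D) {a b : G} (ha : a ∈ D) (hb : b ∈ D)
    (h : a * b ∈ center G) : a = b := by
  by_contra hne
  have hab : Commute a b := by
    have h1 : a * (a * b) = (a * b) * a := mem_center_iff.1 h a
    rw [← mul_assoc, sq_eq_one hD.1 ha, one_mul] at h1
    show a * b = b * a
    conv_rhs => rw [h1, mul_assoc, sq_eq_one hD.1 ha, mul_one]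
  obtain ⟨e, he, hne'⟩ := exists_not_commute hD ⟨a, ha, b, hb, hne⟩ ha
  exact hne' ((commute_pair_iff hD.1 ha hb he hne hab).1 (mem_center_iff.1 h e)).1.symm

theorem orderOf_mul_of_commute (hE : IsThreeTranspositionSet D) {a b : G} (ha : a ∈ D) (hb : b ∈ D) (hne : a ≠ b)
    (h : Commute a b) : orderOf (a * b) = 2 := by
  refine orderOf_eq_prime ((commute_iff_sq (sq_eq_one hE ha) (sq_eq_one hE hb)).1 h) fun h1 => hne ?_
  rwa [mul_eq_one_iff_eq_inv, inv_eq hE hb] at h1

/-- The image of a class in a quotient. -/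
theorem map_class (hD : IsThreeTranspositionClass D) {H : Type*} [Group H] (f : G →* H) (hf : Function.Surjective f)
    {d : G} (hd : d ∈ D) (hne : f d ≠ 1) : IsThreeTranspositionClass (f '' D) := by
  refine ⟨⟨?_, ?_⟩, ⟨f d, ⟨d, hd, rfl⟩, ?_⟩, ?_⟩
  · rintro _ ⟨x, hx, rfl⟩
    refine orderOf_eq_prime (by rw [← map_pow, sq, sq_eq_one hD.1 hx, map_one]) fun h => hne ?_
    obtain ⟨g, rfl⟩ := exists_conj hD hx hd
    simp [h]
  · rintro _ ⟨x, hx, rfl⟩ _ ⟨y, hy, rfl⟩
    rcases hD.1.2 x hx y hy with h | h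
    · left; rw [← map_mul, ← map_pow, h, map_one]
    · right; rw [← map_mul, ← map_pow, h, map_one]
  · ext y
    rw [mem_conjugatesOf', isConj_iff]
    constructor
    · rintro ⟨x, hx, rfl⟩
      obtain ⟨g, rfl⟩ := exists_conj hD hd hx
      exact ⟨f g, by simp⟩
    · rintro ⟨c, rfl⟩
      obtain ⟨g, rfl⟩ := hf c
      exact ⟨g * d * g⁻¹, conj_mem hD g hd, by simp⟩
  · rw [← MonoidHom.map_closure, hD.2.2, map_top_of_surjective f hf]

/-- The subgroup generated by the products of pairs. -/
def productSubgroup (D : Set G) : Subgroup G := closure {x | ∃ a ∈ D, ∃ b ∈ D, x = a * b}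

theorem mul_mem_productSubgroup {a b : G} (ha : a ∈ D) (hb : b ∈ D) : a * b ∈ productSubgroup D :=
  subset_closure ⟨a, ha, b, hb, rfl⟩

/-- If no two members of the class commute, the products generate a 3-group. -/
theorem isPGroup_productSubgroup [Finite G] (hD : IsThreeTranspositionClass D)
    (hnc : ∀ a ∈ D, ∀ b ∈ D, Commute a b → a = b) : IsPGroup 3 (productSubgroup D) := by
  haveI : Fact (Nat.Prime 2) := ⟨Nat.prime_two⟩
  haveI : Fact (Nat.Prime 3) := ⟨Nat.prime_three⟩
  obtain ⟨d, hd, -⟩ := hD.2.1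
  have hd2 := hD.1.1 d hd
  have hdd := sq_eq_one hD.1 hd
  have hz2 : IsPGroup 2 (zpowers d) := IsPGroup.of_card (n := 1) (by rw [Nat.card_zpowers, hd2, pow_one])
  obtain ⟨P, hP⟩ := hz2.exists_le_sylow
  obtain ⟨N, hNn, hNodd, hN⟩ := Cfsg.Agent.S0215.result P d hd2 (hP (mem_zpowers d)) fun g hg =>
    (hnc d hd _ (conj_mem hD g hd)
      (commute_of_mem_twoGroup hD.1 P.2 hd (conj_mem hD g hd) (hP (mem_zpowers d)) hg)).symm
  haveI := hNn
  have hN' : ∀ g : G, d * g * d * g⁻¹ ∈ N := fun g => by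
    have := hN g
    rwa [inv_eq hD.1 hd] at this
  have hcop : (Nat.card (zpowers d)).Coprime (Nat.card N) := by
    rw [Nat.card_zpowers, hd2]
    exact Nat.coprime_two_left.2 hNodd
  have hdN : zpowers d ≤ normalizer (N : Set G) := fun x _ => by rw [normalizer_eq_top]; exact mem_top x
  have hsol : Group.IsSolvable (zpowers d) := Group.isSolvable_of_comm fun a b => mul_comm' a b
  set C := N ⊓ centralizer ({d} : Set G) with hC
  -- `d` centralises the invariant Sylow subgroups for the other primes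
  have hfull : ∀ s : ℕ, s.Prime → s ≠ 3 → ¬ s ∣ C.relIndex N := by
    intro s hs hs3 hdvd
    haveI := Fact.mk hs
    obtain ⟨T, hT⟩ := Cfsg.Lib.Coprime.exists_invariant_sylow hdN hcop (Or.inl hsol) s
    have hTC : (T : Subgroup N) ≤ C.subgroupOf N := by
      intro k hk
      refine mem_subgroupOf.2 ⟨k.2, mem_centralizer_iff.2 ?_⟩
      intro x hx
      rw [Set.mem_singleton_iff] at hx
      subst x
      have hkT : (k : G) ∈ (T : Subgroup N).map N.subtype := ⟨k, hk, rfl⟩
      set t := (k : G)⁻¹ * (d * k * d⁻¹) with ht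
      have htT : t ∈ (T : Subgroup N).map N.subtype :=
        mul_mem (inv_mem hkT) ((mem_normalizer_iff.1 (hT (mem_zpowers d)) _).1 hkT)
      have htpow : t ^ 2 = 1 ∨ t ^ 3 = 1 := by
        have e : t = ((k : G)⁻¹ * d * k) * d := by rw [ht, inv_eq hD.1 hd]; group
        rw [e]
        exact hD.1.2 _ (by simpa using conj_mem hD (k : G)⁻¹ hd) _ hd
      have ht1 : t = 1 := by
        obtain ⟨i, hi⟩ := (T.2.map N.subtype) ⟨t, htT⟩
        have hi' : t ^ s ^ i = 1 := congrArg Subtype.val hi
        have htN : t ∈ N := map_subtype_le _ htT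
        rcases htpow with h | h
        · exact orderOf_eq_one_iff.1 (Nat.eq_one_of_dvd_coprimes (Nat.coprime_two_left.2 hNodd)
            (orderOf_dvd_of_pow_eq_one h) (Subgroup.orderOf_dvd_natCard N htN))
        · exact orderOf_eq_one_iff.1 (Nat.eq_one_of_dvd_coprimes
            (Nat.Coprime.pow_left i ((Nat.coprime_primes hs Nat.prime_three).2 hs3))
            (orderOf_dvd_of_pow_eq_one hi') (orderOf_dvd_of_pow_eq_one h))
      rw [ht, inv_mul_eq_one] at ht1
      calc d * (k : G) = d * k * d⁻¹ * d := by group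
        _ = k * d := by rw [← ht1]
    exact T.not_dvd_index (hdvd.trans (Subgroup.index_dvd_of_le hTC))
  obtain ⟨k, hk⟩ : ∃ k, C.relIndex N = 3 ^ k :=
    ⟨_, Nat.eq_prime_pow_of_unique_prime_dvd (Nat.pos_iff_ne_zero.1 (Nat.pos_of_ne_zero Subgroup.index_ne_zero_of_finite)) fun {s} hs hd' =>
      by_contra fun h => hfull s hs h hd'⟩
  obtain ⟨S, hS⟩ := Cfsg.Lib.Coprime.exists_invariant_sylow hdN hcop (Or.inl hsol) 3
  set S₀ := (S : Subgroup N).map N.subtype with hS₀
  have hSN : S₀ ≤ N := map_subtype_le _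
  have hsurj : Function.Surjective (Subgroup.quotientSubgroupOfEmbeddingOfLE C hSN) := by
    have hinj := (Subgroup.quotientSubgroupOfEmbeddingOfLE C hSN).injective
    refine ((Nat.bijective_iff_injective_and_card _).2 ⟨hinj, le_antisymm (Nat.card_le_card_of_injective _ hinj) ?_⟩).2
    show C.relIndex N ≤ C.relIndex S₀
    have h1 : C.relIndex S₀ * Nat.card ↥(C.subgroupOf S₀) = Nat.card S₀ :=
      Subgroup.index_mul_card _
    have h2 : Nat.card S₀ = 3 ^ (Nat.card N).factorization 3 := by
      rw [hS₀, card_map_of_injective N.subtype_injective, S.card_eq_multiplicity]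
    have h3 : C.relIndex N * Nat.card ↥(C.subgroupOf N) = Nat.card N := Subgroup.index_mul_card _
    have hp3 : IsPGroup 3 (C.subgroupOf S₀) := (S.2.map N.subtype).to_subgroup _
    obtain ⟨j, hj⟩ := IsPGroup.iff_card.1 hp3
    have hdvd : 3 ^ j ∣ Nat.card ↥(C.subgroupOf N) := by
      rw [← hj, Nat.card_congr (subgroupOfEquivOfLe (inf_le_left : C ≤ N)).toEquiv]
      exact Subgroup.card_dvd_of_injective
        (MonoidHom.codRestrict (S₀.subtype.comp (C.subgroupOf S₀).subtype) C fun x => x.2)
        (fun x y h => Subtype.ext (Subtype.ext (congrArg (fun z : C => (z : G)) h)))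
    have hkj : 3 ^ (k + j) ∣ Nat.card N := by
      rw [← h3, hk, pow_add]; exact mul_dvd_mul_left _ hdvd
    have hkj' := (Nat.prime_three.pow_dvd_iff_le_factorization Nat.card_pos.ne').1 hkj
    rw [hj, h2] at h1
    rw [hk]
    refine Nat.le_of_mul_le_mul_right (c := 3 ^ j) ?_ (by positivity)
    rw [h1, ← pow_add]
    exact Nat.pow_le_pow_right (by norm_num) hkj'
  have horb : ∀ a ∈ D, ∃ s ∈ S₀, s * d * s⁻¹ = a := by
    intro a ha
    obtain ⟨g, hg⟩ := exists_conj hD hd ha
    obtain ⟨n, hn, hna⟩ : ∃ n ∈ N, n * d * n⁻¹ = a := by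
      have hsplit : g ∈ N ∨ g * d ∈ N := by
        have hgc : g ∈ closure D := hD.2.2 ▸ mem_top g
        clear hg
        induction hgc using closure_induction with
        | mem x hx =>
          obtain ⟨h, rfl⟩ := exists_conj hD hd hx
          right
          have := inv_mem (hN' h)
          simp only [mul_inv_rev, inv_inv, inv_eq hD.1 hd] at this
          rwa [show h * (d * (h⁻¹ * d)) = h * d * h⁻¹ * d by group] at this
        | one => exact Or.inl (one_mem _)
        | mul x y _ _ hx hy =>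
          rcases hx with hx | hx <;> rcases hy with hy | hy
          · exact Or.inl (mul_mem hx hy)
          · right; rw [mul_assoc]; exact mul_mem hx hy
          · right
            rw [show x * y * d = x * d * (d⁻¹ * y * d) by group]
            exact mul_mem hx ((mem_normalizer_iff''.1 (hdN (mem_zpowers d)) y).1 hy)
          · left
            have e : x * d * (d⁻¹ * (y * d) * d) = x * y * (d * d) := by group
            rw [hdd, mul_one] at e
            rw [← e]
            exact mul_mem hx ((mem_normalizer_iff''.1 (hdN (mem_zpowers d)) _).1 hy)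
        | inv x _ hx =>
          rcases hx with hx | hx
          · exact Or.inl (inv_mem hx)
          · right
            have e : x⁻¹ * d = d⁻¹⁻¹ * (x * d)⁻¹ * d⁻¹ * (d * d) := by group
            rw [e, hdd, mul_one]
            simpa only [inv_inv] using (mem_normalizer_iff.1 (inv_mem (inv_mem (hdN (mem_zpowers d)))) _).1 (inv_mem hx)
      rcases hsplit with h | h
      · exact ⟨g, h, hg⟩
      · exact ⟨g * d, h, by rw [← hg]; group⟩
    obtain ⟨q, hq⟩ := hsurj (QuotientGroup.mk (⟨n, hn⟩ : N))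
    induction q using QuotientGroup.induction_on with
    | H s =>
      refine ⟨s, s.2, ?_⟩
      have he : (QuotientGroup.mk (⟨(s : G), hSN s.2⟩ : N) : N ⧸ C.subgroupOf N) =
          QuotientGroup.mk (⟨n, hn⟩ : N) := hq
      rw [QuotientGroup.eq, mem_subgroupOf] at he
      have hc : Commute d ((s : G)⁻¹ * n) := mem_centralizer_iff.1 he.2 d rfl
      calc (s : G) * d * (s : G)⁻¹ = s * (d * ((s : G)⁻¹ * n)) * n⁻¹ := by group
        _ = s * (((s : G)⁻¹ * n) * d) * n⁻¹ := by rw [hc.eq]
        _ = a := by rw [← hna]; group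
  refine (S.2.map N.subtype).to_le ?_
  rw [productSubgroup, closure_le]
  rintro _ ⟨a, ha, b, hb, rfl⟩
  obtain ⟨s, hs, rfl⟩ := horb a ha
  obtain ⟨t, ht, rfl⟩ := horb b hb
  have hdS := hS (mem_zpowers d)
  have : s * d * s⁻¹ * (t * d * t⁻¹) = s * (d * (s⁻¹ * t) * d⁻¹) * t⁻¹ := by rw [inv_eq hD.1 hd]; group
  rw [this]
  exact mul_mem (mul_mem hs ((mem_normalizer_iff.1 hdS _).1 (mul_mem (inv_mem hs) ht))) (inv_mem ht)

end Cfsg.Lib.ThreeTr
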