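import Cfsg.Agent.ThreeTransposition.RelationTypes
import Cfsg.Agent.ThreeTransposition.PSUSix.Lines

/-!
In a class of type M(22) every commuting triple lies in one set of six commuting members with product one.
-/

set_option linter.unusedSectionVars false
set_option linter.style.haveILetI false

namespace Cfsg.Lib.ThreeTr

open Cfsg Subgroup

variable {G : Type*} [Group G] {D : Set G}

/-- Members commuting with everything that commutes with `a`, `b` and `c`. -/
def tperp (D : Set G) (a b c : G) : Set G :=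
  {w | w ∈ D ∧ ∀ e ∈ D, Commute e a → Commute e b → Commute e c → Commute e w}

theorem tperp_swap (a b c : G) : tperp D b a c = tperp D a b c :=
  Set.ext fun _ => ⟨fun h => ⟨h.1, fun e he h1 h2 h3 => h.2 e he h2 h1 h3⟩,
    fun h => ⟨h.1, fun e he h1 h2 h3 => h.2 e he h2 h1 h3⟩⟩

theorem commute_of_mem_tperp {a b c w w' : G} (ha : a ∈ D) (hb : b ∈ D) (hc : c ∈ D) (hab : Commute a b)
    (hac : Commute a c) (hbc : Commute b c) (h : w ∈ tperp D a b c) (h' : w' ∈ tperp D a b c) : Commute w w' :=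
  h'.2 w h.1 (h.2 a ha (Commute.refl a) hab hac).symm (h.2 b hb hab.symm (Commute.refl b) hbc).symm
    (h.2 c hc hac.symm hbc.symm (Commute.refl c)).symm

/-- The six members, and their product, seen from a member with the line property. -/
theorem hexad_of_lineProp [Finite G] (hcls : IsThreeTranspositionClass D) (hT : TwinFree D) {a b c : G}
    (ha : a ∈ D) (hb : b ∈ perp D a) (hc : c ∈ perp D a) (hbc : b ≠ c) (hcomm : Commute b c)
    (hL : LineProp (descSet D a)) :
    ∃ l : List G, l.Nodup ∧ l.length = 6 ∧ (∀ w, w ∈ l ↔ w ∈ tperp D a b c) ∧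
      ∀ e ∈ perp D a, Commute e l.prod := by
  classical
  have hE := hcls.1
  have hconj : ∀ g : G, ∀ x ∈ D, g * x * g⁻¹ ∈ D := fun g x hx => conj_mem hcls g hx
  have hnc : ∀ x : ↥(closure (perp D a)), (x : G) ∈ perp D a → x ∉ center ↥(closure (perp D a)) :=
    fun x hx => not_mem_center_of_twinFree hcls hT ha hx
  set B : ↥(closure (perp D a)) := ⟨b, subset_closure hb⟩ with hB
  set C : ↥(closure (perp D a)) := ⟨c, subset_closure hc⟩ with hC
  set π := QuotientGroup.mk' (center ↥(closure (perp D a))) with hπ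
  have hBC : π B ≠ π C := fun e => hbc (congrArg Subtype.val (mk_injOn hE hconj hb hc (hnc B hb) e))
  have hcBC : Commute (π B) (π C) := (show Commute B C from Subtype.ext hcomm.eq).map π
  obtain ⟨l₅, hnd, hlen, hmem, hprod⟩ := hL _ ⟨B, hb, rfl⟩ _ ⟨C, hc, rfl⟩ hBC hcBC
  have hlift : ∀ q ∈ l₅, ∃ x : ↥(closure (perp D a)), (x : G) ∈ perp D a ∧ π x = q := fun q hq => by
    obtain ⟨x, hx, hxq⟩ := ((hmem q).1 hq).1
    exact ⟨x, hx, hxq⟩
  choose f hf hfπ using hlift
  set l₁ : List ↥(closure (perp D a)) := l₅.attach.map fun q => f q.1 q.2 with hl₁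
  have hl₁π : l₁.map π = l₅ := by
    rw [hl₁, List.map_map]
    conv_rhs => rw [← List.attach_map_subtype_val l₅]
    exact List.map_congr_left fun q _ => hfπ q.1 q.2
  have hmem₁ : ∀ x ∈ l₁, (x : G) ∈ perp D a := fun x hx => by
    obtain ⟨q, -, rfl⟩ := List.mem_map.1 hx
    exact hf q.1 q.2
  have hnd₁ : l₁.Nodup := (hl₁π.symm ▸ hnd : (l₁.map π).Nodup).of_map π
  refine ⟨a :: l₁.map Subtype.val, ?_, ?_, fun w => ⟨fun hw => ?_, fun hw => ?_⟩, fun e he => ?_⟩
  · refine List.nodup_cons.2 ⟨fun h => ?_, hnd₁.map Subtype.val_injective⟩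
    obtain ⟨x, hx, hxa⟩ := List.mem_map.1 h
    exact (hmem₁ x hx).2.1 hxa
  · rw [List.length_cons, List.length_map, hl₁, List.length_map, List.length_attach, hlen]
  · rcases List.mem_cons.1 hw with rfl | hw
    · exact ⟨ha, fun e _ h _ _ => h⟩
    obtain ⟨x, hx, rfl⟩ := List.mem_map.1 hw
    have hxd := (hmem (π x)).1 (hl₁π ▸ List.mem_map_of_mem hx)
    refine ⟨(hmem₁ x hx).1, fun e he h1 h2 h3 => ?_⟩
    by_cases hea : e = a
    · subst hea; exact (hmem₁ x hx).2.2
    have hep : e ∈ perp D a := ⟨he, hea, h1.symm⟩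
    set E : ↥(closure (perp D a)) := ⟨e, subset_closure hep⟩ with hEdef
    refine commute_of_commute_mk hE hconj (x := E) hep (hmem₁ x hx) (hnc E hep) ?_
    exact hxd.2 (π E) ⟨E, hep, rfl⟩ ((show Commute E B from Subtype.ext h2.eq).map π)
      ((show Commute E C from Subtype.ext h3.eq).map π)
  · by_cases hwa : w = a
    · subst hwa; exact List.mem_cons_self
    refine List.mem_cons_of_mem _ ?_
    have hwp : w ∈ perp D a := ⟨hw.1, hwa, hw.2 a ha (Commute.refl a) hb.2.2 hc.2.2⟩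
    set W : ↥(closure (perp D a)) := ⟨w, subset_closure hwp⟩ with hW
    have hWl : π W ∈ l₅ := by
      refine (hmem _).2 ⟨⟨W, hwp, rfl⟩, ?_⟩
      rintro _ ⟨x, hx, rfl⟩ h1 h2
      refine (show Commute x W from Subtype.ext ?_).map π
      exact (hw.2 x hx.1 hx.2.2.symm (commute_of_commute_mk hE hconj hx hb (hnc x hx) h1)
        (commute_of_commute_mk hE hconj hx hc (hnc x hx) h2)).eq
    rw [← hl₁π] at hWl
    obtain ⟨x, hx, hxW⟩ := List.mem_map.1 hWl
    exact List.mem_map.2 ⟨x, hx, congrArg Subtype.val (mk_injOn hE hconj (hmem₁ x hx) hwp (hnc x (hmem₁ x hx)) hxW)⟩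
  · have hcen : l₁.prod ∈ center ↥(closure (perp D a)) := by
      rw [← QuotientGroup.eq_one_iff]
      show π l₁.prod = 1
      rw [map_list_prod, hl₁π, hprod]
    rw [List.prod_cons, ← SubmonoidClass.coe_list_prod]
    exact he.2.2.symm.mul_right (congrArg Subtype.val (mem_center_iff.1 hcen ⟨e, subset_closure he⟩))

theorem conj_mem_tperp (hcls : IsThreeTranspositionClass D) (g : G) {a b c w : G} :
    g * w * g⁻¹ ∈ tperp D (g * a * g⁻¹) (g * b * g⁻¹) (g * c * g⁻¹) ↔ w ∈ tperp D a b c := by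
  constructor
  · rintro ⟨hwD, hw⟩
    refine ⟨by simpa [mul_assoc] using conj_mem hcls g⁻¹ hwD, fun e he h1 h2 h3 => ?_⟩
    exact (conj_commute_iff g e w).1 (hw _ (conj_mem hcls g he) ((conj_commute_iff g e a).2 h1)
      ((conj_commute_iff g e b).2 h2) ((conj_commute_iff g e c).2 h3))
  · rintro ⟨hwD, hw⟩
    refine ⟨conj_mem hcls g hwD, fun e he h1 h2 h3 => ?_⟩
    have he' : g⁻¹ * e * g ∈ D := by simpa using conj_mem hcls g⁻¹ he
    have hee : e = g * (g⁻¹ * e * g) * g⁻¹ := by group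
    rw [hee, conj_commute_iff] at h1 h2 h3 ⊢
    exact hw _ he' h1 h2 h3

/-- The six members through a commuting triple, in a class of type M(22). -/
theorem m22_hexad_perp [Finite G] (hcls : IsThreeTranspositionClass D) (hT : TwinFree D) (h22 : IsOfTypeM22 G D)
    {a b c : G} (ha : a ∈ D) (hb : b ∈ perp D a) (hc : c ∈ perp D a) (hbc : b ≠ c) (hcomm : Commute b c) :
    ∃ l : List G, l.Nodup ∧ l.length = 6 ∧ (∀ w, w ∈ l ↔ w ∈ tperp D a b c) ∧
      ∀ e ∈ perp D a, Commute e l.prod := by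
  obtain ⟨-, d, hd, -, -, -, ⟨F, _, _, hF, ⟨iso⟩⟩, -⟩ := h22
  haveI : Finite (↥(closure (perp D d)) ⧸ center ↥(closure (perp D d))) := inferInstance
  obtain ⟨-, hsimp, hZ⟩ := psu_six_facts hF
  have hconj : ∀ g : G, ∀ x ∈ D, g * x * g⁻¹ ∈ D := fun g x hx => conj_mem hcls g hx
  have hZQ : center (↥(closure (perp D d)) ⧸ center ↥(closure (perp D d))) = ⊥ := by
    rw [eq_bot_iff]
    intro x hx
    have : iso x ∈ center (Cfsg.PSU 6 F 2) := mem_center_iff.2 fun y => by
      obtain ⟨z, rfl⟩ := iso.surjective y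
      exact (iso.map_mul z x).symm.trans ((congrArg iso (mem_center_iff.1 hx z)).trans (iso.map_mul x z))
    rw [hZ, mem_bot] at this
    exact mem_bot.2 (iso.injective (this.trans iso.map_one.symm))
  haveI : IsSimpleGroup (↥(closure (perp D d)) ⧸ center ↥(closure (perp D d))) := by
    haveI := hsimp
    haveI := hsimp.toNontrivial
    haveI : Nontrivial (↥(closure (perp D d)) ⧸ center ↥(closure (perp D d))) := iso.toEquiv.nontrivial
    exact IsSimpleGroup.isSimpleGroup_of_surjective iso.symm.toMonoidHom iso.symm.surjective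
  obtain ⟨hcls', -⟩ := class_of_simple (descSet_set hcls.1 fun x hx => not_mem_center_of_twinFree hcls hT hd hx)
    (fun g x hx => conj_mem_descSet hconj g hx) (closure_descSet d) hZQ
  have hL : LineProp (descSet D d) := lineProp_of_psu hF iso hcls'
  obtain ⟨g, hg⟩ := exists_conj hcls ha hd
  have hb' : g * b * g⁻¹ ∈ perp D d := hg ▸ conj_image_perp hcls g a ▸ ⟨b, hb, rfl⟩
  have hc' : g * c * g⁻¹ ∈ perp D d := hg ▸ conj_image_perp hcls g a ▸ ⟨c, hc, rfl⟩
  obtain ⟨l, hnd, hlen, hmem, hp⟩ := hexad_of_lineProp hcls hT hd hb' hc'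
    (fun e => hbc (mul_left_cancel (mul_right_cancel e))) ((conj_commute_iff g b c).2 hcomm) hL
  set φ : G →* G := (MulAut.conj g⁻¹).toMonoidHom with hφ
  have hφi : Function.Injective φ := (MulAut.conj g⁻¹).injective
  have hφe : ∀ x, φ x = g⁻¹ * x * g := fun x => by simp [hφ]
  refine ⟨l.map φ, hnd.map hφi, by rw [List.length_map, hlen], fun w => ?_, fun e he => ?_⟩
  · rw [← conj_mem_tperp hcls g, hg, ← hmem, List.mem_map]
    constructor
    · rintro ⟨x, hx, rfl⟩
      rwa [hφe, show g * (g⁻¹ * x * g) * g⁻¹ = x by group]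
    · exact fun h => ⟨_, h, by rw [hφe]; group⟩
  · have he' : g * e * g⁻¹ ∈ perp D d := hg ▸ conj_image_perp hcls g a ▸ ⟨e, he, rfl⟩
    rw [← map_list_prod]
    have := (hp _ he').map φ
    rwa [hφe, show g⁻¹ * (g * e * g⁻¹) * g = e by group] at this

/-- An element commuting with `perp D a` and `perp D b` for commuting `a`, `b` is one when the centre is trivial. -/
theorem eq_one_of_commute_perps [Finite G] (hR : Rich D) (hZ : center G = ⊥) {a b : G} (ha : a ∈ D)
    (hb : b ∈ perp D a) {z : G} (h1 : ∀ e ∈ perp D a, Commute e z) (h2 : ∀ e ∈ perp D b, Commute e z) : z = 1 := by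
  have hD := hR.cls
  set K := centralizer ({z} : Set G) with hK
  have hKiff : ∀ {x : G}, Commute x z ↔ x ∈ K := fun {x} => mem_centralizer_singleton_iff.symm
  let P : G → Prop := fun y => ∀ e ∈ perp D y, e ∈ K
  have hPconj : ∀ g ∈ K, ∀ y, P y → P (g * y * g⁻¹) := by
    intro g hg y hy e he
    rw [← conj_image_perp hD g y] at he
    obtain ⟨x, hx, rfl⟩ := he
    exact mul_mem (mul_mem hg (hy x hx)) (inv_mem hg)
  have hcl : ∀ y, P y → closure (perp D y) ≤ K := fun y hy => (closure_le _).2 hy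
  have hPa : P a := fun e he => hKiff.1 (h1 e he)
  have hQa : ∀ x ∈ perp D a, P x := by
    intro x hx
    obtain ⟨g, hg, rfl⟩ := hR.perp_transitive ha hb hx
    exact hPconj g (hcl a hPa hg) b fun e he => hKiff.1 (h2 e he)
  have hall : ∀ y, Linked D a y → P y ∧ ∀ x ∈ perp D y, P x := by
    intro y hy
    induction hy with
    | refl => exact ⟨hPa, hQa⟩
    | @tail y y' _ hstep ih =>
      by_cases heq : y' = y
      · subst heq; exact ih
      have hy' : y' ∈ perp D y := ⟨hstep.2.1, heq, hstep.2.2⟩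
      have hP' := ih.2 y' hy'
      refine ⟨hP', fun x hx => ?_⟩
      obtain ⟨g, hg, rfl⟩ := hR.perp_transitive hy'.1
        (show y ∈ perp D y' from ⟨hstep.1, Ne.symm heq, hstep.2.2.symm⟩) hx
      exact hPconj g (hcl y' hP' hg) y ih.1
  have hDK : D ⊆ K := by
    intro e he
    obtain ⟨x, hx⟩ := hR.exists_perp he
    exact (hall x (linked_of_primitive hR.prim hD hR.pair ha hx.1)).1 e ⟨he, hx.2.1.symm, hx.2.2.symm⟩
  have htop : K = ⊤ := eq_top_iff.2 (hD.2.2 ▸ (closure_le _).2 hDK)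
  have hz : z ∈ center G := mem_center_iff.2 fun g => mem_centralizer_singleton_iff.1 (hK ▸ htop ▸ mem_top g)
  rwa [hZ, mem_bot] at hz

/-- Every commuting triple lies in six pairwise commuting members with product one, the only ones there are. -/
theorem m22_hexad [Finite G] (hcls : IsThreeTranspositionClass D) (hprim : IsPrimitiveUnderConj D) (hT : TwinFree D)
    (h22 : IsOfTypeM22 G D) {a b c : G} (ha : a ∈ D) (hb : b ∈ D) (hc : c ∈ D) (hab : a ≠ b) (hac : a ≠ c)
    (hbc : b ≠ c) (cab : Commute a b) (cac : Commute a c) (cbc : Commute b c) :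
    ∃ p q r : G, [a, b, c, p, q, r].Nodup ∧ (∀ x ∈ [a, b, c, p, q, r], ∀ y ∈ [a, b, c, p, q, r], Commute x y) ∧
      (∀ x ∈ [a, b, c, p, q, r], x ∈ D) ∧ [a, b, c, p, q, r].prod = 1 ∧
      ∀ x ∈ tperp D a b c, x ∈ [a, b, c, p, q, r] := by
  classical
  have hbp : b ∈ perp D a := ⟨hb, hab.symm, cab⟩
  have hcp : c ∈ perp D a := ⟨hc, hac.symm, cac⟩
  obtain ⟨l, hnd, hlen, hmem, hp⟩ := m22_hexad_perp hcls hT h22 ha hbp hcp hbc cbc
  obtain ⟨l', hnd', -, hmem', hp'⟩ := m22_hexad_perp hcls hT h22 hb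
    (show a ∈ perp D b from ⟨ha, hab, cab.symm⟩) (show c ∈ perp D b from ⟨hc, hbc.symm, cbc⟩) hac cac
  have hcomm : ∀ x ∈ l, ∀ y ∈ l, Commute x y := fun x hx y hy =>
    commute_of_mem_tperp ha hb hc cab cac cbc ((hmem x).1 hx) ((hmem y).1 hy)
  have hperm : l.Perm l' := (List.perm_ext_iff_of_nodup hnd hnd').2 fun x => by
    rw [hmem, hmem', tperp_swap]
  have heq : l.prod = l'.prod := hperm.prod_eq' (List.Pairwise.imp_of_mem
    (fun {x y} hx hy _ => hcomm x hx y hy) hnd)
  have h1 : l.prod = 1 := eq_one_of_commute_perps ⟨hcls, hprim, a, ha, b, hb, hab, cab⟩ h22.1 ha hbp hp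
    fun e he => heq ▸ hp' e he
  have hal : a ∈ l := (hmem a).2 ⟨ha, fun _ _ h _ _ => h⟩
  have hbl : b ∈ l.erase a := (hnd.mem_erase_iff).2 ⟨hab.symm, (hmem b).2 ⟨hb, fun _ _ _ h _ => h⟩⟩
  have hcl : c ∈ (l.erase a).erase b :=
    ((hnd.erase a).mem_erase_iff).2 ⟨hbc.symm, (hnd.mem_erase_iff).2 ⟨hac.symm, (hmem c).2 ⟨hc, fun _ _ _ _ h => h⟩⟩⟩
  set m := ((l.erase a).erase b).erase c with hm
  have hp3 : l.Perm (a :: b :: c :: m) :=
    (List.perm_cons_erase hal).trans (((List.perm_cons_erase hbl).trans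
      ((List.perm_cons_erase hcl).cons b)).cons a)
  obtain ⟨p, q, r, hpqr⟩ : ∃ p q r, m = [p, q, r] := List.length_eq_three.1 (by
    have := hp3.length_eq
    simp only [List.length_cons, hlen] at this
    omega)
  rw [hpqr] at hp3
  refine ⟨p, q, r, hp3.nodup_iff.1 hnd, fun x hx y hy => hcomm x (hp3.mem_iff.2 hx) y (hp3.mem_iff.2 hy),
    fun x hx => ((hmem x).1 (hp3.mem_iff.2 hx)).1, ?_, fun x hx => hp3.mem_iff.1 ((hmem x).2 hx)⟩
  rw [← h1]
  exact (hp3.prod_eq' (List.Pairwise.imp_of_mem (fun {x y} hx hy _ => hcomm x hx y hy) hnd)).symm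

/-- Two commuting members are determined by their product. -/
theorem pair_unique (hE : IsThreeTranspositionSet D) (hT : TwinFree D) {l l' : List G} (hl : l.length = 2)
    (hl' : l'.length = 2) (hn : l.Nodup) (hn' : l'.Nodup) (hm : ∀ a ∈ l, a ∈ D) (hm' : ∀ a ∈ l', a ∈ D)
    (hc : ∀ a ∈ l, ∀ b ∈ l, Commute a b) (hc' : ∀ a ∈ l', ∀ b ∈ l', Commute a b) (hp : l.prod = l'.prod) :
    ∀ x, x ∈ l ↔ x ∈ l' := by
  obtain ⟨a, b, rfl⟩ := List.length_eq_two.1 hl
  obtain ⟨c, d, rfl⟩ := List.length_eq_two.1 hl'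
  have hab : a ≠ b := by simpa using hn
  have hcd : c ≠ d := by simpa using hn'
  have cab : Commute a b := hc a (by simp) b (by simp)
  have ccd : Commute c d := hc' c (by simp) d (by simp)
  simp only [List.prod_cons, List.prod_nil, mul_one] at hp
  have hset : (a = c ∧ b = d) ∨ (a = d ∧ b = c) := by
    by_cases e1 : a = c
    · exact Or.inl ⟨e1, mul_left_cancel (hp.trans (by rw [e1]))⟩
    by_cases e2 : a = d
    · exact Or.inr ⟨e2, mul_left_cancel (a := a) (hp.trans (by rw [ccd.eq, e2]))⟩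
    exfalso
    have hD : ∀ x ∈ [a, b, c, d], x ∈ D := fun x hx => by
      simp only [List.mem_cons, List.not_mem_nil, or_false] at hx
      rcases hx with rfl | rfl | rfl | rfl
      exacts [hm _ (by simp), hm _ (by simp), hm' _ (by simp), hm' _ (by simp)]
    have hca : Commute c (a * b) := hp ▸ (Commute.refl c).mul_right ccd
    have hda : Commute d (a * b) := hp ▸ ccd.symm.mul_right (Commute.refl d)
    have h1 := (commute_pair_iff hE (hD a (by simp)) (hD b (by simp)) (hD c (by simp)) hab cab).1 hca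
    have h2 := (commute_pair_iff hE (hD a (by simp)) (hD b (by simp)) (hD d (by simp)) hab cab).1 hda
    have e3 : b ≠ c := fun e => e2 (mul_right_cancel (b := c) (by rw [← ccd.eq, ← hp, e]))
    have e4 : b ≠ d := fun e => e1 (mul_right_cancel (b := d) (by rw [← hp, e]))
    refine four_noRel hE hT [a, b, c, d] rfl ?_ hD ?_ ?_
    · simp [hab, e1, e2, e3, e4, hcd]
    · intro x hx y hy
      simp only [List.mem_cons, List.not_mem_nil, or_false] at hx hy
      rcases hx with rfl | rfl | rfl | rfl <;> rcases hy with rfl | rfl | rfl | rfl <;>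
        first
          | exact Commute.refl _
          | exact cab | exact cab.symm | exact ccd | exact ccd.symm
          | exact h1.1 | exact h1.1.symm | exact h1.2 | exact h1.2.symm
          | exact h2.1 | exact h2.1.symm | exact h2.2 | exact h2.2.symm
    · have hcc := sq_eq_one hE (hD c (by simp))
      have hdd := sq_eq_one hE (hD d (by simp))
      simp only [List.prod_cons, List.prod_nil, mul_one]
      rw [← mul_assoc a b, hp, ccd.symm.mul_mul_mul_comm c d, hcc, hdd, mul_one]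
  rcases hset with ⟨rfl, rfl⟩ | ⟨rfl, rfl⟩
  · exact fun _ => Iff.rfl
  · intro x; simp [or_comm]

/-- A product of three commuting members arises from exactly two triples. -/
theorem m22_triples [Finite G] (hcls : IsThreeTranspositionClass D) (hprim : IsPrimitiveUnderConj D)
    (hT : TwinFree D) (h22 : IsOfTypeM22 G D) {j : G} {l₀ : List G}
    (h₀ : l₀.Nodup ∧ l₀.length = 3 ∧ (∀ a ∈ l₀, a ∈ D) ∧ (∀ a ∈ l₀, ∀ b ∈ l₀, Commute a b) ∧ l₀.prod = j) :
    ∃ l₁ l₂ : List G,
      (l₁.Nodup ∧ l₁.length = 3 ∧ (∀ a ∈ l₁, a ∈ D) ∧ (∀ a ∈ l₁, ∀ b ∈ l₁, Commute a b) ∧ l₁.prod = j) ∧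
      (l₂.Nodup ∧ l₂.length = 3 ∧ (∀ a ∈ l₂, a ∈ D) ∧ (∀ a ∈ l₂, ∀ b ∈ l₂, Commute a b) ∧ l₂.prod = j) ∧
      ¬ (∀ x : G, x ∈ l₁ ↔ x ∈ l₂) ∧
      ∀ l : List G, (l.Nodup ∧ l.length = 3 ∧ (∀ a ∈ l, a ∈ D) ∧ (∀ a ∈ l, ∀ b ∈ l, Commute a b) ∧ l.prod = j) →
        ((∀ x : G, x ∈ l ↔ x ∈ l₁) ∨ (∀ x : G, x ∈ l ↔ x ∈ l₂)) := by
  classical
  obtain ⟨hn₀, hlen₀, hm₀, hc₀, hp₀⟩ := h₀
  obtain ⟨a, b, c, rfl⟩ := List.length_eq_three.1 hlen₀
  obtain ⟨⟨hab, hac⟩, hbc⟩ : (a ≠ b ∧ a ≠ c) ∧ b ≠ c := by simpa using hn₀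
  have hE := hcls.1
  have ha := hm₀ a (by simp); have hb := hm₀ b (by simp); have hc := hm₀ c (by simp)
  have cab : Commute a b := hc₀ a (by simp) b (by simp)
  have cac : Commute a c := hc₀ a (by simp) c (by simp)
  have cbc : Commute b c := hc₀ b (by simp) c (by simp)
  obtain ⟨p, q, r, hnd, hcomm, hmem, hprod, hall⟩ := m22_hexad hcls hprim hT h22 ha hb hc hab hac hbc cab cac cbc
  have hj : j = a * b * c := by simp [← hp₀, mul_assoc]
  have hjj : j * j = 1 := by
    rw [hj, (cac.symm.mul_right cbc.symm).mul_mul_mul_comm (a * b) c, cab.symm.mul_mul_mul_comm a b,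
      sq_eq_one hE ha, sq_eq_one hE hb, sq_eq_one hE hc, one_mul, one_mul]
  have hpqr : [p, q, r].prod = j := by
    have h : j * [p, q, r].prod = 1 := by rw [← hprod, hj]; simp [mul_assoc]
    rw [eq_inv_of_mul_eq_one_right h, inv_eq_of_mul_eq_one_right hjj]
  have hsub : ∀ {x}, x ∈ [p, q, r] → x ∈ [a, b, c, p, q, r] := fun {x} hx => by
    simp only [List.mem_cons, List.not_mem_nil, or_false] at hx ⊢; tauto
  have hnd₂ : [p, q, r].Nodup := hnd.sublist (List.sublist_append_right [a, b, c] [p, q, r])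
  refine ⟨[a, b, c], [p, q, r], ⟨hn₀, rfl, hm₀, hc₀, hp₀⟩,
    ⟨hnd₂, rfl, fun x hx => hmem x (hsub hx), fun x hx y hy => hcomm x (hsub hx) y (hsub hy), hpqr⟩, ?_, ?_⟩
  · intro h
    have := (h a).1 (by simp)
    simp only [List.nodup_cons, List.mem_cons, List.not_mem_nil, or_false, not_or] at hnd this
    obtain ⟨⟨-, -, h1, h2, h3⟩, -⟩ := hnd
    rcases this with e | e | e
    exacts [h1 e, h2 e, h3 e]
  rintro l ⟨hn, hlen, hm, hlc, hlp⟩
  obtain ⟨x, y, z, rfl⟩ := List.length_eq_three.1 hlen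
  obtain ⟨⟨hxy, hxz⟩, hyz⟩ : (x ≠ y ∧ x ≠ z) ∧ y ≠ z := by simpa using hn
  have hx := hm x (by simp); have hy := hm y (by simp); have hz := hm z (by simp)
  have cxy : Commute x y := hlc x (by simp) y (by simp)
  have cxz : Commute x z := hlc x (by simp) z (by simp)
  have cyz : Commute y z := hlc y (by simp) z (by simp)
  have hlj : x * y * z = j := by simp [← hlp, mul_assoc]
  by_cases hshare : ∃ u, u ∈ [x, y, z] ∧ u ∈ [a, b, c]
  · left
    obtain ⟨u, hu, hu₀⟩ := hshare
    have hpr : ∀ {m : List G}, m.Nodup → (∀ a ∈ m, ∀ b ∈ m, Commute a b) → u ∈ m →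
        u * (m.erase u).prod = m.prod := fun {m} hn hc hu => by
      rw [← List.prod_cons]
      exact ((List.perm_cons_erase hu).prod_eq' (List.Pairwise.imp_of_mem
        (fun {p q} hp hq _ => hc p hp q hq) hn)).symm
    have hpair := pair_unique hE hT (l := [x, y, z].erase u) (l' := [a, b, c].erase u)
      (by rw [List.length_erase_of_mem hu]; rfl) (by rw [List.length_erase_of_mem hu₀]; rfl) (hn.erase u)
      (hn₀.erase u) (fun w hw => hm w (List.mem_of_mem_erase hw)) (fun w hw => hm₀ w (List.mem_of_mem_erase hw))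
      (fun v hv w hw => hlc v (List.mem_of_mem_erase hv) w (List.mem_of_mem_erase hw))
      (fun v hv w hw => hc₀ v (List.mem_of_mem_erase hv) w (List.mem_of_mem_erase hw))
      (mul_left_cancel (a := u) (by rw [hpr hn hlc hu, hpr hn₀ hc₀ hu₀, hlp, hp₀]))
    intro w
    by_cases hwu : w = u
    · subst hwu; exact iff_of_true hu hu₀
    · have h1 := hpair w
      rwa [List.mem_erase_of_ne hwu, List.mem_erase_of_ne hwu] at h1
  · right
    push Not at hshare
    have hin : ∀ w ∈ [x, y, z], w ∈ [p, q, r] := by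
      intro w hw
      have ht : w ∈ tperp D a b c := by
        refine ⟨hm w hw, fun e he h1 h2 h3 => ?_⟩
        have hej : Commute e (x * y * z) := by rw [hlj, hj]; exact (h1.mul_right h2).mul_right h3
        obtain ⟨k1, k2, k3⟩ := (commute_triple_iff hE hx hy hz he hxy hxz hyz cxy cxz cyz).1 hej
        simp only [List.mem_cons, List.not_mem_nil, or_false] at hw
        rcases hw with rfl | rfl | rfl
        exacts [k1, k2, k3]
      have h6 := hall w ht
      have h0 := hshare w hw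
      simp only [List.mem_cons, List.not_mem_nil, or_false] at h6 h0 ⊢
      tauto
    intro w
    exact (((List.subperm_of_subset hn hin).perm_of_length_le le_rfl).mem_iff)

end Cfsg.Lib.ThreeTr
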