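import Cfsg.Agent.ThreeTransposition.Classes
import Cfsg.Agent.Components.GenFitting

/-!
The equivalences of Fischer on a class of 3-transpositions and the normal 2- and 3-subgroups.
-/

set_option linter.unusedSectionVars false

namespace Cfsg.Lib.ThreeTr

open Cfsg Subgroup
open scoped commutatorElement

variable {G : Type*} [Group G] {D : Set G}

theorem invol_conj_conj {u : G} (hu : u * u = 1) (x : G) : u * (u * x * u) * u = x := by
  simp only [← mul_assoc, hu, one_mul]
  rw [mul_assoc, hu, mul_one]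

/-- An invariant equivalence on `D` such that commuting passes between related members. -/
structure IsClassRel (D : Set G) (R : G → G → Prop) : Prop where
  refl : ∀ a ∈ D, R a a
  symm : ∀ {a b : G}, R a b → R b a
  trans : ∀ {a b c : G}, R a b → R b c → R a c
  equiv : ∀ (g : G) {a b : G}, a ∈ D → b ∈ D → R a b → R (g * a * g⁻¹) (g * b * g⁻¹)
  key : ∀ {u v e : G}, u ∈ D → v ∈ D → e ∈ D → R u v → ¬ R e u → Commute e u → Commute e v

section generic

variable {R : G → G → Prop}

theorem IsClassRel.equiv_invol (hR : IsClassRel D R) (hD : IsThreeTranspositionClass D) {x a b : G} (hx : x ∈ D)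
    (ha : a ∈ D) (hb : b ∈ D) (h : R a b) : R (x * a * x) (x * b * x) := by
  have := hR.equiv x ha hb h
  rwa [inv_eq hD.1 hx] at this

/-- The product of two related members fixes every class. -/
theorem IsClassRel.fixes (hR : IsClassRel D R) (hD : IsThreeTranspositionClass D) {u v e : G} (hu : u ∈ D)
    (hv : v ∈ D) (he : e ∈ D) (huv : R u v) : R (v * (u * e * u) * v) e := by
  have hu2 := sq_eq_one hD.1 hu
  have hv2 := sq_eq_one hD.1 hv
  by_cases heu : R e u
  · have h1 : R (u * e * u) u := by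
      have := hR.equiv_invol hD hu he hu heu
      rwa [hu2, one_mul] at this
    have h2 := hR.equiv_invol hD hv (conj_invol_mem hD hu he) hu h1
    have h3 : R (v * u * v) v := by
      have := hR.equiv_invol hD hv hu hv huv
      rwa [hv2, one_mul] at this
    exact hR.trans h2 (hR.trans h3 (hR.trans (hR.symm huv) (hR.symm heu)))
  by_cases hc : Commute e u
  · have hcv := hR.key hu hv he huv heu hc
    rw [← hc.eq, mul_assoc e, hu2, mul_one, ← hcv.eq, mul_assoc, hv2, mul_one]
    exact hR.refl e he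
  have hev : ¬ R e v := fun h => heu (hR.trans h (hR.symm huv))
  have hncv : ¬ Commute e v := fun h => hc (hR.key hv hu he (hR.symm huv) hev h)
  set p := u * e * u with hp
  have hpD : p ∈ D := conj_invol_mem hD hu he
  have hpu : ¬ R p u := by
    intro h
    have := hR.equiv_invol hD hu hpD hu h
    rw [hu2, one_mul, hp, invol_conj_conj hu2] at this
    exact heu this
  have hpv : ¬ R p v := fun h => hpu (hR.trans h (hR.symm huv))
  have hpcu : ¬ Commute p u := by
    intro h
    refine hc ?_
    have h' := h.map (MulAut.conj u)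
    simp only [MulAut.conj_apply, inv_eq hD.1 hu] at h'
    rw [hp, invol_conj_conj hu2, hu2, one_mul] at h'
    exact h'
  have hpcv : ¬ Commute p v := fun h => hpcu (hR.key hv hu hpD (hR.symm huv) hpv h)
  rw [braid hD.1 hv hpD fun h => hpcv h.symm]
  have hfin : p * u * p = e := by
    have h1 : p * u * p = u * (e * u * e) * u := by
      simp only [hp, mul_assoc]
      rw [← mul_assoc u u (e * u), hu2, one_mul]
    rw [h1, braid hD.1 he hu hc]
    simp only [← mul_assoc, hu2, one_mul]
    rw [mul_assoc, hu2, mul_one]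
  have h := hR.equiv_invol hD hpD hu hv huv
  rw [hfin] at h
  exact hR.symm h

theorem IsClassRel.fixes_conj (hR : IsClassRel D R) (hD : IsThreeTranspositionClass D) {u v e : G} (hu : u ∈ D)
    (hv : v ∈ D) (he : e ∈ D) (huv : R u v) : R ((u * v) * e * (u * v)⁻¹) e := by
  have := hR.fixes hD hv hu he (hR.symm huv)
  rw [mul_inv_rev, inv_eq hD.1 hu, inv_eq hD.1 hv]
  simpa only [mul_assoc] using this

/-- The products inside the class of `c`. -/
def classProducts (D : Set G) (R : G → G → Prop) (c : G) : Subgroup G :=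
  closure {x | ∃ u ∈ D, ∃ v ∈ D, R u c ∧ R v c ∧ x = u * v}

/-- All products of related members. -/
def relProducts (D : Set G) (R : G → G → Prop) : Subgroup G :=
  closure {x | ∃ u ∈ D, ∃ v ∈ D, R u v ∧ x = u * v}

theorem IsClassRel.relProducts_normal (hR : IsClassRel D R) (hD : IsThreeTranspositionClass D) :
    (relProducts D R).Normal := by
  refine ⟨fun x hx g => ?_⟩
  induction hx using closure_induction with
  | mem x hx =>
    obtain ⟨u, hu, v, hv, h, rfl⟩ := hx
    exact subset_closure ⟨_, conj_mem hD g hu, _, conj_mem hD g hv, hR.equiv g hu hv h, by group⟩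
  | one => simp
  | mul x y _ _ hx hy => rw [show g * (x * y) * g⁻¹ = g * x * g⁻¹ * (g * y * g⁻¹) by group]; exact mul_mem hx hy
  | inv x _ hx => rw [show g * x⁻¹ * g⁻¹ = (g * x * g⁻¹)⁻¹ by group]; exact inv_mem hx

theorem IsClassRel.relProducts_le_pCore [Finite G] (hR : IsClassRel D R) (hD : IsThreeTranspositionClass D) {p : ℕ}
    [Fact p.Prime] (hp : ∀ c ∈ D, IsPGroup p (classProducts D R c)) : relProducts D R ≤ pCore p G := by
  haveI := hR.relProducts_normal hD
  refine Cfsg.Lib.Components.le_pCore ?_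
  set N := relProducts D R with hN
  have htop : (⊤ : Subgroup N) ≤ pCore p N := by
    have hgen : N ≤ (pCore p N).map N.subtype := by
      rw [hN, relProducts, closure_le]
      rintro x ⟨u, hu, v, hv, huv, rfl⟩
      have hTN : classProducts D R v ≤ N := by
        rw [classProducts, closure_le]
        rintro y ⟨a, ha, b, hb, hav, hbv, rfl⟩
        exact subset_closure ⟨a, ha, b, hb, hR.trans hav (hR.symm hbv), rfl⟩
      have hfixT : ∀ t ∈ N, t ∈ normalizer (classProducts D R v : Set G) := by
        have hfix : ∀ t ∈ N, ∀ e ∈ D, R (t * e * t⁻¹) e := by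
          intro t ht
          induction ht using closure_induction with
          | mem t ht =>
            obtain ⟨a, ha, b, hb, hab, rfl⟩ := ht
            exact fun e he => hR.fixes_conj hD ha hb he hab
          | one => intro e he; simpa using hR.refl e he
          | mul x y _ _ hx hy =>
            intro e he
            rw [show x * y * e * (x * y)⁻¹ = x * (y * e * y⁻¹) * x⁻¹ by group]
            exact hR.trans (hx _ (conj_mem hD y he)) (hy e he)
          | inv x _ hx =>
            intro e he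
            have h := hx _ (conj_mem hD x⁻¹ he)
            rw [show x * (x⁻¹ * e * x⁻¹⁻¹) * x⁻¹ = e by group] at h
            exact hR.symm h
        have hmap : ∀ t ∈ N, ∀ y ∈ classProducts D R v, t * y * t⁻¹ ∈ classProducts D R v := by
          intro t ht y hy
          induction hy using closure_induction with
          | mem y hy =>
            obtain ⟨a, ha, b, hb, hav, hbv, rfl⟩ := hy
            exact subset_closure ⟨_, conj_mem hD t ha, _, conj_mem hD t hb, hR.trans (hfix t ht a ha) hav,
              hR.trans (hfix t ht b hb) hbv, by group⟩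
          | one => simp
          | mul y z _ _ hy hz =>
            rw [show t * (y * z) * t⁻¹ = t * y * t⁻¹ * (t * z * t⁻¹) by group]; exact mul_mem hy hz
          | inv y _ hy => rw [show t * y⁻¹ * t⁻¹ = (t * y * t⁻¹)⁻¹ by group]; exact inv_mem hy
        exact fun t ht => Cfsg.Lib.Coprime.mem_normalizer_of_conj_mem (hmap t ht) fun y hy => by
          simpa using hmap t⁻¹ (inv_mem ht) y hy
      haveI : ((classProducts D R v).subgroupOf N).Normal :=
        (normal_subgroupOf_iff_le_normalizer hTN).2 hfixT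
      have hle : (classProducts D R v).subgroupOf N ≤ pCore p N :=
        Cfsg.Lib.Components.le_pCore ((hp v hv).of_equiv (subgroupOfEquivOfLe hTN).symm)
      exact ⟨⟨u * v, hTN (subset_closure ⟨u, hu, v, hv, huv, hR.refl v hv, rfl⟩)⟩,
        hle (mem_subgroupOf.2 (subset_closure ⟨u, hu, v, hv, huv, hR.refl v hv, rfl⟩)), rfl⟩
    intro x _
    obtain ⟨y, hy, hxy⟩ := hgen x.2
    rwa [← Subtype.ext hxy]
  exact ((Cfsg.Lib.Components.isPGroup_pCore (G := N) p).to_le htop).of_equiv topEquiv

end generic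

/-- Commuting with the same members. -/
def VRel (D : Set G) (v d : G) : Prop := ∀ e ∈ D, Commute v e ↔ Commute d e

/-- The same commuting partners, the two excepted. -/
def WRel (D : Set G) (d w : G) : Prop := ∀ y ∈ D, (y ≠ d ∧ Commute d y) ↔ (y ≠ w ∧ Commute w y)

theorem vRel_isClassRel (hD : IsThreeTranspositionClass D) : IsClassRel D (VRel D) where
  refl _ _ _ _ := Iff.rfl
  symm h e he := (h e he).symm
  trans h h' e he := (h e he).trans (h' e he)
  equiv g {a b} _ _ h e he := by
    have h0 : g⁻¹ * e * g ∈ D := by simpa using conj_mem hD g⁻¹ he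
    have := h _ h0
    rw [← conj_commute_iff g a, ← conj_commute_iff g b] at this
    simpa only [← mul_assoc, mul_inv_cancel, one_mul, mul_inv_cancel_right] using this
  key {u v e} _ _ he h _ hc := ((h e he).1 hc.symm).symm

theorem wRel_isClassRel (hD : IsThreeTranspositionClass D) : IsClassRel D (WRel D) where
  refl _ _ _ _ := Iff.rfl
  symm h e he := (h e he).symm
  trans h h' e he := (h e he).trans (h' e he)
  equiv g {a b} _ _ h e he := by
    have h0 : g⁻¹ * e * g ∈ D := by simpa using conj_mem hD g⁻¹ he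
    have := h _ h0
    rw [← conj_commute_iff g a, ← conj_commute_iff g b] at this
    have e1 : ∀ x, g⁻¹ * e * g ≠ x ↔ e ≠ g * x * g⁻¹ := fun x => not_congr
      ⟨fun hh => by rw [← hh]; group, fun hh => by rw [hh]; group⟩
    simpa only [e1, ← mul_assoc, mul_inv_cancel, one_mul, mul_inv_cancel_right] using this
  key {u v e} hu _ he h hne hc :=
    (((h e he).1 ⟨fun hh => hne (hh ▸ fun y _ => Iff.rfl), hc.symm⟩).2).symm

theorem VRel.commute {v d : G} (h : VRel D v d) (hd : d ∈ D) : Commute v d := (h d hd).2 (Commute.refl d)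

theorem WRel.not_commute {d w : G} (h : WRel D d w) (hw : w ∈ D) (hne : d ≠ w) : ¬ Commute d w := fun hc =>
  ((h w hw).1 ⟨fun e => hne e.symm, hc⟩).1 rfl

theorem vRel_mem_pCore [Finite G] (hD : IsThreeTranspositionClass D) {v d : G} (hv : v ∈ D) (hd : d ∈ D)
    (h : VRel D v d) : v * d ∈ pCore 2 G := by
  haveI : Fact (Nat.Prime 2) := ⟨Nat.prime_two⟩
  refine (vRel_isClassRel hD).relProducts_le_pCore hD (p := 2) (fun c hc => ?_) (subset_closure ⟨v, hv, d, hd, h, rfl⟩)
  have hp : IsPGroup 2 (closure {x | x ∈ D ∧ VRel D x c}) :=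
    isPGroup_closure_commuting (fun a ha => sq_eq_one hD.1 ha.1) fun a ha b hb =>
      ((vRel_isClassRel hD).trans ha.2 ((vRel_isClassRel hD).symm hb.2)).commute hb.1
  refine hp.to_le ?_
  rw [classProducts, closure_le]
  rintro x ⟨a, ha, b, hb, hac, hbc, rfl⟩
  exact mul_mem (subset_closure ⟨ha, hac⟩) (subset_closure ⟨hb, hbc⟩)

theorem wRel_mem_pCore [Finite G] (hD : IsThreeTranspositionClass D) {v d : G} (hv : v ∈ D) (hd : d ∈ D)
    (h : WRel D v d) : v * d ∈ pCore 3 G := by
  haveI : Fact (Nat.Prime 3) := ⟨Nat.prime_three⟩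
  have hR := wRel_isClassRel hD
  refine hR.relProducts_le_pCore hD (p := 3) (fun c hc => ?_) (subset_closure ⟨v, hv, d, hd, h, rfl⟩)
  set S : Set G := {x | x ∈ D ∧ WRel D x c} with hS
  set H := closure S with hH
  have hnc : ∀ a ∈ S, ∀ b ∈ S, Commute a b → a = b := fun a ha b hb hab => by
    by_contra hne
    exact (hR.trans ha.2 (hR.symm hb.2)).not_commute hb.1 hne hab
  have hpres : H ≤ normalizer S := by
    rw [hH, closure_le]
    intro u hu
    have hfwd : ∀ x ∈ S, u * x * u⁻¹ ∈ S := fun x hx => by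
      refine ⟨conj_mem hD u hx.1, hR.trans (hR.equiv u hx.1 hu.1 (hR.trans hx.2 (hR.symm hu.2))) ?_⟩
      rw [mul_inv_cancel_right]; exact hu.2
    refine mem_set_normalizer_iff.2 fun x => ⟨hfwd x, fun hx => ?_⟩
    have := hfwd _ hx
    rw [inv_eq hD.1 hu.1, invol_conj_conj (sq_eq_one hD.1 hu.1)] at this
    exact this
  have hcls : IsThreeTranspositionClass ({x : H | (x : G) ∈ S} : Set H) := by
    refine ⟨⟨fun x hx => ?_, fun x hx y hy => ?_⟩, ⟨⟨c, subset_closure ⟨hc, hR.refl c hc⟩⟩, ⟨hc, hR.refl c hc⟩, ?_⟩, ?_⟩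
    · rw [← Subgroup.orderOf_coe]; exact hD.1.1 _ hx.1
    · rcases hD.1.2 _ hx.1 _ hy.1 with h | h
      · exact Or.inl (Subtype.ext h)
      · exact Or.inr (Subtype.ext h)
    · ext x
      rw [mem_conjugatesOf', isConj_iff]
      constructor
      · intro hx
        by_cases hcx : Commute c (x : G)
        · exact ⟨1, Subtype.ext (by simp [hnc c ⟨hc, hR.refl c hc⟩ x hx hcx])⟩
        · exact ⟨⟨c * x, mul_mem (subset_closure ⟨hc, hR.refl c hc⟩) x.2⟩,
            Subtype.ext (mul_conj_eq hD.1 hc hx.1 hcx)⟩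
      · rintro ⟨g, rfl⟩
        exact (mem_set_normalizer_iff.1 (hpres g.2) c).1 ⟨hc, hR.refl c hc⟩
    · exact closure_closure_coe_preimage
  have h3 := isPGroup_productSubgroup hcls fun a ha b hb hab =>
    Subtype.ext (hnc _ ha _ hb (hab.map H.subtype))
  refine (h3.map H.subtype).to_le ?_
  rw [classProducts, closure_le]
  rintro x ⟨a, ha, b, hb, hac, hbc, rfl⟩
  exact ⟨⟨a, subset_closure ⟨ha, hac⟩⟩ * ⟨b, subset_closure ⟨hb, hbc⟩⟩,
    mul_mem_productSubgroup (D := ({x : H | (x : G) ∈ S} : Set H)) ⟨ha, hac⟩ ⟨hb, hbc⟩, rfl⟩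

theorem eq_one_of_sq_mem_pgroup {p : ℕ} (hp : p.Prime) {N : Subgroup G} (hN : IsPGroup p N) {x : G} {q : ℕ}
    (hq : q.Prime) (hpq : p ≠ q) (hx : x ∈ N) (h : x ^ q = 1) : x = 1 := by
  obtain ⟨i, hi⟩ := hN ⟨x, hx⟩
  exact orderOf_eq_one_iff.1 (Nat.eq_one_of_dvd_coprimes (Nat.Coprime.pow_left i ((Nat.coprime_primes hp hq).2 hpq))
    (orderOf_dvd_of_pow_eq_one (congrArg Subtype.val hi)) (orderOf_dvd_of_pow_eq_one h))

theorem commute_of_congr_two [Finite G] (hD : IsThreeTranspositionClass D) {e d v : G} (he : e ∈ D) (hd : d ∈ D)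
    (hv : v ∈ D) (h : d⁻¹ * v ∈ pCore 2 G) (hc : Commute e d) : Commute e v := by
  haveI := (Cfsg.Lib.Components.pCore_normal_and_isPGroup (G := G) 2).1
  by_contra hnc
  have h3 := cube_of_not_commute hD.1 he hv hnc
  have h2 : (e * d) ^ 2 = 1 := (commute_iff_sq (sq_eq_one hD.1 he) (sq_eq_one hD.1 hd)).1 hc
  have hm : ((e * v) ^ 2) ∈ pCore 2 G := by
    rw [← QuotientGroup.eq_one_iff, QuotientGroup.mk_pow]
    have : ((e * v : G) : G ⧸ pCore 2 G) = ((e * d : G) : G ⧸ pCore 2 G) := by
      rw [QuotientGroup.mk_mul, QuotientGroup.mk_mul, (QuotientGroup.eq.2 h)]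
    rw [this, ← QuotientGroup.mk_pow, h2, QuotientGroup.mk_one]
  have hsq : (e * v) ^ 2 = 1 := eq_one_of_sq_mem_pgroup Nat.prime_two (Cfsg.Lib.Components.isPGroup_pCore 2)
    Nat.prime_three (by norm_num) hm (by rw [← pow_mul, mul_comm, pow_mul, h3, one_pow])
  exact hnc ((commute_iff_sq (sq_eq_one hD.1 he) (sq_eq_one hD.1 hv)).2 hsq)

theorem vRel_of_mem_pCore [Finite G] (hD : IsThreeTranspositionClass D) {d v : G} (hd : d ∈ D) (hv : v ∈ D)
    (h : d⁻¹ * v ∈ pCore 2 G) : VRel D v d := by
  intro e he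
  have h' : v⁻¹ * d ∈ pCore 2 G := by simpa using inv_mem h
  exact ⟨fun hc => (commute_of_congr_two hD he hv hd h' hc.symm).symm,
    fun hc => (commute_of_congr_two hD he hd hv h hc.symm).symm⟩

theorem vRel_exists_conj [Finite G] (hD : IsThreeTranspositionClass D) (hD2 : ∃ a ∈ D, ∃ b ∈ D, a ≠ b) {d v : G}
    (hd : d ∈ D) (hv : v ∈ D) (h : VRel D v d) : ∃ g ∈ pCore 2 G, g * d * g⁻¹ = v := by
  haveI := (Cfsg.Lib.Components.pCore_normal_and_isPGroup (G := G) 2).1
  have hdv : Commute d v := (h.commute hd).symm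
  obtain ⟨e, he, hde⟩ := exists_not_commute hD hD2 hd
  have hev : ¬ Commute e v := fun hc => hde ((h e he).1 hc.symm)
  refine ⟨e * (d * v) * e⁻¹, ?_, ?_⟩
  · rw [hdv.eq]
    exact (inferInstance : (pCore 2 G).Normal).conj_mem _ (vRel_mem_pCore hD hv hd h) e
  · have b1 := braid hD.1 hd he hde
    have b2 := braid hD.1 he hv hev
    simp only [mul_inv_rev, inv_inv, inv_eq hD.1 he, inv_eq hD.1 hd, inv_eq hD.1 hv]
    calc e * (d * v) * e * d * (e * (v * d * e)) = e * d * v * (e * d * e) * (v * (d * e)) := by simp only [mul_assoc]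
      _ = e * d * v * (d * e * d) * (v * (d * e)) := by rw [b1]
      _ = e * (d * (v * d)) * e * ((d * v) * d) * e := by simp only [mul_assoc]
      _ = e * v * e * v * e := by
          rw [← hdv.eq, ← mul_assoc d d v, sq_eq_one hD.1 hd, one_mul, hdv.eq, mul_assoc v d d, sq_eq_one hD.1 hd, mul_one]
      _ = e * (v * e * v) * e := by simp only [mul_assoc]
      _ = e * (e * v * e) * e := by rw [b2]
      _ = v := by
          simp only [← mul_assoc, sq_eq_one hD.1 he, one_mul]
          rw [mul_assoc, sq_eq_one hD.1 he, mul_one]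

theorem partner_of_congr_three [Finite G] (hD : IsThreeTranspositionClass D) {d w y : G} (hd : d ∈ D) (hw : w ∈ D)
    (hy : y ∈ D) (h : d⁻¹ * w ∈ pCore 3 G) (hne : y ≠ d) (hc : Commute d y) : y ≠ w ∧ Commute w y := by
  haveI := (Cfsg.Lib.Components.pCore_normal_and_isPGroup (G := G) 3).1
  have hp := Cfsg.Lib.Components.isPGroup_pCore (G := G) 3
  have h2 : (d * y) ^ 2 = 1 := (commute_iff_sq (sq_eq_one hD.1 hd) (sq_eq_one hD.1 hy)).1 hc
  refine ⟨?_, ?_⟩
  · rintro rfl
    rw [inv_eq hD.1 hd] at h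
    have := eq_one_of_sq_mem_pgroup Nat.prime_three hp Nat.prime_two (by norm_num) h h2
    rw [mul_eq_one_iff_eq_inv, inv_eq hD.1 hy] at this
    exact hne this.symm
  · by_contra hnc
    have h3 := cube_of_not_commute hD.1 hw hy hnc
    have hm : d * y ∈ pCore 3 G := by
      rw [← QuotientGroup.eq_one_iff]
      have e1 : ((w * y : G) : G ⧸ pCore 3 G) = ((d * y : G) : G ⧸ pCore 3 G) := by
        rw [QuotientGroup.mk_mul, QuotientGroup.mk_mul, (QuotientGroup.eq.2 h)]
      have e2 : ((d * y : G) : G ⧸ pCore 3 G) ^ 3 = 1 := by rw [← e1, ← QuotientGroup.mk_pow, h3, QuotientGroup.mk_one]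
      rwa [pow_succ, ← QuotientGroup.mk_pow, h2, QuotientGroup.mk_one, one_mul] at e2
    have := eq_one_of_sq_mem_pgroup Nat.prime_three hp Nat.prime_two (by norm_num) hm h2
    rw [mul_eq_one_iff_eq_inv, inv_eq hD.1 hy] at this
    exact hne this.symm

theorem wRel_of_mem_pCore [Finite G] (hD : IsThreeTranspositionClass D) {d w : G} (hd : d ∈ D) (hw : w ∈ D)
    (h : d⁻¹ * w ∈ pCore 3 G) : WRel D d w := by
  intro y hy
  have h' : w⁻¹ * d ∈ pCore 3 G := by simpa using inv_mem h
  exact ⟨fun ⟨h1, h2⟩ => partner_of_congr_three hD hd hw hy h h1 h2,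
    fun ⟨h1, h2⟩ => partner_of_congr_three hD hw hd hy h' h1 h2⟩

theorem wRel_exists_conj [Finite G] (hD : IsThreeTranspositionClass D) {d w : G}
    (hd : d ∈ D) (hw : w ∈ D) (h : WRel D d w) : ∃ g ∈ pCore 3 G, g * d * g⁻¹ = w := by
  by_cases hne : d = w
  · exact ⟨1, one_mem _, by simp [hne]⟩
  exact ⟨d * w, wRel_mem_pCore hD hd hw h, mul_conj_eq hD.1 hd hw (h.not_commute hw hne)⟩

theorem pCore_le_center_of_gt [Finite G] (hD : IsThreeTranspositionClass D) {p : ℕ} (hp : p.Prime) (h3 : 3 < p) :
    pCore p G ≤ center G := by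
  haveI := (Cfsg.Lib.Components.pCore_normal_and_isPGroup (G := G) p).1
  intro x hx
  rw [mem_center_iff]
  intro g
  have hg : g ∈ centralizer ({x} : Set G) := by
    have hle : closure D ≤ centralizer ({x} : Set G) := by
      rw [closure_le]
      intro d hd
      refine mem_centralizer_singleton_iff.2 ?_
      have hm : x * d * x⁻¹ * d ∈ pCore p G := by
        have := mul_mem hx ((inferInstance : (pCore p G).Normal).conj_mem _ (inv_mem hx) d)
        rwa [inv_eq hD.1 hd, show x * (d * x⁻¹ * d) = x * d * x⁻¹ * d by group] at this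
      have h1 : x * d * x⁻¹ * d = 1 := by
        rcases hD.1.2 _ (conj_mem hD x hd) d hd with h | h
        · exact eq_one_of_sq_mem_pgroup hp (Cfsg.Lib.Components.isPGroup_pCore p) Nat.prime_two (by omega) hm h
        · exact eq_one_of_sq_mem_pgroup hp (Cfsg.Lib.Components.isPGroup_pCore p) Nat.prime_three (by omega) hm h
      rw [mul_eq_one_iff_eq_inv, inv_eq hD.1 hd, mul_inv_eq_iff_eq_mul] at h1
      exact h1.symm
    exact hle (hD.2.2 ▸ mem_top g)
  exact mem_centralizer_singleton_iff.1 hg

/-- If a perfect normal subgroup centralises the products `d * v`, it centralises `d`. -/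
theorem centralizes_of_rel [Finite G] (hD : IsThreeTranspositionClass D) {d : G} (hd : d ∈ D) {K : Subgroup G}
    [K.Normal] (hperf : ⁅K, K⁆ = K) (hpair : ∀ x ∈ K, d⁻¹ * (x * d * x⁻¹) ∈ centralizer (K : Set G)) :
    K ≤ centralizer ({d} : Set G) := by
  have hcomm : ⁅K, zpowers d⁆ ≤ centralizer (K : Set G) := by
    rw [commutator_le]
    intro x hx h hh
    have hcases : h = 1 ∨ h = d := by
      obtain ⟨k, rfl⟩ := hh
      show d ^ k = 1 ∨ d ^ k = d
      rw [← zpow_mod_orderOf, hD.1.1 d hd]
      rcases Int.emod_two_eq_zero_or_one k with h | h <;> simp [h]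
    rcases hcases with rfl | rfl
    · rw [commutatorElement_one_right]; exact one_mem _
    · have e : ⁅x, h⁆ = h * (h⁻¹ * (x * h * x⁻¹)) * h⁻¹ := by rw [commutatorElement_def]; group
      rw [e]
      refine mem_centralizer_iff.2 fun y hy => ?_
      have hy' : h⁻¹ * y * h ∈ K := by simpa using (inferInstance : (K).Normal).conj_mem y hy h⁻¹
      have := mem_centralizer_iff.1 (hpair x hx) _ hy'
      calc y * (h * (h⁻¹ * (x * h * x⁻¹)) * h⁻¹) = h * ((h⁻¹ * y * h) * (h⁻¹ * (x * h * x⁻¹))) * h⁻¹ := by group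
        _ = h * ((h⁻¹ * (x * h * x⁻¹)) * (h⁻¹ * y * h)) * h⁻¹ := by rw [this]
        _ = _ := by group
  have h0 : ⁅K, zpowers d⁆ = ⊥ := Cfsg.Lib.Components.commutator_eq_bot_of_perfect
    hperf (commutator_eq_bot_iff_le_centralizer.2 hcomm)
  intro x hx
  have h1 : ⁅x, d⁆ ∈ (⊥ : Subgroup G) := h0 ▸ commutator_mem_commutator hx (mem_zpowers d)
  exact mem_centralizer_singleton_iff.2 (commutatorElement_eq_one_iff_mul_comm.1 (mem_bot.1 h1))

theorem layer_centralizes_of_rel [Finite G] (hD : IsThreeTranspositionClass D) {d : G} (hd : d ∈ D)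
    (hpair : ∀ x ∈ layer G, d⁻¹ * (x * d * x⁻¹) ∈ centralizer (layer G : Set G)) :
    layer G ≤ centralizer ({d} : Set G) :=
  centralizes_of_rel hD hd Cfsg.Lib.Components.layer_perfect hpair

theorem layer_eq_bot_of_centralizes [Finite G] (hD : IsThreeTranspositionClass D)
    (h : ∀ d ∈ D, layer G ≤ centralizer ({d} : Set G)) : layer G = ⊥ := by
  have hle : layer G ≤ center G := by
    intro x hx
    rw [mem_center_iff]
    intro g
    have hle : closure D ≤ centralizer ({x} : Set G) := by
      rw [closure_le]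
      intro d hd
      exact mem_centralizer_singleton_iff.2 (mem_centralizer_singleton_iff.1 (h d hd hx)).symm
    exact mem_centralizer_singleton_iff.1 (hle (hD.2.2 ▸ mem_top g))
  rw [← Cfsg.Lib.Components.layer_perfect (G := G), commutator_eq_bot_iff_le_centralizer]
  exact hle.trans (center_le_centralizer _)

theorem exists_moved [Finite G] (hD : IsThreeTranspositionClass D) {N : Subgroup G} (hN : ¬ N ≤ center G) {d : G}
    (hd : d ∈ D) [N.Normal] : ∃ g ∈ N, g * d * g⁻¹ ≠ d := by
  by_contra hcon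
  push Not at hcon
  refine hN fun x hx => mem_center_iff.2 fun g => ?_
  have hle : closure D ≤ centralizer ({x} : Set G) := by
    rw [closure_le]
    intro e he
    obtain ⟨h, rfl⟩ := exists_conj hD hd he
    refine mem_centralizer_singleton_iff.2 ?_
    have h' := hcon (h⁻¹ * x * h) (by simpa using (inferInstance : N.Normal).conj_mem x hx h⁻¹)
    calc h * d * h⁻¹ * x = h * d * (h⁻¹ * x * h) * h⁻¹ := by group
      _ = h * ((h⁻¹ * x * h) * d * (h⁻¹ * x * h)⁻¹) * (h⁻¹ * x * h) * h⁻¹ := by rw [h']
      _ = _ := by group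
  exact mem_centralizer_singleton_iff.1 (hle (hD.2.2 ▸ mem_top g))

theorem moved_diff_mem {N : Subgroup G} [hN : N.Normal] {d g : G} (hg : g ∈ N) :
    d⁻¹ * (g * d * g⁻¹) ∈ N := by
  have h := mul_mem (hN.conj_mem g hg d⁻¹) (inv_mem hg)
  rwa [inv_inv, show d⁻¹ * g * d * g⁻¹ = d⁻¹ * (g * d * g⁻¹) by group] at h

theorem layer_eq_bot_of_two [Finite G] (hD : IsThreeTranspositionClass D)
    (h2 : ¬ pCore 2 G ≤ center G) : layer G = ⊥ := by
  haveI := (Cfsg.Lib.Components.pCore_normal_and_isPGroup (G := G) 2).1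
  haveI : Fact (Nat.Prime 2) := ⟨Nat.prime_two⟩
  have hE : ⁅layer G, pCore 2 G⁆ = ⊥ := Cfsg.Lib.Components.layer_commute_solvable_normal (by
    haveI := (Cfsg.Lib.Components.isPGroup_pCore (G := G) 2).isNilpotent
    infer_instance)
  refine layer_eq_bot_of_centralizes hD fun d hd => layer_centralizes_of_rel hD hd fun x hx => ?_
  obtain ⟨g, hg, hgd⟩ := exists_moved hD h2 hd
  set v := g * d * g⁻¹ with hv
  have hvD : v ∈ D := conj_mem hD g hd
  have hvd : VRel D v d := vRel_of_mem_pCore hD hd hvD (moved_diff_mem hg)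
  -- `x` fixes `d * v`
  have hfix : x * (d * v) * x⁻¹ = d * v := by
    have h := commutatorElement_eq_one_iff_mul_comm.1 (mem_bot.1 (hE ▸ commutator_mem_commutator hx
      (show d * v ∈ pCore 2 G by
        have := moved_diff_mem (N := pCore 2 G) (d := d) hg
        rwa [inv_eq hD.1 hd] at this)))
    rw [h, mul_inv_cancel_right]
  have hd' := conj_mem hD x hd
  have hrel : VRel D (x * d * x⁻¹) d := by
    intro e he
    have hpair' : x * (d * v) * x⁻¹ = (x * d * x⁻¹) * (x * v * x⁻¹) := by group
    have hv' := (vRel_isClassRel hD).equiv x hvD hd hvd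
    have hne : x * d * x⁻¹ ≠ x * v * x⁻¹ := fun hh => hgd (mul_left_cancel (mul_right_cancel hh)).symm
    constructor
    · intro hc
      have hcv : Commute (x * v * x⁻¹) e := (hv' e he).2 hc
      have : Commute e (d * v) := by
        rw [← hfix, hpair']; exact hc.symm.mul_right hcv.symm
      exact (((commute_pair_iff hD.1 hd hvD he hgd.symm (hvd.commute hd).symm).1 this).1).symm
    · intro hc
      have : Commute e (d * v) := hc.symm.mul_right ((hvd e he).2 hc).symm
      rw [← hfix, hpair'] at this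
      exact (((commute_pair_iff hD.1 hd' (conj_mem hD x hvD) he hne
        ((conj_commute_iff x d v).2 (hvd.commute hd).symm)).1 this).1).symm
  have hm : d⁻¹ * (x * d * x⁻¹) ∈ pCore 2 G := by
    have := inv_mem (vRel_mem_pCore hD hd' hd hrel)
    rwa [mul_inv_rev, inv_eq hD.1 hd', ← inv_eq hD.1 hd, inv_eq hD.1 hd] at this
  refine mem_centralizer_iff.2 fun y hy => ?_
  exact commutatorElement_eq_one_iff_mul_comm.1 (mem_bot.1 (hE ▸ commutator_mem_commutator hy hm))

theorem layer_eq_bot_of_three [Finite G] (hD : IsThreeTranspositionClass D)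
    (h3 : ¬ pCore 3 G ≤ center G) : layer G = ⊥ := by
  haveI := (Cfsg.Lib.Components.pCore_normal_and_isPGroup (G := G) 3).1
  haveI : Fact (Nat.Prime 3) := ⟨Nat.prime_three⟩
  have hE : ⁅layer G, pCore 3 G⁆ = ⊥ := Cfsg.Lib.Components.layer_commute_solvable_normal (by
    haveI := (Cfsg.Lib.Components.isPGroup_pCore (G := G) 3).isNilpotent
    infer_instance)
  refine layer_eq_bot_of_centralizes hD fun d hd => layer_centralizes_of_rel hD hd fun x hx => ?_
  obtain ⟨g, hg, hgd⟩ := exists_moved hD h3 hd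
  set w := g * d * g⁻¹ with hw
  have hwD : w ∈ D := conj_mem hD g hd
  have hdw : WRel D d w := wRel_of_mem_pCore hD hd hwD (moved_diff_mem hg)
  have hfix : x * (d * w) * x⁻¹ = d * w := by
    have h := commutatorElement_eq_one_iff_mul_comm.1 (mem_bot.1 (hE ▸ commutator_mem_commutator hx
      (wRel_mem_pCore hD hd hwD hdw)))
    rw [h, mul_inv_cancel_right]
  -- the centraliser of the product
  have hchar : ∀ a b : G, a ∈ D → b ∈ D → a ≠ b → WRel D a b → ∀ e ∈ D,
      (Commute e (a * b) ↔ (e ≠ a ∧ Commute a e)) := by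
    intro a b ha hb hab hR e he
    have hnab := hR.not_commute hb hab
    constructor
    · intro hc
      have ha2 := sq_eq_one hD.1 ha
      have hb2 := sq_eq_one hD.1 hb
      have hea : e ≠ a := by
        rintro rfl
        refine hnab ?_
        show e * b = b * e
        calc e * b = e * b * (e * e) := by rw [ha2, mul_one]
          _ = (e * b) * e * e := by simp only [mul_assoc]
          _ = (e * (e * b)) * e := by
            have h1 : (e * b) * e = e * (e * b) := hc.eq.symm
            rw [h1]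
          _ = b * e := by rw [← mul_assoc, ha2, one_mul]
      refine ⟨hea, ?_⟩
      by_contra hnc
      have hsq : e * (a * b) * e = a * b := by rw [hc.eq, mul_assoc, sq_eq_one hD.1 he, mul_one]
      by_cases hcb : Commute b e
      · by_cases heb : e = b
        · subst heb
          refine hnab ?_
          have h : a * e = (e * (a * e)) * e := hsq.symm
          rw [mul_assoc e (a * e) e, mul_assoc a e e, hb2, mul_one] at h
          exact h
        · exact hnc ((hR e he).2 ⟨heb, hcb⟩).2
      · have h1 : (e * a * e) * (e * b * e) = a * b := by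
          rw [show e * a * e * (e * b * e) = e * a * (e * e) * b * e by group, sq_eq_one hD.1 he, mul_one]
          simpa only [mul_assoc] using hsq
        rw [braid hD.1 he ha fun h => hnc h.symm, braid hD.1 he hb fun h => hcb h.symm] at h1
        have h2 : e * a * b * e = 1 := by
          have h3 : a * (e * a * b * e) * b = a * 1 * b := by rw [mul_one, ← h1]; simp only [mul_assoc]
          exact mul_left_cancel (mul_right_cancel h3)
        rw [show e * a * b * e = e * (a * b) * e by group, hsq, mul_eq_one_iff_eq_inv, inv_eq hD.1 hb] at h2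
        exact hab h2
    · rintro ⟨hne, hc⟩
      exact hc.symm.mul_right (((hR e he).1 ⟨hne, hc⟩).2).symm
  have hd' := conj_mem hD x hd
  have hrel : WRel D (x * d * x⁻¹) d := by
    intro e he
    rw [← hchar d w hd hwD hgd.symm hdw e he, ← hchar (x * d * x⁻¹) (x * w * x⁻¹) hd' (conj_mem hD x hwD)
      (fun hh => hgd (mul_left_cancel (mul_right_cancel hh)).symm) ((wRel_isClassRel hD).equiv x hd hwD hdw) e he,
      show x * d * x⁻¹ * (x * w * x⁻¹) = x * (d * w) * x⁻¹ by group, hfix]
  have hm : d⁻¹ * (x * d * x⁻¹) ∈ pCore 3 G := by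
    have := wRel_mem_pCore hD hd hd' ((wRel_isClassRel hD).symm hrel)
    rwa [inv_eq hD.1 hd]
  refine mem_centralizer_iff.2 fun y hy => ?_
  exact commutatorElement_eq_one_iff_mul_comm.1 (mem_bot.1 (hE ▸ commutator_mem_commutator hy hm))

theorem fitting_le_center [Finite G] (h : ∀ p : ℕ, p.Prime → pCore p G ≤ center G) :
    fittingSubgroup G ≤ center G :=
  (Cfsg.Lib.Components.nilpotent_normal_le_iSup_pCore Cfsg.Lib.Components.isNilpotent_fitting).trans
    (iSup_le fun p => h p.1 p.2)

theorem pCore_le_center_of [Finite G] (hD : IsThreeTranspositionClass D) (h2 : pCore 2 G ≤ center G)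
    (h3 : pCore 3 G ≤ center G) (p : ℕ) (hp : p.Prime) : pCore p G ≤ center G := by
  rcases Nat.lt_or_ge 3 p with h | h
  · exact pCore_le_center_of_gt hD hp h
  · interval_cases p
    · exact absurd hp (by norm_num)
    · exact absurd hp (by norm_num)
    · exact h2
    · exact h3

theorem layer_ne_bot [Finite G] (hD : IsThreeTranspositionClass D) (hD2 : ∃ a ∈ D, ∃ b ∈ D, a ≠ b)
    (h2 : pCore 2 G ≤ center G) (h3 : pCore 3 G ≤ center G) : layer G ≠ ⊥ := by
  intro hl
  have hF : generalizedFittingSubgroup G ≤ center G := by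
    rw [generalizedFittingSubgroup, hl, bot_sup_eq]
    exact fitting_le_center (pCore_le_center_of hD h2 h3)
  have htop : (⊤ : Subgroup G) ≤ center G := by
    refine le_trans ?_ ((Cfsg.Lib.Components.centralizer_genFitting_le (G := G)).trans hF)
    intro g _
    exact mem_centralizer_iff.2 fun h hh => (mem_center_iff.1 (hF hh) g).symm
  obtain ⟨a, ha, b, hb, hab⟩ := hD2
  exact hab (eq_of_mul_mem_center hD ha hb (htop (mem_top _)))

theorem not_two_and_three [Finite G] (hD : IsThreeTranspositionClass D) (h2 : ¬ pCore 2 G ≤ center G)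
    (h3 : ¬ pCore 3 G ≤ center G) : False := by
  haveI := (Cfsg.Lib.Components.pCore_normal_and_isPGroup (G := G) 2).1
  haveI := (Cfsg.Lib.Components.pCore_normal_and_isPGroup (G := G) 3).1
  obtain ⟨d, hd, -⟩ := hD.2.1
  obtain ⟨g, hg, hgd⟩ := exists_moved hD h2 hd
  obtain ⟨k, hk, hkd⟩ := exists_moved hD h3 hd
  have hV := vRel_of_mem_pCore hD hd (conj_mem hD g hd) (moved_diff_mem hg)
  have hW := wRel_of_mem_pCore hD hd (conj_mem hD k hd) (moved_diff_mem hk)
  have hc := ((hW _ (conj_mem hD g hd)).1 ⟨hgd, (hV.commute hd).symm⟩).2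
  exact hW.not_commute (conj_mem hD k hd) (Ne.symm hkd) ((hV _ (conj_mem hD k hd)).1 hc.symm)

end Cfsg.Lib.ThreeTr
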