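import Cfsg.Agent.ThreeTransposition.RelationTypes
import Cfsg.Agent.ThreeTransposition.Factors

/-!
Commuting pairs in groups of type M(22) can be swapped; commuting triples in groups of type M(23) admit every
permutation.
-/

set_option linter.unusedSectionVars false
set_option linter.style.haveILetI false

namespace Cfsg.Lib.ThreeTr

open Cfsg Subgroup

variable {G : Type*} [Group G] {D : Set G}

/-- In a class of type M(22) any two commuting members can be swapped. -/
theorem m22_pair_swap [Finite G] (hcls : IsThreeTranspositionClass D) (hT : TwinFree D) (h22 : IsOfTypeM22 G D)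
    {a b : G} (ha : a ∈ D) (hb : b ∈ D) (hne : a ≠ b) (hc : Commute a b) :
    ∃ g : G, g * a * g⁻¹ = b ∧ g * b * g⁻¹ = a := by
  obtain ⟨d, hd, c, -, -, -, hsimp, hZQ, -⟩ := m22_perp_facts h22
  haveI := hsimp
  have hconj : ∀ g : G, ∀ x ∈ D, g * x * g⁻¹ ∈ D := fun g x hx => conj_mem hcls g hx
  have hnc : ∀ x : ↥(closure (perp D d)), (x : G) ∈ perp D d → x ∉ center ↥(closure (perp D d)) :=
    fun x hx => not_mem_center_of_twinFree hcls hT hd hx
  obtain ⟨hcls', -⟩ := class_of_simple (descSet_set hcls.1 hnc) (fun g x hx => conj_mem_descSet hconj g hx)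
    (closure_descSet d) hZQ
  -- the members commuting with any member are permuted transitively by its centraliser
  have htrans : ∀ p ∈ D, ∀ x ∈ perp D p, ∀ y ∈ perp D p, ∃ g : G, Commute g p ∧ g * x * g⁻¹ = y := by
    intro p hp x hx y hy
    obtain ⟨k, hk⟩ := exists_conj hcls hp hd
    have hx' : k * x * k⁻¹ ∈ perp D d := hk ▸ conj_image_perp hcls k p ▸ ⟨x, hx, rfl⟩
    have hy' : k * y * k⁻¹ ∈ perp D d := hk ▸ conj_image_perp hcls k p ▸ ⟨y, hy, rfl⟩
    obtain ⟨q, hq⟩ := exists_conj hcls'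
      (show _ ∈ descSet D d from ⟨⟨_, subset_closure hx'⟩, hx', rfl⟩)
      (show _ ∈ descSet D d from ⟨⟨_, subset_closure hy'⟩, hy', rfl⟩)
    obtain ⟨q, rfl⟩ := QuotientGroup.mk_surjective q
    have e : q * ⟨_, subset_closure hx'⟩ * q⁻¹ = (⟨_, subset_closure hy'⟩ : ↥(closure (perp D d))) :=
      mk_injOn hcls.1 hconj (by simpa using conj_mem_perp hconj q.2 hx') hy'
        (hnc _ (by simpa using conj_mem_perp hconj q.2 hx')) (by simpa using hq)
    have e' : (q : G) * (k * x * k⁻¹) * (q : G)⁻¹ = k * y * k⁻¹ := by simpa using congrArg Subtype.val e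
    refine ⟨k⁻¹ * q * k, ?_, ?_⟩
    · have := (closure_perp_commute q.2).map (MulAut.conj k⁻¹)
      rw [show MulAut.conj k⁻¹ d = p by rw [← hk]; simp [mul_assoc]] at this
      simpa [mul_assoc] using this
    · rw [show k⁻¹ * (q : G) * k * x * (k⁻¹ * (q : G) * k)⁻¹ = k⁻¹ * ((q : G) * (k * x * k⁻¹) * (q : G)⁻¹) * k by group,
        e']
      group
  obtain ⟨h, hh⟩ := exists_conj hcls ha hb
  have hb1 : h * b * h⁻¹ ∈ perp D b := by
    have e := conj_image_perp hcls h a
    rw [hh] at e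
    exact e ▸ Set.mem_image_of_mem _ (show b ∈ perp D a from ⟨hb, hne.symm, hc⟩)
  obtain ⟨g, hgc, hg⟩ := htrans b hb _ hb1 a ⟨ha, hne, hc.symm⟩
  refine ⟨g * h, ?_, ?_⟩
  · rw [show g * h * a * (g * h)⁻¹ = g * (h * a * h⁻¹) * g⁻¹ by group, hh, hgc.eq, mul_inv_cancel_right]
  · rw [show g * h * b * (g * h)⁻¹ = g * (h * b * h⁻¹) * g⁻¹ by group, hg]

/-- In type M(23), two commuting members can be swapped fixing a third one commuting with both. -/
theorem m23_swap [Finite G] (hG : IsThreeTranspositionGroup D) (hprim : IsPrimitiveUnderConj D) {d₀ : G}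
    (hd₀ : d₀ ∈ D) (h2 : pCore 2 ↥(closure (perp D d₀)) ≤ center ↥(closure (perp D d₀))) (h : IsOfTypeM23 G D)
    {a b c : G} (ha : a ∈ D) (hb : b ∈ perp D a) (hc : c ∈ perp D a) (hbc : b ≠ c) (hcomm : Commute b c) :
    ∃ g : G, Commute g a ∧ g * b * g⁻¹ = c ∧ g * c * g⁻¹ = b := by
  haveI : Fact (Nat.Prime 2) := ⟨Nat.prime_two⟩
  obtain ⟨hcls, hT, -⟩ := six_noRel hG hprim hd₀ h2 (Or.inl h)
  obtain ⟨-, d, hd, -, -, -, hX, -⟩ := h
  have hconj : ∀ g : G, ∀ x ∈ D, g * x * g⁻¹ ∈ D := fun g x hx => conj_mem hcls g hx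
  obtain ⟨k, hk⟩ := exists_conj hcls ha hd
  have hb' : k * b * k⁻¹ ∈ perp D d := hk ▸ conj_image_perp hcls k a ▸ ⟨b, hb, rfl⟩
  have hc' : k * c * k⁻¹ ∈ perp D d := hk ▸ conj_image_perp hcls k a ▸ ⟨c, hc, rfl⟩
  have hR : Rich D := ⟨hcls, hprim, a, ha, b, hb.1, hb.2.1.symm, hb.2.2⟩
  have hperp : IsThreeTranspositionClass {x : ↥(closure (perp D d)) | (x : G) ∈ perp D d} := by
    refine ⟨⟨fun x hx => ?_, fun x hx y hy => ?_⟩, ⟨⟨_, subset_closure hb'⟩, hb', ?_⟩, closure_perp_eq_top d⟩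
    · rw [← Subgroup.orderOf_coe]; exact hcls.1.1 _ hx.1
    · rcases hcls.1.2 _ hx.1 _ hy.1 with h' | h'
      · exact Or.inl (Subtype.ext (by simpa using h'))
      · exact Or.inr (Subtype.ext (by simpa using h'))
    ext x
    constructor
    · intro hx
      obtain ⟨g, hg, hgx⟩ := hR.perp_transitive hd hb' hx
      exact isConj_iff.2 ⟨⟨g, hg⟩, Subtype.ext hgx⟩
    · intro hx
      obtain ⟨g, rfl⟩ := isConj_iff.1 hx
      simpa using conj_mem_perp hconj g.2 hb'
  obtain ⟨hclsX, hTX⟩ := descSet_twinFree hcls hT hd hperp (pCore_le_center_conj hcls hd₀ hd h2)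
  set B : ↥(closure (perp D d)) := ⟨_, subset_closure hb'⟩ with hB
  set C : ↥(closure (perp D d)) := ⟨_, subset_closure hc'⟩ with hC
  have hnc : ∀ x : ↥(closure (perp D d)), (x : G) ∈ perp D d → x ∉ center ↥(closure (perp D d)) :=
    fun x hx => not_mem_center_of_twinFree hcls hT hd hx
  have hBC : Commute (B : ↥(closure (perp D d)) ⧸ center ↥(closure (perp D d))) C := by
    refine Commute.map ?_ (QuotientGroup.mk' _)
    exact Subtype.ext ((conj_commute_iff k b c).2 hcomm).eq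
  obtain ⟨q, hq1, hq2⟩ := m22_pair_swap hclsX hTX hX
    (show (B : ↥(closure (perp D d)) ⧸ center ↥(closure (perp D d))) ∈ descSet D d from ⟨B, hb', rfl⟩)
    (show (C : ↥(closure (perp D d)) ⧸ center ↥(closure (perp D d))) ∈ descSet D d from ⟨C, hc', rfl⟩)
    (fun e => hbc (mul_left_cancel (mul_right_cancel (congrArg Subtype.val (mk_injOn hcls.1 hconj hb' hc' (hnc B hb') e)))))
    hBC
  obtain ⟨q, rfl⟩ := QuotientGroup.mk_surjective q
  have lift : ∀ X Y : ↥(closure (perp D d)), (X : G) ∈ perp D d → (Y : G) ∈ perp D d →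
      ((q * X * q⁻¹ : ↥(closure (perp D d))) : ↥(closure (perp D d)) ⧸ center ↥(closure (perp D d))) = Y →
      (q : G) * (X : G) * (q : G)⁻¹ = (Y : G) := by
    intro X Y hX' hY' e
    have hm : ((q * X * q⁻¹ : ↥(closure (perp D d))) : G) ∈ perp D d := by
      simpa using conj_mem_perp hconj q.2 hX'
    simpa using congrArg Subtype.val (mk_injOn hcls.1 hconj hm hY' (hnc _ hm) e)
  have e1 := lift B C hb' hc' (by simpa using hq1)
  have e2 := lift C B hc' hb' (by simpa using hq2)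
  refine ⟨k⁻¹ * q * k, ?_, ?_, ?_⟩
  · have := (closure_perp_commute q.2).map (MulAut.conj k⁻¹)
    rw [show MulAut.conj k⁻¹ d = a by rw [← hk]; simp [mul_assoc]] at this
    simpa [mul_assoc] using this
  · rw [show k⁻¹ * (q : G) * k * b * (k⁻¹ * (q : G) * k)⁻¹ = k⁻¹ * ((q : G) * (k * b * k⁻¹) * (q : G)⁻¹) * k by group]
    show k⁻¹ * ((q : G) * (B : G) * (q : G)⁻¹) * k = c
    rw [e1, hC]; group
  · rw [show k⁻¹ * (q : G) * k * c * (k⁻¹ * (q : G) * k)⁻¹ = k⁻¹ * ((q : G) * (k * c * k⁻¹) * (q : G)⁻¹) * k by group]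
    show k⁻¹ * ((q : G) * (C : G) * (q : G)⁻¹) * k = b
    rw [e2, hB]; group

theorem fin3_third : ∀ i k l m : Fin 3, i ≠ k → l ≠ i → l ≠ k → ¬ m = i → ¬ m = k → m = l := by decide

/-- The centraliser of a product of three commuting members induces the symmetric group on them. -/
theorem triple_quotient [Finite G] (hcls : IsThreeTranspositionClass D) (f : Fin 3 → G) (hf : Function.Injective f)
    (hmem : ∀ i, f i ∈ D) (hcomm : ∀ i k, Commute (f i) (f k))
    (hno : ∀ i, 0 < i → i ≤ 3 → NoRel D (i + i))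
    (hswap : ∀ i k : Fin 3, i ≠ k → ∀ l, l ≠ i → l ≠ k →
      ∃ g : G, Commute g (f l) ∧ g * f i * g⁻¹ = f k ∧ g * f k * g⁻¹ = f i)
    (K C : Subgroup G) (hK : ∀ g : G, g ∈ K ↔ ∀ i, Commute g (f i))
    (hC : ∀ g : G, g ∈ C ↔ Commute g (f 0 * f 1 * f 2)) :
    K ≤ C ∧ ∃ _ : (K.subgroupOf C).Normal, Nonempty (↥C ⧸ K.subgroupOf C ≃* Equiv.Perm (Fin 3)) := by
  have hl : (List.ofFn f).prod = f 0 * f 1 * f 2 := by simp [List.ofFn_succ, mul_assoc]
  have hperm : ∀ c : ↥C, ∀ i, ∃ k, (c : G) * f i * (c : G)⁻¹ = f k := by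
    intro c i
    have hm := factors_unique hcls.1 3 le_rfl hno (List.ofFn f)
      (List.ofFn fun i => (c : G) * f i * (c : G)⁻¹) (by simp) (by simp) (List.nodup_ofFn.2 hf)
      (List.nodup_ofFn.2 ((MulAut.conj (c : G)).injective.comp hf))
      (by simp [List.mem_ofFn, hmem]) (by
        intro a ha
        obtain ⟨i, rfl⟩ := List.mem_ofFn.1 ha
        exact conj_mem hcls _ (hmem i))
      (by
        intro a ha b hb
        obtain ⟨i, rfl⟩ := List.mem_ofFn.1 ha
        obtain ⟨k, rfl⟩ := List.mem_ofFn.1 hb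
        exact hcomm i k)
      (by
        intro a ha b hb
        obtain ⟨i, rfl⟩ := List.mem_ofFn.1 ha
        obtain ⟨k, rfl⟩ := List.mem_ofFn.1 hb
        exact (conj_commute_iff _ _ _).2 (hcomm i k))
      (by
        rw [hl, show (List.ofFn fun i => (c : G) * f i * (c : G)⁻¹).prod = (c : G) * (f 0 * f 1 * f 2) * (c : G)⁻¹ by
          simp [List.ofFn_succ]; group, ((hC _).1 c.2).eq, mul_inv_cancel_right])
    obtain ⟨k, hk⟩ := List.mem_ofFn.1 ((hm ((c : G) * f i * (c : G)⁻¹)).2 (List.mem_ofFn.2 ⟨i, rfl⟩))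
    exact ⟨k, hk.symm⟩
  choose π hπ using hperm
  have hπmul : ∀ c c' i, π (c * c') i = π c (π c' i) := fun c c' i => hf (by
    rw [← hπ, ← hπ c, ← hπ c']; simp [mul_assoc])
  have hπone : ∀ i, π 1 i = i := fun i => hf (by rw [← hπ]; simp)
  let φ : ↥C →* Equiv.Perm (Fin 3) :=
    { toFun := fun c => ⟨π c, π c⁻¹, fun i => by rw [← hπmul, inv_mul_cancel, hπone],
        fun i => by rw [← hπmul, mul_inv_cancel, hπone]⟩
      map_one' := Equiv.ext hπone
      map_mul' := fun c c' => Equiv.ext (hπmul c c') }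
  have hKC : K ≤ C := fun g hg => (hC g).2 ((((hK g).1 hg 0).mul_right ((hK g).1 hg 1)).mul_right ((hK g).1 hg 2))
  have hker : φ.ker = K.subgroupOf C := by
    ext c
    rw [MonoidHom.mem_ker, mem_subgroupOf, hK]
    constructor
    · intro h i
      have e : π c i = i := Equiv.congr_fun h i
      have := hπ c i
      rw [e, mul_inv_eq_iff_eq_mul] at this
      exact this
    · intro h
      refine Equiv.ext fun i => hf ?_
      show f (π c i) = f i
      rw [← hπ, (h i).eq, mul_inv_cancel_right]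
  have hsw : ∀ i k : Fin 3, i ≠ k → Equiv.swap i k ∈ φ.range := by
    intro i k hik
    obtain ⟨l, hli, hlk⟩ : ∃ l, l ≠ i ∧ l ≠ k := by revert i k; decide
    obtain ⟨g, hgl, hgi, hgk⟩ := hswap i k hik l hli hlk
    have hg : g ∈ C := by
      rw [hC]
      have hprod : g * (f 0 * f 1 * f 2) * g⁻¹ = f 0 * f 1 * f 2 := by
        have hm : ∀ m, g * f m * g⁻¹ = f (Equiv.swap i k m) := by
          intro m
          by_cases h1 : m = i
          · subst h1; rw [Equiv.swap_apply_left, hgi]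
          by_cases h2 : m = k
          · subst h2; rw [Equiv.swap_apply_right, hgk]
          have : m = l := fin3_third i k l m hik hli hlk h1 h2
          subst this
          rw [Equiv.swap_apply_of_ne_of_ne h1 h2, hgl.eq, mul_inv_cancel_right]
        rw [show g * (f 0 * f 1 * f 2) * g⁻¹ = g * f 0 * g⁻¹ * (g * f 1 * g⁻¹) * (g * f 2 * g⁻¹) by group, hm, hm, hm]
        have p01 := (hcomm 0 1).eq
        have p02 := (hcomm 0 2).eq
        have p12 := (hcomm 1 2).eq
        fin_cases i <;> fin_cases k <;> simp at hik <;>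
          simp [Equiv.swap_apply_def, mul_assoc] <;>
          first
            | rw [← mul_assoc, p01.symm, mul_assoc]
            | rw [p12.symm]
            | rw [← mul_assoc, (hcomm 2 1).eq, mul_assoc, (hcomm 2 0).eq, ← mul_assoc, ← p01, mul_assoc]
      exact mul_inv_eq_iff_eq_mul.1 hprod
    refine ⟨⟨g, hg⟩, Equiv.ext fun m => hf ?_⟩
    show f (π ⟨g, hg⟩ m) = f (Equiv.swap i k m)
    rw [← hπ]
    by_cases h1 : m = i
    · subst h1; rw [Equiv.swap_apply_left]; exact hgi
    by_cases h2 : m = k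
    · subst h2; rw [Equiv.swap_apply_right]; exact hgk
    have : m = l := fin3_third i k l m hik hli hlk h1 h2
    subst this
    rw [Equiv.swap_apply_of_ne_of_ne h1 h2]
    show g * f m * g⁻¹ = f m
    rw [hgl.eq, mul_inv_cancel_right]
  have hsurj : Function.Surjective φ := by
    rw [← MonoidHom.range_eq_top, eq_top_iff, ← Equiv.Perm.closure_isSwap, closure_le]
    rintro _ ⟨i, k, hik, rfl⟩
    exact hsw i k hik
  have hn : (K.subgroupOf C).Normal := hker ▸ inferInstance
  exact ⟨hKC, hn, ⟨(QuotientGroup.quotientMulEquivOfEq hker.symm).trans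
    (QuotientGroup.quotientKerEquivOfSurjective φ hsurj)⟩⟩

end Cfsg.Lib.ThreeTr
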