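import Cfsg.Agent.Classical.Unitary.UThreeTwo
import Mathlib.GroupTheory.Abelianization.Defs

/-!
# The derived group of `SU₃(2)`: order dividing 54, subgroups of order 27 non-abelian
-/

set_option autoImplicit false

namespace Cfsg.Lib.SUThreeTwoDerived

open Subgroup Cfsg.Lib.Classical.UThreeTwo

theorem codes_not_comm : mmul mD mC ≠ mmul mC mD := by decide +kernel

theorem derived_facts {F : Type*} [Field F] [Fintype F] (hF : Fintype.card F = 4) :
    Nat.card ↥(commutator ↥(Cfsg.SU 3 F 2)) ∣ 54 ∧
    ∀ K : Subgroup ↥(commutator ↥(Cfsg.SU 3 F 2)), Nat.card K = 27 → ¬ ∀ a ∈ K, ∀ b ∈ K, a * b = b * a := by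
  classical
  haveI : Fact (Nat.Prime 3) := ⟨Nat.prime_three⟩
  have hF2 : Fintype.card F = 2 ^ 2 := by rw [hF]; norm_num
  set S := Cfsg.SU 3 F 2
  set Z := center S
  have hZ : Nat.card Z = 3 := (Cfsg.Lib.Classical.card_center_SU hF2 (by norm_num : 2 ≤ 3)).trans (by decide)
  have h72 : Nat.card (S ⧸ Z) = 72 := card_psu hF
  have h216 : Nat.card S = 216 := by rw [card_eq_card_quotient_mul_card_subgroup Z, hZ, h72]
  obtain ⟨N, hN, h9, -, -, ⟨e⟩⟩ := structure_thm hF
  set π := QuotientGroup.mk' Z
  let θ : S →* QuaternionGroup 2 := (e.toMonoidHom.comp (QuotientGroup.mk' N)).comp π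
  have hθ : Function.Surjective θ :=
    (e.surjective.comp (QuotientGroup.mk'_surjective N)).comp (QuotientGroup.mk'_surjective Z)
  have hQ8 : Nat.card (QuaternionGroup 2) = 8 := by rw [Nat.card_eq_fintype_card, QuaternionGroup.card]
  have hker : Nat.card θ.ker = 27 := by
    have h := θ.ker.card_mul_index
    rw [index_ker, MonoidHom.range_eq_top.mpr hθ, Subgroup.card_top, hQ8, h216] at h
    omega
  constructor
  · have hle : commutator S ≤ (zpowers (QuaternionGroup.a 2 : QuaternionGroup 2)).comap θ := by
      rw [_root_.commutator_def, commutator_le]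
      intro a _ b _
      have key : ∀ u v : QuaternionGroup 2, u * v * u⁻¹ * v⁻¹ = 1 ∨ u * v * u⁻¹ * v⁻¹ = QuaternionGroup.a 2 := by
        decide +kernel
      rw [mem_comap, commutatorElement_def]
      simp only [map_mul, map_inv]
      rcases key (θ a) (θ b) with h | h <;> rw [h]
      exacts [one_mem _, mem_zpowers _]
    refine (card_dvd_of_le hle).trans ?_
    have h := ((zpowers (QuaternionGroup.a 2 : QuaternionGroup 2)).comap θ).card_mul_index
    have h2 := (zpowers (QuaternionGroup.a 2 : QuaternionGroup 2)).card_mul_index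
    rw [index_comap_of_surjective _ hθ, h216] at h
    rw [Nat.card_zpowers, hQ8,
      show orderOf (QuaternionGroup.a 2 : QuaternionGroup 2) = 2 from
        orderOf_eq_prime (by decide) (by decide)] at h2
    rw [show (zpowers (QuaternionGroup.a 2 : QuaternionGroup 2)).index = 4 by omega] at h
    exact dvd_of_eq (by omega)
  · intro K hK hcomm
    obtain ⟨_, ω, hω⟩ := exists_omega hF
    set K' := K.map (commutator S).subtype
    have hK' : Nat.card K' = 3 ^ 3 := by
      rw [card_map_of_injective (commutator S).subtype_injective, hK]; norm_num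
    have hf : (Nat.card S).factorization 3 = 3 := by
      rw [h216, show (216 : ℕ) = 2 ^ 3 * 3 ^ 3 by norm_num, Nat.factorization_mul (by norm_num) (by norm_num),
        Nat.Prime.factorization_pow Nat.prime_two, Nat.Prime.factorization_pow Nat.prime_three]
      simp
    let P := Sylow.ofCard (p := 3) K' (by rw [hK', hf])
    let P' := Sylow.ofCard (p := 3) θ.ker (by rw [hker, hf]; norm_num)
    haveI : (P' : Subgroup S).Normal := MonoidHom.normal_ker θ
    haveI : Subsingleton (Sylow 3 S) := by
      refine ⟨fun A B => ?_⟩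
      have := Sylow.unique_of_normal P' (inferInstance : (P' : Subgroup S).Normal)
      exact (Unique.eq_default A).trans (Unique.eq_default B).symm
    have hmem : ∀ x : S, x ^ 3 = 1 → x ∈ K' := by
      intro x hx
      have hp : IsPGroup 3 (zpowers x) := by
        obtain ⟨k, -, hk⟩ := (Nat.dvd_prime_pow Nat.prime_three).mp
          (show orderOf x ∣ 3 ^ 1 by rw [pow_one]; exact orderOf_dvd_of_pow_eq_one hx)
        exact IsPGroup.of_card (n := k) (by rw [Nat.card_zpowers, hk])
      obtain ⟨A, hA⟩ := hp.exists_le_sylow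
      have : A = P := Subsingleton.elim _ _
      have hx' := hA (mem_zpowers x)
      rw [this] at hx'
      exact hx'
    have hpow : ∀ (X : Code) (hX : Good X), mmul (mmul X X) X = scal 1 → el hω X hX ^ 3 = 1 := by
      intro X hX h3
      refine Subtype.ext (Subtype.ext ?_)
      show (X.map (ev ω)) ^ 3 = 1
      rw [pow_succ, pow_two, ← map_mmul hω, ← map_mmul hω, h3, map_scal_one hω]
    obtain ⟨a, ha, hae⟩ := hmem _ (hpow mD mD_good (by decide +kernel))
    obtain ⟨b, hb, hbe⟩ := hmem _ (hpow mC mC_good (by decide +kernel))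
    have h1 : el hω mD mD_good * el hω mC mC_good = el hω mC mC_good * el hω mD mD_good := by
      rw [← hae, ← hbe, ← map_mul, ← map_mul, hcomm a ha b hb]
    have h2 : mD.map (ev ω) * mC.map (ev ω) = mC.map (ev ω) * mD.map (ev ω) :=
      congrArg (fun g : S => ((g : Matrix.SpecialLinearGroup (Fin 3) F) : Matrix (Fin 3) (Fin 3) F)) h1
    rw [← map_mmul hω, ← map_mmul hω] at h2
    exact codes_not_comm (Matrix.map_injective (ev_injective hω) h2)

end Cfsg.Lib.SUThreeTwoDerived
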