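import Cfsg.Prelude.Def_SporadicB
import Cfsg.Agent.Components.Cores
import Mathlib.GroupTheory.Sylow
import Mathlib.GroupTheory.Complement

/-!
# Splitting over the two-radical when the quotient has order dividing 54

The transpositions over one coset generate an abelian normal subgroup of the radical; three of them make
the radical of class two, and then a Sylow 3-subgroup has no fixed points on it.
-/

set_option autoImplicit false

namespace Cfsg.Lib.SplitRadical

open Subgroup

variable {G : Type*} [Group G]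

theorem eq_zpowers_of_conj_generate [Finite G] {p : ℕ} [Fact p.Prime] (hG : IsPGroup p G) (x : G)
    (h : closure (conjugatesOf x) = ⊤) : zpowers x = ⊤ := by
  haveI := hG.isNilpotent
  rcases IsCoatomic.eq_top_or_exists_le_coatom (zpowers x) with h' | ⟨M, hM, hle⟩
  · exact h'
  · haveI : M.Normal := Subgroup.NormalizerCondition.normal_of_coatom M normalizerCondition_of_isNilpotent hM
    refine absurd (top_le_iff.mp ?_) hM.1
    rw [← h, closure_le]
    intro y hy
    obtain ⟨g, rfl⟩ := isConj_iff.mp hy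
    exact Subgroup.Normal.conj_mem inferInstance x (hle (mem_zpowers x)) g

/-- The transpositions in the coset of one of them give a subgroup of the radical. -/
def blockSub (Q : Subgroup G) (x : G) : Subgroup G := closure {c | ∃ q ∈ Q, x * (q * x * q⁻¹) = c}

section

variable [Finite G] {D : Set G} (hD : IsThreeTranspositionClass D) {Q : Subgroup G} [hQn : Q.Normal]
  (hQ : IsPGroup 2 Q)

include hD

theorem sq_one {d : G} (hd : d ∈ D) : d * d = 1 := by
  have := pow_orderOf_eq_one d
  rwa [hD.1.1 d hd, pow_two] at this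

theorem inv_self {d : G} (hd : d ∈ D) : d⁻¹ = d := inv_eq_of_mul_eq_one_left (sq_one hD hd)

theorem conj_mem_class {d : G} (hd : d ∈ D) (g : G) : g * d * g⁻¹ ∈ D := by
  obtain ⟨a, ha, hDa⟩ := hD.2.1
  rw [hDa] at hd ⊢
  exact IsConj.trans hd (isConj_iff.mpr ⟨g, rfl⟩)

include hQ in
theorem commute_of_mul_mem {u v : G} (hu : u ∈ D) (hv : v ∈ D) (h : u * v ∈ Q) : Commute u v := by
  rcases hD.1.2 u hu v hv with h2 | h3
  · have : u * v = (u * v)⁻¹ := by rw [eq_inv_iff_mul_eq_one, ← pow_two]; exact h2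
    rwa [mul_inv_rev, inv_self hD hu, inv_self hD hv] at this
  · obtain ⟨n, hn⟩ := hQ ⟨u * v, h⟩
    have hn' : (u * v) ^ 2 ^ n = 1 := congrArg Subtype.val hn
    have h1 : orderOf (u * v) = 1 := Nat.eq_one_of_dvd_coprimes
      (Nat.Coprime.pow_right n (by norm_num : Nat.Coprime 3 2)) (orderOf_dvd_of_pow_eq_one h3)
      (orderOf_dvd_of_pow_eq_one hn')
    have : u = v := by
      rw [← inv_self hD hv]; exact eq_inv_of_mul_eq_one_left (orderOf_eq_one_iff.mp h1)
    exact this ▸ Commute.refl u

omit hD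

theorem mul_conj_mem {x q : G} (hx : x * x = 1) (hq : q ∈ Q) : x * (q * x * q⁻¹) ∈ Q := by
  have h1 : x * q * x⁻¹ ∈ Q := hQn.conj_mem q hq x
  rw [inv_eq_of_mul_eq_one_left hx] at h1
  simpa [mul_assoc] using mul_mem h1 (inv_mem hq)

include hD

theorem blockSub_le {x : G} (hx : x ∈ D) : blockSub Q x ≤ Q :=
  (closure_le Q).mpr fun c ⟨_, hq, e⟩ => e ▸ mul_conj_mem (sq_one hD hx) hq

include hQ

theorem commute_base {x q : G} (hx : x ∈ D) (hq : q ∈ Q) : Commute x (q * x * q⁻¹) :=
  commute_of_mul_mem hD hQ hx (conj_mem_class hD hx q) (mul_conj_mem (sq_one hD hx) hq)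

theorem commute_conj {x q r : G} (hx : x ∈ D) (hq : q ∈ Q) (hr : r ∈ Q) :
    Commute (q * x * q⁻¹) (r * x * r⁻¹) := by
  refine commute_of_mul_mem hD hQ (conj_mem_class hD hx q) (conj_mem_class hD hx r) ?_
  have h := mul_mem (inv_mem (mul_conj_mem (sq_one hD hx) hq)) (mul_conj_mem (sq_one hD hx) hr)
  rwa [mul_inv_rev, inv_self hD hx, inv_self hD (conj_mem_class hD hx q), mul_assoc (q * x * q⁻¹),
    ← mul_assoc x x, sq_one hD hx, one_mul] at h

theorem blockSub_centralizes {x c : G} (hx : x ∈ D) (hc : c ∈ blockSub Q x) : Commute x c := by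
  induction hc using closure_induction with
  | mem _ h => obtain ⟨q, hq, rfl⟩ := h; exact (Commute.refl x).mul_right (commute_base hD hQ hx hq)
  | one => exact Commute.one_right x
  | mul _ _ _ _ a b => exact a.mul_right b
  | inv _ _ a => exact a.inv_right

theorem blockSub_comm {x a b : G} (hx : x ∈ D) (ha : a ∈ blockSub Q x) (hb : b ∈ blockSub Q x) : Commute a b := by
  have key : ∀ q ∈ Q, ∀ r ∈ Q, Commute (x * (q * x * q⁻¹)) (x * (r * x * r⁻¹)) := fun q hq r hr =>
    ((Commute.refl x).mul_left (commute_base hD hQ hx hq).symm).mul_right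
      ((commute_base hD hQ hx hr).mul_left (commute_conj hD hQ hx hq hr))
  induction ha using closure_induction with
  | mem _ h =>
    obtain ⟨q, hq, rfl⟩ := h
    induction hb using closure_induction with
    | mem _ h => obtain ⟨r, hr, rfl⟩ := h; exact key q hq r hr
    | one => exact Commute.one_right _
    | mul _ _ _ _ a b => exact a.mul_right b
    | inv _ _ a => exact a.inv_right
  | one => exact Commute.one_left _
  | mul _ _ _ _ a b => exact a.mul_left b
  | inv _ _ a => exact a.inv_left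

theorem blockSub_conj {x c g : G} (hx : x ∈ D) (hg : g ∈ Q) (hc : c ∈ blockSub Q x) :
    g * c * g⁻¹ ∈ blockSub Q x := by
  induction hc using closure_induction with
  | mem _ h =>
    obtain ⟨q, hq, rfl⟩ := h
    have h1 : x * (g * x * g⁻¹) ∈ blockSub Q x := subset_closure ⟨g, hg, rfl⟩
    have h2 : x * (g * q * x * (g * q)⁻¹) ∈ blockSub Q x := subset_closure ⟨g * q, mul_mem hg hq, rfl⟩
    have h3 := mul_mem (inv_mem h1) h2
    rw [mul_inv_rev, inv_self hD hx, inv_self hD (conj_mem_class hD hx g), mul_assoc (g * x * g⁻¹),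
      ← mul_assoc x x, sq_one hD hx, one_mul] at h3
    simpa [mul_assoc] using h3
  | one => simp
  | mul a b _ _ ha hb => simpa [mul_assoc] using mul_mem ha hb
  | inv a _ ha => simpa [mul_assoc] using inv_mem ha

end

theorem center_of_fixed {s : Set G} (hs : closure s = ⊤) {z : G} (h : ∀ x ∈ s, Commute x z) : z ∈ center G := by
  rw [mem_center_iff]
  intro g
  have : g ∈ closure s := hs ▸ mem_top g
  induction this using closure_induction with
  | mem x hx => exact h x hx
  | one => simp
  | mul a b _ _ ha hb => exact (Commute.mul_left ha hb)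
  | inv a _ ha => exact Commute.inv_left ha

theorem normalizer_eq_top_of_gens [Finite G] (M : Subgroup G) {s : Set G} (hs : closure s = ⊤)
    (h : ∀ x ∈ s, ∀ a ∈ M, x * a * x⁻¹ ∈ M) : M.Normal := by
  rw [← normalizer_eq_top_iff, eq_top_iff, ← hs, closure_le]
  exact fun x hx => Subgroup.mem_normalizer_fintype fun a ha => h x hx a ha

theorem splits [Finite G] {D : Set G} (hD : IsThreeTranspositionClass D) (hZ : center G = ⊥)
    (Q : Subgroup G) [hQn : Q.Normal] (hQ : IsPGroup 2 Q)
    (h54 : Nat.card (G ⧸ Q) ∣ 54)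
    (h27 : ∀ K : Subgroup (G ⧸ Q), Nat.card K = 27 → ¬ ∀ a ∈ K, ∀ b ∈ K, a * b = b * a) :
    ∃ K : Subgroup G, Q.IsComplement' K := by
  classical
  haveI : Fact (Nat.Prime 2) := ⟨Nat.prime_two⟩
  haveI : Fact (Nat.Prime 3) := ⟨Nat.prime_three⟩
  by_cases hbot : Q = ⊤
  · exact ⟨⊥, hbot ▸ isComplement'_top_bot⟩
  set π := QuotientGroup.mk' Q with hπ
  obtain ⟨d, hd, hDd⟩ := hD.2.1
  have hgen : closure (π '' D) = ⊤ := by
    rw [← MonoidHom.map_closure, hD.2.2, map_top_of_surjective π (QuotientGroup.mk'_surjective Q)]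
  have hne : ∀ x ∈ D, π x ≠ 1 := by
    intro x hx h1
    refine hbot (top_le_iff.mp ?_)
    rw [← hD.2.2, closure_le]
    intro y hy
    rw [hDd] at hx hy
    obtain ⟨g, rfl⟩ := isConj_iff.mp (IsConj.trans (IsConj.symm hx) hy)
    exact hQn.conj_mem x ((QuotientGroup.eq_one_iff x).mp h1) g
  have hinv : ∀ x ∈ D, orderOf (π x) = 2 := fun x hx =>
    orderOf_eq_prime (by rw [← map_pow, pow_two, sq_one hD hx, map_one]) (hne x hx)
  -- the Sylow three-subgroup of the quotient has index two
  let P₀ : Sylow 3 (G ⧸ Q) := default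
  have hP₀ : Nat.card (P₀ : Subgroup (G ⧸ Q)) ∣ 27 := by
    obtain ⟨k, hk⟩ := (IsPGroup.iff_card.mp P₀.2)
    rw [hk]
    have h : 3 ^ k ∣ 54 := hk ▸ (card_subgroup_dvd_card _).trans h54
    have hk4 : k < 4 := by
      by_contra hge
      have : 81 ∣ 54 := (pow_dvd_pow 3 (not_lt.mp hge)).trans h
      omega
    exact pow_dvd_pow 3 (show k ≤ 3 by omega)
  have hindex : (P₀ : Subgroup (G ⧸ Q)).index = 2 := by
    have h1 : (P₀ : Subgroup (G ⧸ Q)).index ∣ 54 := (index_dvd_card _).trans h54
    have h2 := P₀.not_dvd_index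
    have h3 : (P₀ : Subgroup (G ⧸ Q)).index ∣ 2 := by
      have hco : Nat.Coprime (P₀ : Subgroup (G ⧸ Q)).index 27 := by
        rw [show (27 : ℕ) = 3 ^ 3 by norm_num]
        exact Nat.Coprime.pow_right 3 (((Nat.Prime.coprime_iff_not_dvd Nat.prime_three).mpr h2).symm)
      exact hco.dvd_of_dvd_mul_right (show (P₀ : Subgroup (G ⧸ Q)).index ∣ 2 * 27 from h1)
    rcases (Nat.dvd_prime Nat.prime_two).mp h3 with h | h
    · exfalso
      have h2' : 2 ∣ Nat.card (P₀ : Subgroup (G ⧸ Q)) := by
        rw [← mul_one (Nat.card (P₀ : Subgroup (G ⧸ Q))), ← h, card_mul_index, ← hinv d hd]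
        exact orderOf_dvd_natCard _
      exact absurd (h2'.trans hP₀) (by norm_num)
    · exact h
  haveI hP₀n : (P₀ : Subgroup (G ⧸ Q)).Normal := normal_of_index_eq_two hindex
  have hout : ∀ x ∈ D, π x ∉ (P₀ : Subgroup (G ⧸ Q)) := fun x hx h => by
    have h2 : 2 ∣ Nat.card (P₀ : Subgroup (G ⧸ Q)) := hinv x hx ▸ orderOf_dvd_natCard _ h
    exact absurd (h2.trans hP₀) (by norm_num)
  -- three transpositions generate modulo the radical
  have hprod : ∀ x ∈ D, π d * π x ∈ (P₀ : Subgroup (G ⧸ Q)) := fun x hx =>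
    (mul_mem_iff_of_index_two hindex).mpr (iff_of_false (hout d hd) (hout x hx))
  obtain ⟨e, he, f, hf, h3⟩ : ∃ e ∈ D, ∃ f ∈ D, closure ({π d, π e, π f} : Set (G ⧸ Q)) = ⊤ := by
    suffices ∃ e ∈ D, ∃ f ∈ D, ∀ x ∈ D, π d * π x ∈ closure ({π d * π e, π d * π f} : Set (G ⧸ Q)) by
      obtain ⟨e, he, f, hf, h⟩ := this
      refine ⟨e, he, f, hf, top_le_iff.mp ?_⟩
      rw [← hgen, closure_le]
      rintro _ ⟨x, hx, rfl⟩
      have hd' : π d ∈ closure ({π d, π e, π f} : Set (G ⧸ Q)) := subset_closure (by simp)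
      have hle : closure ({π d * π e, π d * π f} : Set (G ⧸ Q)) ≤ closure {π d, π e, π f} := by
        rw [closure_le]
        rintro _ (rfl | rfl) <;> exact mul_mem hd' (subset_closure (by simp))
      have := mul_mem (inv_mem hd') (hle (h x hx))
      rwa [inv_mul_cancel_left] at this
    by_cases h1 : ∀ x ∈ D, ∀ y ∈ D, π d * π y * (π d * π x) = π d * π x * (π d * π y)
    · -- the abelian case
      obtain ⟨e, he, hne'⟩ : ∃ e ∈ D, π d * π e ≠ 1 ∨ ∀ x ∈ D, π d * π x = 1 := by
        by_cases h : ∀ x ∈ D, π d * π x = 1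
        · exact ⟨d, hd, Or.inr h⟩
        · simp only [not_forall] at h
          obtain ⟨e, he, h⟩ := h
          exact ⟨e, he, Or.inl h⟩
      rcases hne' with hne' | hall
      · by_cases h2 : ∀ x ∈ D, π d * π x ∈ closure ({π d * π e} : Set (G ⧸ Q))
        · exact ⟨e, he, e, he, fun x hx => closure_mono (by simp) (h2 x hx)⟩
        simp only [not_forall] at h2
        obtain ⟨f, hf, hfe⟩ := h2
        refine ⟨e, he, f, hf, fun x hx => ?_⟩
        by_contra hxc
        set R := closure ({π d * π e, π d * π f} : Set (G ⧸ Q))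
        set L := closure ({π d * π e} : Set (G ⧸ Q))
        set S := closure (insert (π d * π x) ({π d * π e, π d * π f} : Set (G ⧸ Q)))
        have hSP : S ≤ (P₀ : Subgroup (G ⧸ Q)) := by
          rw [closure_le]; rintro _ (rfl | rfl | rfl) <;> first | exact hprod x hx | exact hprod e he | exact hprod f hf
        have hcomm : ∀ a ∈ S, ∀ b ∈ S, a * b = b * a := by
          have hgc : ∀ u ∈ insert (π d * π x) ({π d * π e, π d * π f} : Set (G ⧸ Q)),
              ∀ v ∈ insert (π d * π x) ({π d * π e, π d * π f} : Set (G ⧸ Q)), v * u = u * v := by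
            rintro _ (rfl | rfl | rfl) _ (rfl | rfl | rfl) <;> apply h1 <;> assumption
          intro a ha b hb
          induction ha using closure_induction with
          | mem u hu =>
            induction hb using closure_induction with
            | mem v hv => exact (hgc u hu v hv).symm
            | one => simp
            | mul v w _ _ hv hw => exact (Commute.mul_right hv hw)
            | inv v _ hv => exact Commute.inv_right hv
          | one => simp
          | mul u v _ _ hu hv => exact (Commute.mul_left hu hv)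
          | inv u _ hu => exact Commute.inv_left hu
        have hLR : L < R := lt_of_le_of_ne (closure_mono (by simp)) fun h =>
          hfe (h ▸ (subset_closure (by simp) : π d * π f ∈ R))
        have hRS : R < S := lt_of_le_of_ne (closure_mono (Set.subset_insert _ _)) fun h =>
          hxc (h ▸ (subset_closure (by simp) : π d * π x ∈ S))
        have hS27 : Nat.card S ∣ 27 := (card_dvd_of_le hSP).trans hP₀
        have hR27 : Nat.card R ∣ Nat.card S := card_dvd_of_le hRS.le
        have hL27 : Nat.card L ∣ Nat.card R := card_dvd_of_le hLR.le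
        have hlt : ∀ {A B : Subgroup (G ⧸ Q)}, A < B → Nat.card A < Nat.card B := fun {A B} h =>
          lt_of_le_of_ne (card_le_of_le h.le) fun e => h.ne (eq_of_le_of_card_ge h.le e.ge)
        have hL1 : 1 < Nat.card L := by
          have : (⊥ : Subgroup (G ⧸ Q)) < L := bot_lt_iff_ne_bot.mpr fun h => hne' ((closure_eq_bot_iff).mp h rfl)
          simpa using hlt this
        have a1 := hlt hLR
        have a2 := hlt hRS
        have cases27 : ∀ n, n ∣ 27 → n = 1 ∨ n = 3 ∨ n = 9 ∨ n = 27 := fun n hn => by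
          have := Nat.mem_divisors.mpr ⟨hn, (by norm_num : (27 : ℕ) ≠ 0)⟩
          rw [show Nat.divisors 27 = {1, 3, 9, 27} by decide] at this
          simpa using this
        have c1 := cases27 _ (hL27.trans (hR27.trans hS27))
        have c2 := cases27 _ (hR27.trans hS27)
        have c3 := cases27 _ hS27
        exact h27 S (by omega) hcomm
      · exact ⟨d, hd, d, hd, fun x hx => by rw [hall x hx]; exact one_mem _⟩
    · simp only [not_forall] at h1
      obtain ⟨e, he, f, hf, hnc⟩ := h1
      refine ⟨e, he, f, hf, fun x hx => ?_⟩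
      set R := closure ({π d * π e, π d * π f} : Set (G ⧸ Q))
      have hRP : R ≤ (P₀ : Subgroup (G ⧸ Q)) := by
        rw [closure_le]; rintro _ (rfl | rfl)
        exacts [hprod e he, hprod f hf]
      have hR : Nat.card R = 27 := by
        have h := (card_dvd_of_le hRP).trans hP₀
        by_contra hne27
        refine hnc ?_
        have h9 : Nat.card R ∣ 3 ^ 2 := by
          have := Nat.mem_divisors.mpr ⟨h, (by norm_num : (27 : ℕ) ≠ 0)⟩
          rw [show Nat.divisors 27 = {1, 3, 9, 27} by decide] at this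
          simp only [Finset.mem_insert, Finset.mem_singleton] at this
          rcases this with h' | h' | h' | h' <;> simp [h'] at hne27 ⊢
        obtain ⟨k, hk, hk'⟩ := (Nat.dvd_prime_pow Nat.prime_three).mp h9
        have hcomm : ∀ a b : R, a * b = b * a := by
          rcases (show k = 0 ∨ k = 1 ∨ k = 2 by omega) with rfl | rfl | rfl
          · have : Subsingleton R := (Nat.card_eq_one_iff_unique.mp hk').1
            exact fun a b => Subsingleton.elim _ _
          · haveI : IsCyclic R := isCyclic_of_prime_card (p := 3) hk'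
            exact fun a b => (IsCyclic.isMulCommutative (α := R)).is_comm.comm a b
          · exact IsPGroup.commutative_of_card_eq_prime_sq hk'
        exact (congrArg Subtype.val (hcomm ⟨_, subset_closure (by simp)⟩ ⟨_, subset_closure (by simp)⟩) :
          π d * π f * (π d * π e) = π d * π e * (π d * π f))
      have : R = (P₀ : Subgroup (G ⧸ Q)) := eq_of_le_of_card_ge hRP (hR ▸ Nat.le_of_dvd (by norm_num) hP₀)
      exact this ▸ hprod x hx
  -- the preimage of the Sylow subgroup
  set H := (P₀ : Subgroup (G ⧸ Q)).comap π with hH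
  haveI hHn : H.Normal := hP₀n.comap _
  have hHi : H.index = 2 := by rw [hH, index_comap_of_surjective _ (QuotientGroup.mk'_surjective Q), hindex]
  have hQH : Q ≤ H := fun q hq => by
    rw [hH, mem_comap, hπ, QuotientGroup.mk'_apply, (QuotientGroup.eq_one_iff q).mpr hq]; exact one_mem _
  let P₁ : Sylow 3 H := default
  set P : Subgroup G := (P₁ : Subgroup H).map H.subtype with hP
  set N := normalizer (P : Set G) with hN
  have hfrat : N ⊔ H = ⊤ := Sylow.normalizer_sup_eq_top P₁
  have hPp : IsPGroup 3 P := P₁.2.map _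
  have hQP : Disjoint Q P := IsPGroup.disjoint_of_ne 2 3 (by norm_num) _ _ hQ hPp
  have hPH : P ≤ H := map_subtype_le _
  have hcard : Nat.card H = Nat.card (P₀ : Subgroup (G ⧸ Q)) * Nat.card Q := by
    have h1 := card_eq_card_quotient_mul_card_subgroup Q
    have h2 := H.card_mul_index
    have h3 := (P₀ : Subgroup (G ⧸ Q)).card_mul_index
    rw [hHi] at h2; rw [hindex] at h3
    nlinarith
  have hPc : Nat.card (P₀ : Subgroup (G ⧸ Q)) ∣ Nat.card P := by
    obtain ⟨k, hk⟩ := IsPGroup.iff_card.mp P₀.2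
    rw [hk, hP, card_map_of_injective H.subtype_injective, P₁.card_eq_multiplicity]
    exact pow_dvd_pow 3 ((Nat.prime_three.pow_dvd_iff_le_factorization Nat.card_pos.ne').mp
      (by rw [hcard, hk]; exact dvd_mul_right _ _))
  have hHQP : H ≤ Q ⊔ P := by
    have hle : Q ⊔ P ≤ H := sup_le hQH hPH
    refine (eq_of_le_of_card_ge hle ?_).ge
    have : Nat.card H ∣ Nat.card ↑(Q ⊔ P) := by
      rw [hcard]
      refine Nat.Coprime.mul_dvd_of_dvd_of_dvd ?_ (hPc.trans (card_dvd_of_le le_sup_right)) (card_dvd_of_le le_sup_left)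
      obtain ⟨k, hk⟩ := IsPGroup.iff_card.mp P₀.2
      obtain ⟨l, hl⟩ := IsPGroup.iff_card.mp hQ
      rw [hk, hl]
      exact Nat.Coprime.pow _ _ (by norm_num)
    exact Nat.le_of_dvd Nat.card_pos this
  have htop : N ⊔ Q = ⊤ := top_le_iff.mp (hfrat ▸ sup_le le_sup_left
    (hHQP.trans (sup_le le_sup_right (le_normalizer.trans le_sup_left))))
  -- no proper normal subgroup of the radical has quotient centralised by the Sylow subgroup
  have key : ∀ T : Subgroup G, T.Normal → T ≤ Q → (∀ q ∈ Q, ∀ p ∈ P, q * p * q⁻¹ * p⁻¹ ∈ T) → Q ≤ T := by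
    intro T hT hTQ hcom
    set W := T ⊔ P
    haveI hW : W.Normal := by
      have hWQ : Q ≤ normalizer (W : Set G) := fun q hq => Subgroup.mem_normalizer_fintype fun a ha => by
        refine (sup_le (a := T) (b := P) (c := W.comap (MulAut.conj q).toMonoidHom) ?_ ?_) ha
        · exact fun t ht => mem_sup_left (hT.conj_mem t ht q)
        · intro p hp
          show q * p * q⁻¹ ∈ W
          have := mul_mem (mem_sup_left (hcom q hq p hp) : q * p * q⁻¹ * p⁻¹ ∈ W) (mem_sup_right hp)
          rwa [inv_mul_cancel_right] at this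
      have hWN : N ≤ normalizer (W : Set G) := fun g hg => Subgroup.mem_normalizer_fintype fun a ha => by
        refine (sup_le (a := T) (b := P) (c := W.comap (MulAut.conj g).toMonoidHom) ?_ ?_) ha
        · exact fun t ht => mem_sup_left (hT.conj_mem t ht g)
        · exact fun p hp => mem_sup_right ((mem_normalizer_iff.mp hg p).mp hp)
      exact normalizer_eq_top_iff.mp (top_le_iff.mp (htop ▸ sup_le hWN hWQ))
    have hWH : W ≤ H := sup_le (hTQ.trans hQH) hPH
    have h2 : IsPGroup 2 (G ⧸ W) := by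
      have hdvd : W.index ∣ 2 * Nat.card Q := by
        have hPW : Nat.card P ∣ Nat.card W := card_dvd_of_le le_sup_right
        have h1 : Nat.card H ∣ Nat.card Q * Nat.card P := by
          rw [hcard, mul_comm]; exact Nat.mul_dvd_mul_left _ hPc
        obtain ⟨c, hc⟩ := hPW
        have h4 := W.card_mul_index
        have h5 := H.card_mul_index
        rw [hHi] at h5
        have h6 : Nat.card P * (c * W.index) ∣ Nat.card P * (2 * Nat.card Q) := by
          rw [← mul_assoc, ← hc, h4, ← h5]
          calc Nat.card H * 2 ∣ Nat.card Q * Nat.card P * 2 := Nat.mul_dvd_mul_right h1 2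
            _ = Nat.card P * (2 * Nat.card Q) := by ring
        exact (dvd_mul_left _ _).trans (Nat.dvd_of_mul_dvd_mul_left Nat.card_pos h6)
      obtain ⟨l, hl⟩ := IsPGroup.iff_card.mp hQ
      rw [hl, ← pow_succ'] at hdvd
      obtain ⟨m, -, hm⟩ := (Nat.dvd_prime_pow Nat.prime_two).mp hdvd
      exact IsPGroup.of_card (n := m) hm
    have hcl : closure (conjugatesOf (QuotientGroup.mk' W d)) = ⊤ := by
      rw [← top_le_iff, ← map_top_of_surjective (QuotientGroup.mk' W) (QuotientGroup.mk'_surjective W), ← hD.2.2,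
        MonoidHom.map_closure, closure_le]
      rintro _ ⟨x, hx, rfl⟩
      rw [hDd] at hx
      exact subset_closure ((QuotientGroup.mk' W).map_isConj hx)
    have hz := eq_zpowers_of_conj_generate h2 _ hcl
    have hidx : W.index ∣ 2 := by
      rw [Subgroup.index, ← card_top (G := G ⧸ W), ← hz, Nat.card_zpowers]
      exact orderOf_dvd_of_pow_eq_one (by rw [← map_pow, pow_two, sq_one hD hd, map_one])
    have hWeq : W = H := by
      refine eq_of_le_of_card_ge hWH ?_
      have h4 := W.card_mul_index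
      have h5 := H.card_mul_index
      have h6 := Nat.le_of_dvd two_pos hidx
      rw [hHi] at h5
      have := Nat.mul_le_mul_left (Nat.card W) h6
      omega
    intro q hq
    have hqW : q ∈ (↑(T ⊔ P) : Set G) := (show T ⊔ P = H from hWeq).ge (hQH hq)
    rw [normal_mul T P] at hqW
    obtain ⟨t, ht, p, hp, rfl⟩ := hqW
    have hpQ : p ∈ Q := by
      have := mul_mem (inv_mem (hTQ ht)) hq
      rwa [inv_mul_cancel_left] at this
    beta_reduce
    rw [disjoint_def.mp hQP hpQ hp, mul_one]
    exact ht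
  -- the radical is the product of the three blocks
  set A := blockSub Q d
  set B := blockSub Q e
  set C := blockSub Q f
  set M := A ⊔ B ⊔ C
  have hgenG : closure (({d, e, f} : Set G) ∪ Q) = ⊤ := by
    rw [Subgroup.closure_union, closure_eq, ← top_le_iff]
    intro g _
    have : π g ∈ closure ({π d, π e, π f} : Set (G ⧸ Q)) := h3 ▸ mem_top _
    rw [show ({π d, π e, π f} : Set (G ⧸ Q)) = π '' {d, e, f} by simp [Set.image_insert_eq],
      ← MonoidHom.map_closure] at this
    obtain ⟨y, hy, hye⟩ := this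
    have : y⁻¹ * g ∈ Q := QuotientGroup.eq.mp hye
    simpa using mul_mem (mem_sup_left hy) (mem_sup_right this : y⁻¹ * g ∈ closure ({d, e, f} : Set G) ⊔ Q)
  have hMQ : M ≤ Q := sup_le (sup_le (blockSub_le hD hd) (blockSub_le hD he)) (blockSub_le hD hf)
  have hcomM : ∀ x ∈ ({d, e, f} : Set G), ∀ q ∈ Q, x * q * x⁻¹ * q⁻¹ ∈ M := by
    intro x hx q hq
    have hxD : x ∈ D := by rcases hx with rfl | rfl | rfl <;> assumption
    have h1 : x * (q * x * q⁻¹) ∈ blockSub Q x := subset_closure ⟨q, hq, rfl⟩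
    have : blockSub Q x ≤ M := by
      rcases hx with rfl | rfl | rfl
      exacts [le_sup_left.trans le_sup_left, le_sup_right.trans le_sup_left, le_sup_right]
    rw [inv_self hD hxD]
    simpa [mul_assoc] using this h1
  have hMn : M.Normal := normalizer_eq_top_of_gens M hgenG (by
    intro x hx a ha
    rcases hx with hx | hx
    · have := mul_mem (hcomM x hx a (hMQ ha)) ha
      rwa [inv_mul_cancel_right] at this
    · refine (sup_le (sup_le ?_ ?_) ?_ : M ≤ M.comap (MulAut.conj x).toMonoidHom) ha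
      · exact fun c hc => mem_sup_left (mem_sup_left (blockSub_conj hD hQ hd hx hc))
      · exact fun c hc => mem_sup_left (mem_sup_right (blockSub_conj hD hQ he hx hc))
      · exact fun c hc => mem_sup_right (blockSub_conj hD hQ hf hx hc))
  haveI := hMn
  have hQM : Q ≤ M := by
    set ρ := QuotientGroup.mk' M
    haveI : (Q.map ρ).Normal := hQn.map ρ (QuotientGroup.mk'_surjective M)
    haveI : (centralizer ((Q.map ρ : Subgroup (G ⧸ M)) : Set (G ⧸ M))).Normal := inferInstance
    set Cq := (centralizer ((Q.map ρ : Subgroup (G ⧸ M)) : Set (G ⧸ M))).comap ρ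
    have hdC : d ∈ Cq := by
      rw [mem_comap, mem_centralizer_iff]
      rintro _ ⟨q, hq, rfl⟩
      have h1 : ρ (d * q * d⁻¹ * q⁻¹) = 1 := (QuotientGroup.eq_one_iff _).mpr (hcomM d (by simp) q hq)
      simp only [map_mul, map_inv] at h1
      exact (mul_inv_eq_iff_eq_mul.mp (mul_inv_eq_one.mp h1)).symm
    have hCtop : Cq = ⊤ := by
      rw [← top_le_iff, ← hD.2.2, closure_le]
      intro x hx
      rw [hDd] at hx
      obtain ⟨g, rfl⟩ := isConj_iff.mp hx
      exact (inferInstance : Cq.Normal).conj_mem d hdC g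
    refine key M hMn hMQ fun q hq p hp => (QuotientGroup.eq_one_iff _).mp ?_
    have hpC : p ∈ Cq := hCtop ▸ mem_top p
    rw [mem_comap, mem_centralizer_iff] at hpC
    have hc : ρ q * ρ p = ρ p * ρ q := hpC (ρ q) (mem_map_of_mem ρ hq)
    show ρ (q * p * q⁻¹ * p⁻¹) = 1
    simp only [map_mul, map_inv]
    rw [hc]; group
  -- the three blocks meet trivially
  have hMeq : M = Q := le_antisymm hMQ hQM
  have hW : ∀ c, c ∈ A → c ∈ B → c ∈ C → c = 1 := by
    intro c hA hB hC
    have hcQ : ∀ a ∈ Q, Commute a c := by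
      intro a ha
      refine Commute.symm ?_
      have hle : M ≤ centralizer ({c} : Set G) := by
        refine sup_le (sup_le ?_ ?_) ?_ <;> intro z hz <;> rw [mem_centralizer_singleton_iff]
        · exact blockSub_comm hD hQ hd hz hA
        · exact blockSub_comm hD hQ he hz hB
        · exact blockSub_comm hD hQ hf hz hC
      exact (mem_centralizer_singleton_iff.mp (hle (hQM ha))).symm
    have hc : c ∈ center G := center_of_fixed hgenG (by
      rintro x ((rfl | rfl | rfl) | hx)
      · exact blockSub_centralizes hD hQ hd hA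
      · exact blockSub_centralizes hD hQ he hB
      · exact blockSub_centralizes hD hQ hf hC
      · exact hcQ x hx)
    rwa [hZ, mem_bot] at hc
  have hnormal : ∀ {x}, x ∈ D → ∀ {a c}, a ∈ Q → c ∈ blockSub Q x → a * c * a⁻¹ * c⁻¹ ∈ blockSub Q x :=
    fun hx _ _ ha hc => mul_mem (blockSub_conj hD hQ hx ha hc) (inv_mem hc)
  have hnormal' : ∀ {x}, x ∈ D → ∀ {a c}, a ∈ Q → c ∈ blockSub Q x → c * a * c⁻¹ * a⁻¹ ∈ blockSub Q x :=
    fun {x} hx {a c} ha hc => by
      have := mul_mem hc (blockSub_conj hD hQ hx ha (inv_mem hc))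
      simpa [mul_assoc] using this
  -- the commutator of two blocks is central in the radical
  have hpair : ∀ {x y z : G}, x ∈ D → y ∈ D → z ∈ D → M = blockSub Q x ⊔ blockSub Q y ⊔ blockSub Q z →
      (∀ c, c ∈ blockSub Q x → c ∈ blockSub Q y → c ∈ blockSub Q z → c = 1) →
      ∀ a ∈ blockSub Q x, ∀ b ∈ blockSub Q y, a * b * a⁻¹ * b⁻¹ ∈ centralizer (Q : Set G) := by
    intro x y z hx hy hz hM' hW' a ha b hb
    have hx' : a * b * a⁻¹ * b⁻¹ ∈ blockSub Q x := hnormal' hx (blockSub_le hD hy hb) ha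
    have hy' : a * b * a⁻¹ * b⁻¹ ∈ blockSub Q y := hnormal hy (blockSub_le hD hx ha) hb
    set c := a * b * a⁻¹ * b⁻¹
    have hcQ : c ∈ Q := blockSub_le hD hx hx'
    have hle : blockSub Q x ⊔ blockSub Q y ⊔ blockSub Q z ≤ centralizer ({c} : Set G) := by
      refine sup_le (sup_le ?_ ?_) ?_ <;> intro w hw <;> rw [mem_centralizer_singleton_iff]
      · exact blockSub_comm hD hQ hx hw hx'
      · exact blockSub_comm hD hQ hy hw hy'
      · have hwQ := blockSub_le hD hz hw
        have h1 : w * c * w⁻¹ * c⁻¹ = 1 := hW' _ (hnormal hx hwQ hx') (hnormal hy hwQ hy') (hnormal' hz hcQ hw)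
        exact mul_inv_eq_iff_eq_mul.mp (mul_inv_eq_one.mp h1)
    rw [mem_centralizer_iff]
    intro w hw
    exact mem_centralizer_singleton_iff.mp (hle (hM' ▸ hQM hw))
  set ZQ := centralizer (Q : Set G) ⊓ Q
  haveI : ZQ.Normal := inferInstance
  have hsym : ∀ {a b : G}, a * b * a⁻¹ * b⁻¹ ∈ centralizer (Q : Set G) →
      b * a * b⁻¹ * a⁻¹ ∈ centralizer (Q : Set G) := fun {a b} h => by
    simpa [mul_assoc] using inv_mem h
  have hgenZ : ∀ a, (a ∈ A ∨ a ∈ B ∨ a ∈ C) → ∀ b, (b ∈ A ∨ b ∈ B ∨ b ∈ C) →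
      a * b * a⁻¹ * b⁻¹ ∈ centralizer (Q : Set G) := by
    have hself : ∀ {x}, x ∈ D → ∀ a ∈ blockSub Q x, ∀ b ∈ blockSub Q x,
        a * b * a⁻¹ * b⁻¹ ∈ centralizer (Q : Set G) := fun hx a ha b hb => by
      rw [(blockSub_comm hD hQ hx ha hb).eq, mul_inv_cancel_right, mul_inv_cancel]; exact one_mem _
    have hAB := hpair hd he hf rfl hW
    have hAC := hpair hd hf he (show M = A ⊔ C ⊔ B from sup_right_comm A B C) fun c h1 h2 h3 => hW c h1 h3 h2
    have hBC := hpair he hf hd (show M = B ⊔ C ⊔ A by rw [sup_comm (B ⊔ C), ← sup_assoc]) fun c h1 h2 h3 => hW c h3 h1 h2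
    rintro a (ha | ha | ha) b (hb | hb | hb)
    exacts [hself hd a ha b hb, hAB a ha b hb, hAC a ha b hb, hsym (hAB b hb a ha), hself he a ha b hb,
      hBC a ha b hb, hsym (hAC b hb a ha), hsym (hBC b hb a ha), hself hf a ha b hb]
  set ν := QuotientGroup.mk' ZQ
  have hab : ∀ u ∈ Q.map ν, ∀ v ∈ Q.map ν, u * v = v * u := by
    have hle : Q.map ν ≤ closure (ν '' {a | a ∈ A ∨ a ∈ B ∨ a ∈ C}) := by
      rw [← MonoidHom.map_closure]
      refine map_mono (hQM.trans (sup_le (sup_le ?_ ?_) ?_)) <;> intro w hw <;> refine subset_closure ?_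
      exacts [Or.inl hw, Or.inr (Or.inl hw), Or.inr (Or.inr hw)]
    have hg : ∀ u ∈ closure (ν '' {a | a ∈ A ∨ a ∈ B ∨ a ∈ C}), ∀ v ∈ closure (ν '' {a | a ∈ A ∨ a ∈ B ∨ a ∈ C}),
        Commute u v := by
      intro u hu v hv
      induction hu using closure_induction with
      | mem _ ha =>
        obtain ⟨a, ha, rfl⟩ := ha
        induction hv using closure_induction with
        | mem _ hb =>
          obtain ⟨b, hb, rfl⟩ := hb
          have haQ : ∀ w, (w ∈ A ∨ w ∈ B ∨ w ∈ C) → w ∈ Q := by
            rintro w (h | h | h)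
            exacts [blockSub_le hD hd h, blockSub_le hD he h, blockSub_le hD hf h]
          have hm : a * b * a⁻¹ * b⁻¹ ∈ ZQ := ⟨hgenZ a ha b hb,
            mul_mem (mul_mem (mul_mem (haQ a ha) (haQ b hb)) (Q.inv_mem (haQ a ha))) (Q.inv_mem (haQ b hb))⟩
          have h1 : ν (a * b * a⁻¹ * b⁻¹) = 1 := (QuotientGroup.eq_one_iff _).mpr hm
          simp only [map_mul, map_inv] at h1
          exact mul_inv_eq_iff_eq_mul.mp (mul_inv_eq_one.mp h1)
        | one => exact Commute.one_right _
        | mul _ _ _ _ a b => exact a.mul_right b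
        | inv _ _ a => exact a.inv_right
      | one => exact Commute.one_left _
      | mul _ _ _ _ a b => exact a.mul_left b
      | inv _ _ a => exact a.inv_left
    exact fun u hu v hv => hg u (hle hu) v (hle hv)
  -- fixed points of the Sylow subgroup are central in the radical
  haveI : IsMulCommutative (Q.map ν) := ⟨⟨fun u v => Subtype.ext (hab u u.2 v v.2)⟩⟩
  letI : CommGroup (Q.map ν) :=
    { (inferInstance : Group (Q.map ν)) with mul_comm := fun u v => Subtype.ext (hab u u.2 v v.2) }
  letI : Fintype P := Fintype.ofFinite P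
  let j : P → Q →* Q.map ν := fun p =>
    (ν.comp ((MulAut.conj (p : G)).toMonoidHom.comp Q.subtype)).codRestrict (Q.map ν)
      fun q => mem_map_of_mem ν (hQn.conj_mem q q.2 p)
  let nm : Q →* Q.map ν := ∏ p : P, j p
  have hnm : ∀ q : Q, nm q = ∏ p : P, j p q := fun q => MonoidHom.finsetProd_apply _ _ q
  set T := closure {c : G | ∃ q ∈ Q, ∃ p ∈ P, q * p * q⁻¹ * p⁻¹ = c}
  have hT : Q ≤ T := by
    refine key T ?_ ?_ fun q hq p hp => subset_closure ⟨q, hq, p, hp, rfl⟩
    · have hgen' : closure ((Q : Set G) ∪ (N : Set G)) = ⊤ := by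
        rw [Subgroup.closure_union, closure_eq, closure_eq, sup_comm, htop]
      refine normalizer_eq_top_of_gens T hgen' fun x hx a ha => ?_
      refine ((closure_le (K := T.comap (MulAut.conj x).toMonoidHom)).mpr ?_ ha : a ∈ T.comap (MulAut.conj x).toMonoidHom)
      rintro _ ⟨q, hq, p, hp, rfl⟩
      show x * (q * p * q⁻¹ * p⁻¹) * x⁻¹ ∈ T
      rcases hx with hx | hx
      · have h1 : x * q * p * (x * q)⁻¹ * p⁻¹ ∈ T := subset_closure ⟨_, mul_mem hx hq, p, hp, rfl⟩
        have h2 : x * p * x⁻¹ * p⁻¹ ∈ T := subset_closure ⟨x, hx, p, hp, rfl⟩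
        simpa [mul_assoc] using mul_mem h1 (inv_mem h2)
      · exact subset_closure ⟨x * q * x⁻¹, hQn.conj_mem q hq x, x * p * x⁻¹, (mem_normalizer_iff.mp hx p).mp hp,
          by group⟩
    · refine (closure_le Q).mpr ?_
      rintro _ ⟨q, hq, p, hp, rfl⟩
      simpa [mul_assoc] using mul_mem hq (hQn.conj_mem _ (inv_mem hq) p)
  have hkill : ∀ q : Q, nm q = 1 := by
    suffices Q ≤ (nm.ker.map Q.subtype) by
      intro q
      obtain ⟨w, hw, e'⟩ := this q.2
      exact (Subtype.ext e' : w = q) ▸ hw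
    refine hT.trans ((closure_le _).mpr ?_)
    rintro _ ⟨q, hq, p, hp, rfl⟩
    have hw : p * q⁻¹ * p⁻¹ ∈ Q := hQn.conj_mem _ (inv_mem hq) p
    refine ⟨⟨q, hq⟩ * ⟨_, hw⟩, ?_, by simp [mul_assoc]⟩
    rw [SetLike.mem_coe, MonoidHom.mem_ker, map_mul]
    have e1 : nm ⟨_, hw⟩ = nm (⟨q, hq⟩ : Q)⁻¹ := by
      rw [hnm, hnm]
      refine Fintype.prod_equiv (Equiv.mulRight (⟨p, hp⟩ : P)) _ _ fun r => Subtype.ext ?_
      show ν ((r : G) * (p * q⁻¹ * p⁻¹) * (r : G)⁻¹) = ν ((r : G) * p * q⁻¹ * ((r : G) * p)⁻¹)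
      congr 1; group
    rw [e1, map_inv, mul_inv_cancel]
  have hfixed : ∀ c ∈ Q, (∀ p ∈ P, Commute p c) → c = 1 := by
    intro c hc hcp
    have hj : ∀ p : P, j p ⟨c, hc⟩ = ⟨ν c, mem_map_of_mem ν hc⟩ := fun p => Subtype.ext (by
      show ν ((p : G) * c * (p : G)⁻¹) = ν c
      rw [(hcp p p.2).eq, mul_inv_cancel_right])
    have h1 := hkill ⟨c, hc⟩
    rw [hnm, Finset.prod_congr rfl (fun p _ => hj p), Finset.prod_const, Finset.card_univ] at h1
    have h2 : ν c ^ Fintype.card P = 1 := congrArg Subtype.val h1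
    obtain ⟨k, hk⟩ := IsPGroup.iff_card.mp hPp
    rw [← Nat.card_eq_fintype_card, hk] at h2
    obtain ⟨l, hl⟩ := hQ ⟨c, hc⟩
    have hl' : c ^ 2 ^ l = 1 := congrArg Subtype.val hl
    have hν : ν c = 1 := orderOf_eq_one_iff.mp (Nat.eq_one_of_dvd_coprimes
      ((by norm_num : Nat.Coprime 3 2).pow k l) (orderOf_dvd_of_pow_eq_one h2)
      (orderOf_dvd_of_pow_eq_one (by rw [← map_pow, hl', map_one])))
    have hcZ : c ∈ centralizer (Q : Set G) := ((QuotientGroup.eq_one_iff c).mp hν).1
    -- the fixed points in the centre of the radical form a normal subgroup, hence trivial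
    by_contra hc1
    set Y := centralizer (Q : Set G) ⊓ Q ⊓ centralizer (P : Set G)
    have hY : Y.Normal := by
      refine normalizer_eq_top_of_gens Y (show closure ((Q : Set G) ∪ (N : Set G)) = ⊤ by
        rw [Subgroup.closure_union, closure_eq, closure_eq, sup_comm, htop]) fun x hx a ha => ?_
      rcases hx with hx | hx
      · rw [mem_centralizer_iff.mp ha.1.1 x hx, mul_inv_cancel_right]; exact ha
      · refine ⟨(inferInstance : ZQ.Normal).conj_mem a ha.1 x, mem_centralizer_iff.mpr fun p hp => ?_⟩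
        have hp' : x⁻¹ * p * x ∈ P := by
          simpa using (mem_normalizer_iff.mp (inv_mem hx) p).mp hp
        calc p * (x * a * x⁻¹) = x * ((x⁻¹ * p * x) * a) * x⁻¹ := by group
          _ = x * (a * (x⁻¹ * p * x)) * x⁻¹ := by rw [mem_centralizer_iff.mp ha.2 _ hp']
          _ = x * a * x⁻¹ * p := by group
    have hcY : c ∈ Y := ⟨⟨hcZ, hc⟩, mem_centralizer_iff.mpr fun p hp => (hcp p hp).eq⟩
    have hfix : ∀ y ∈ Y, Commute d y → y = 1 := by
      intro y hy hdy
      have hH' : Q ⊔ P ≤ centralizer ({y} : Set G) := sup_le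
        (fun q hq => mem_centralizer_singleton_iff.mpr (mem_centralizer_iff.mp hy.1.1 q hq))
        (fun p hp => mem_centralizer_singleton_iff.mpr (mem_centralizer_iff.mp hy.2 p hp))
      have hcz : y ∈ center G := by
        refine center_of_fixed hD.2.2 fun x hx => ?_
        rw [hDd] at hx
        obtain ⟨g, rfl⟩ := isConj_iff.mp hx
        have hmem : g * d * g⁻¹ * d ∈ H := by
          rw [hH, mem_comap, map_mul]
          exact (mul_mem_iff_of_index_two hindex).mpr
            (iff_of_false (hout _ (conj_mem_class hD hd g)) (hout d hd))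
        have h1 : Commute (g * d * g⁻¹ * d) y := mem_centralizer_singleton_iff.mp (hH' (hHQP hmem))
        have := h1.mul_left hdy
        rwa [mul_assoc, sq_one hD hd, mul_one] at this
      rwa [hZ, mem_bot] at hcz
    -- the involution d has a non-trivial fixed point on Y
    have hc2 : Commute c (d * c * d) := by
      have : d * c * d⁻¹ ∈ Q := hQn.conj_mem c hc d
      rw [inv_self hD hd] at this
      exact (mem_centralizer_iff.mp hcZ _ this).symm
    have hmem : d * c * d ∈ Y := by
      have := hY.conj_mem c hcY d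
      rwa [inv_self hD hd] at this
    have hprod' := hfix (c * (d * c * d)) (mul_mem hcY hmem) (by
      show d * (c * (d * c * d)) = c * (d * c * d) * d
      have e1 : c * (d * c * d) * d = c * (d * c) := by
        simp only [mul_assoc, sq_one hD hd, mul_one]
      have e2 : d * (d * c * d * c) = c * (d * c) := by
        simp only [← mul_assoc, sq_one hD hd, one_mul]
      rw [e1, hc2.eq, e2])
    have hinvc : d * c * d = c⁻¹ := eq_inv_of_mul_eq_one_right hprod'
    -- c is inverted; its involution is fixed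
    obtain ⟨m, hm⟩ := hQ ⟨c, hc⟩
    have hm' : c ^ 2 ^ m = 1 := congrArg Subtype.val hm
    have hord : 2 ∣ orderOf c := by
      obtain ⟨i, -, hi⟩ := (Nat.dvd_prime_pow Nat.prime_two).mp (orderOf_dvd_of_pow_eq_one hm')
      rw [hi]
      exact dvd_pow_self 2 fun h0 => hc1 (orderOf_eq_one_iff.mp (by rw [hi, h0, pow_zero]))
    set w := c ^ (orderOf c / 2)
    have hw2 : w * w = 1 := by
      rw [← pow_two, ← pow_mul, Nat.div_mul_cancel hord, pow_orderOf_eq_one]
    have hw1 : w ≠ 1 := fun h => by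
      have h0 := orderOf_pos c
      have := orderOf_le_of_pow_eq_one (show 0 < orderOf c / 2 by omega) h
      omega
    refine hw1 (hfix w (pow_mem hcY _) ?_)
    have : d * w * d⁻¹ = w := by
      rw [← conj_pow, inv_self hD hd, hinvc, inv_pow]
      exact inv_eq_of_mul_eq_one_left hw2
    exact mul_inv_eq_iff_eq_mul.mp this
  refine ⟨N, isComplement'_of_disjoint_and_mul_eq_univ (disjoint_def.mpr fun {q} hq hqN => ?_) ?_⟩
  · refine hfixed q hq fun p hp => ?_
    have h1 : q * p * q⁻¹ * p⁻¹ ∈ P := mul_mem ((mem_normalizer_iff.mp hqN p).mp hp) (inv_mem hp)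
    have h2 : q * p * q⁻¹ * p⁻¹ ∈ Q := by
      simpa [mul_assoc] using mul_mem hq (hQn.conj_mem _ (inv_mem hq) p)
    exact (mul_inv_eq_iff_eq_mul.mp (mul_inv_eq_one.mp (disjoint_def.mp hQP h2 h1))).symm
  · rw [← normal_mul Q N, sup_comm, htop, coe_top]

end Cfsg.Lib.SplitRadical
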