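import Cfsg.Agent.ThreeTransposition.TwoThreeStructure
import Cfsg.Agent.ThreeTransposition.Classes
import Cfsg.Agent.HallHigman.Drop
import Cfsg.Agent.Components.GenFitting
import Mathlib

/-!
Groups generated by 3-transpositions whose two-radical is the generalized Fitting subgroup and whose
quotient has a normal Sylow 3-subgroup with 2-power index.
-/

set_option autoImplicit false

namespace Cfsg.Lib.TwoThree

open Subgroup
open scoped IsMulCommutative

theorem quotient_cases {H : Type*} [Group H] [Finite H] {E : Set H} (hE : Cfsg.IsThreeTranspositionClass E)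
    (hE2 : ∃ a ∈ E, ∃ b ∈ E, a ≠ b) (hF : Cfsg.generalizedFittingSubgroup H = Cfsg.pCore 2 H)
    (h232 : ∃ P : Sylow 3 (H ⧸ Cfsg.pCore 2 H), (P : Subgroup (H ⧸ Cfsg.pCore 2 H)).Normal ∧
      ∃ k : ℕ, (P : Subgroup (H ⧸ Cfsg.pCore 2 H)).index = 2 ^ k) :
    Nonempty (H ⧸ Cfsg.pCore 2 H ≃* Equiv.Perm (Fin 3)) ∨
      ∃ a x c t : H ⧸ Cfsg.pCore 2 H, HeisTwo.Rel a x c t ∧ Function.Bijective (HeisTwo.psi a x c t) := by
  classical
  haveI := Fact.mk Nat.prime_two
  haveI := Fact.mk Nat.prime_three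
  set Q := Cfsg.pCore 2 H with hQ
  have hQp : IsPGroup 2 Q := Cfsg.Lib.Components.isPGroup_pCore 2
  obtain ⟨P, hPn, k, hk⟩ := h232
  haveI := hPn
  set π := QuotientGroup.mk' Q with hπ
  have hπs : Function.Surjective π := QuotientGroup.mk'_surjective Q
  obtain ⟨d₀, hd₀, hEd⟩ := hE.2.1
  have hd1 : π d₀ ≠ 1 := by
    intro h
    have hd0Q : d₀ ∈ Q := (QuotientGroup.eq_one_iff d₀).mp h
    have hEQ : E ⊆ Q := fun e he => by
      rw [hEd] at he
      obtain ⟨g, rfl⟩ := isConj_iff.mp he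
      exact Subgroup.Normal.conj_mem inferInstance d₀ hd0Q g
    have hQtop : Q = ⊤ := top_le_iff.mp (hE.2.2 ▸ (closure_le Q).mpr hEQ)
    have hz := Cfsg.Lib.SplitRadical.eq_zpowers_of_conj_generate (hQp.of_equiv ((MulEquiv.subgroupCongr hQtop).trans Subgroup.topEquiv))
      d₀ (by rw [← hEd]; exact hE.2.2)
    obtain ⟨a, ha, b, hb, hab⟩ := hE2
    refine hab ?_
    have hall : ∀ e ∈ E, e = d₀ := fun e he => by
      rw [hEd] at he
      obtain ⟨g, rfl⟩ := isConj_iff.mp he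
      obtain ⟨i, rfl⟩ := mem_zpowers_iff.mp (hz.ge (mem_top g))
      group
    rw [hall a ha, hall b hb]
  set D := π '' E
  have hD : Cfsg.IsThreeTranspositionClass D := Cfsg.Lib.ThreeTr.map_class hE π hπs hd₀ hd1
  set d := π d₀
  have hd : d ∈ D := ⟨d₀, hd₀, rfl⟩
  have hP : IsPGroup 3 (P : Subgroup (H ⧸ Q)) := P.isPGroup'
  have hdP : d ∉ (P : Subgroup (H ⧸ Q)) := by
    intro h
    obtain ⟨j, hj⟩ := IsPGroup.iff_orderOf.mp hP ⟨d, h⟩
    rw [Subgroup.orderOf_mk, hD.1.1 d hd] at hj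
    rcases j with _ | j
    · norm_num at hj
    · rw [pow_succ] at hj; omega
  have hmem : ∀ e ∈ D, d * e ∈ (P : Subgroup (H ⧸ Q)) := by
    intro e he
    set ρ := QuotientGroup.mk' (P : Subgroup (H ⧸ Q))
    have h2 : IsPGroup 2 ((H ⧸ Q) ⧸ (P : Subgroup (H ⧸ Q))) := IsPGroup.of_card (n := k) (by rw [← Subgroup.index, hk])
    have hz := Cfsg.Lib.SplitRadical.eq_zpowers_of_conj_generate h2 (ρ d) (by
      refine top_le_iff.mp ?_
      rw [← map_top_of_surjective ρ (QuotientGroup.mk'_surjective _), ← hD.2.2, MonoidHom.map_closure, closure_le]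
      rintro _ ⟨y, hy, rfl⟩
      obtain ⟨c, rfl⟩ := Cfsg.Lib.ThreeTr.exists_conj hD hd hy
      exact subset_closure (isConj_iff.mpr ⟨ρ c, by simp⟩))
    obtain ⟨c, rfl⟩ := Cfsg.Lib.ThreeTr.exists_conj hD hd he
    rw [← QuotientGroup.eq_one_iff (N := (P : Subgroup (H ⧸ Q)))]
    show ρ (d * _) = 1
    obtain ⟨i, hi⟩ := mem_zpowers_iff.mp (hz.ge (mem_top (ρ c)))
    simp only [map_mul, map_inv, ← hi]
    rw [show ρ d * (ρ d ^ i * ρ d * (ρ d ^ i)⁻¹) = ρ d * ρ d by rw [(Commute.zpow_self (ρ d) i).eq, mul_inv_cancel_right], ← map_mul, Cfsg.Lib.SplitRadical.sq_one hD hd, map_one]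
  have hne : ∃ e ∈ D, e ≠ d := by
    by_contra hh
    push Not at hh
    have htop : zpowers d = ⊤ := top_le_iff.mp (by
      rw [← hD.2.2, closure_le]
      intro e he; rw [hh e he]; exact mem_zpowers d)
    have hle : zpowers d ≤ Cfsg.pCore 2 (H ⧸ Q) := by
      haveI : (zpowers d).Normal := htop ▸ (inferInstance : (⊤ : Subgroup (H ⧸ Q)).Normal)
      exact Cfsg.Lib.Components.le_pCore (IsPGroup.of_card (n := 1) (by rw [Nat.card_zpowers, hD.1.1 d hd, pow_one]))
    rw [Cfsg.Lib.HallHigman.pCore_quotient_pCore, le_bot_iff, zpowers_eq_bot] at hle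
    exact hd1 hle
  -- the module
  set Φ := (frattini Q).map Q.subtype with hΦ
  haveI : Φ.Normal := ConjAct.normal_of_characteristic_of_normal
  set π₁ := QuotientGroup.mk' Φ
  set W := Q.map π₁ with hW
  haveI : W.Normal := Subgroup.Normal.map inferInstance _ (QuotientGroup.mk'_surjective Φ)
  have hWmem : ∀ a ∈ Q, ∀ b ∈ Q, π₁ a * π₁ b = π₁ b * π₁ a := by
    intro a ha b hb
    rw [← map_mul, ← map_mul]
    refine QuotientGroup.eq.2 ?_
    have h := (Subgroup.Normal.quotient_commutative_iff_commutator_le (N := frattini Q)).2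
      (Cfsg.Lib.PGroups.commutator_le_frattini hQp)
    have h2 : (QuotientGroup.mk (⟨a, ha⟩ * ⟨b, hb⟩ : Q) : Q ⧸ frattini Q) = QuotientGroup.mk (⟨b, hb⟩ * ⟨a, ha⟩) := by
      rw [QuotientGroup.mk_mul, QuotientGroup.mk_mul]; exact h.is_comm.comm _ _
    exact ⟨_, QuotientGroup.eq.1 h2, rfl⟩
  haveI hWc : IsMulCommutative W := ⟨⟨by
    rintro ⟨_, a, ha, rfl⟩ ⟨_, b, hb, rfl⟩; exact Subtype.ext (hWmem a ha b hb)⟩⟩
  have hW2 : ∀ w : W, w * w = 1 := by
    rintro ⟨_, a, ha, rfl⟩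
    refine Subtype.ext ?_
    show π₁ a * π₁ a = 1
    rw [← map_mul, ← pow_two]
    exact (QuotientGroup.eq_one_iff _).2 ⟨⟨a, ha⟩ ^ 2, Cfsg.Lib.PGroups.pow_mem_frattini hQp _, rfl⟩
  let c : H →* MulAut W := (MulAut.conjNormal (H := W)).comp π₁
  have hcv : ∀ (g : H) (w : W), ((c g w : W) : H ⧸ Φ) = π₁ g * w * (π₁ g)⁻¹ := fun g w => MulAut.conjNormal_apply _ _
  have hQc : Q ≤ c.ker := by
    intro g hg
    refine MulEquiv.ext fun w => Subtype.ext ?_
    obtain ⟨_, a, ha, rfl⟩ := w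
    rw [hcv]
    show π₁ g * π₁ a * (π₁ g)⁻¹ = π₁ a
    rw [hWmem g hg a ha, mul_inv_cancel_right]
  have hkerQ : c.ker ≤ Q := by
    refine Cfsg.Lib.Components.le_pCore (fun g => ?_)
    obtain ⟨a, r, hr, har⟩ := Nat.exists_eq_pow_mul_and_not_dvd (orderOf_pos (g : H)).ne' 2 (by norm_num)
    refine ⟨a, Subtype.ext ?_⟩
    set y := (g : H) ^ 2 ^ a with hy
    have hyo : orderOf y ∣ r := orderOf_dvd_of_pow_eq_one (by rw [hy, ← pow_mul, ← har, pow_orderOf_eq_one])
    have hycop : (orderOf y).Coprime 2 := Nat.Coprime.coprime_dvd_left hyo ((Nat.prime_two.coprime_iff_not_dvd.2 hr).symm)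
    have hyk : y ∈ c.ker := pow_mem g.2 _
    have hC : zpowers y ≤ centralizer (Q : Set H) := by
      refine Cfsg.Lib.Coprime.le_centralizer_of_frattini (by rw [normalizer_eq_top_iff.2 inferInstance]; exact le_top) ?_ fun b hb k hk => ?_
      · obtain ⟨m, hm⟩ := IsPGroup.iff_card.1 (hQp.to_subgroup (frattini Q))
        rw [Nat.card_zpowers, hm]
        exact hycop.pow_right m
      · show b * k * b⁻¹ * k⁻¹ ∈ Φ
        rw [← QuotientGroup.eq_one_iff (N := Φ)]
        show π₁ (b * k * b⁻¹ * k⁻¹) = 1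
        have hbk := congrArg Subtype.val (DFunLike.congr_fun (MonoidHom.mem_ker.mp (zpowers_le.2 hyk hb)) (⟨π₁ k, k, hk, rfl⟩ : W))
        rw [hcv] at hbk
        rw [map_mul, map_mul, map_mul, map_inv, map_inv]
        show π₁ b * π₁ k * (π₁ b)⁻¹ * (π₁ k)⁻¹ = 1
        rw [show π₁ b * π₁ k * (π₁ b)⁻¹ = π₁ k from hbk, mul_inv_cancel]
    have hyQ : y ∈ Q := by
      have h := Cfsg.Lib.Components.centralizer_genFitting_le (G := H) (show y ∈ centralizer (Cfsg.generalizedFittingSubgroup H : Set H) by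
        rw [hF]; exact hC (mem_zpowers y))
      rw [hF] at h; exact h
    obtain ⟨j, hj⟩ := IsPGroup.iff_orderOf.1 hQp ⟨y, hyQ⟩
    rw [Subgroup.orderOf_mk] at hj
    have h1 : orderOf y = 1 := by
      refine Nat.Coprime.eq_one_of_dvd (hycop.pow_right j) (by rw [hj])
    rw [SubmonoidClass.coe_pow, OneMemClass.coe_one, ← hy]
    exact orderOf_eq_one_iff.mp h1
  let α : (H ⧸ Q) →* MulAut W := QuotientGroup.lift Q c hQc
  have hα : Function.Injective α := by
    rw [injective_iff_map_eq_one]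
    intro q hq
    obtain ⟨g, rfl⟩ := hπs q
    exact (QuotientGroup.eq_one_iff g).mpr (hkerQ hq)
  refine main (fun w => hW2 w) α hα (P : Subgroup (H ⧸ Q)) hP hD hd hdP hmem hne ?_
  rintro _ ⟨a₀, ha₀, rfl⟩ _ ⟨b₀, hb₀, rfl⟩ habP hab v hv
  -- lifts in the class have products of order three
  have hcube : ∀ b ∈ E, π b = π b₀ → (a₀ * b) ^ 3 = 1 := by
    intro b hb hbe
    rcases hE.1.2 a₀ ha₀ b hb with h | h
    · exfalso
      have h' : (π a₀ * π b₀) ^ 2 = 1 := by rw [← hbe, ← map_mul, ← map_pow, h, map_one]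
      obtain ⟨j, hj⟩ := hP ⟨_, habP⟩
      have hj' : (π a₀ * π b₀) ^ 3 ^ j = 1 := congrArg Subtype.val hj
      have h1 : π a₀ * π b₀ = 1 := by
        rw [← orderOf_eq_one_iff]
        exact Nat.eq_one_of_dvd_coprimes (Nat.Coprime.pow_right j (by norm_num : Nat.Coprime 2 3))
          (orderOf_dvd_of_pow_eq_one h') (orderOf_dvd_of_pow_eq_one hj')
      refine hab ?_
      have hbinv : (π b₀)⁻¹ = π b₀ := Cfsg.Lib.SplitRadical.inv_self hD ⟨b₀, hb₀, rfl⟩
      exact (eq_inv_of_mul_eq_one_left h1).trans hbinv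
    · exact h
  obtain ⟨⟨_, w, hw, rfl⟩, rfl⟩ : ∃ w : W, w = v := ⟨v, rfl⟩
  have ha2 : a₀ * a₀ = 1 := Cfsg.Lib.SplitRadical.sq_one hE ha₀
  have hb2 : b₀ * b₀ = 1 := Cfsg.Lib.SplitRadical.sq_one hE hb₀
  set A := π₁ a₀
  set B := π₁ b₀
  set v := π₁ w
  have hA : A * A = 1 := by rw [← map_mul, ha2, map_one]
  have hB : B * B = 1 := by rw [← map_mul, hb2, map_one]
  have hAi : A⁻¹ = A := inv_eq_of_mul_eq_one_left hA
  have hBi : B⁻¹ = B := inv_eq_of_mul_eq_one_left hB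
  have hvv : v * v = 1 := congrArg Subtype.val (hW2 ⟨v, w, hw, rfl⟩)
  have hvi : v⁻¹ = v := inv_eq_of_mul_eq_one_left hvv
  have hX : Commute (A * B) v := by
    have e : c (a₀ * b₀) ⟨v, w, hw, rfl⟩ = (⟨v, w, hw, rfl⟩ : W) := hv
    have e' := congrArg Subtype.val e
    rw [hcv, map_mul] at e'
    exact mul_inv_eq_iff_eq_mul.mp e'
  set u := A * v * A * v
  have hX3 : (A * B) ^ 3 = 1 := by rw [← map_mul, ← map_pow, hcube b₀ hb₀ rfl, map_one]
  have hY3 : (A * (v * B * v)) ^ 3 = 1 := by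
    have hb1 : w * b₀ * w⁻¹ ∈ E := Cfsg.Lib.SplitRadical.conj_mem_class hE hb₀ w
    have hbe : π (w * b₀ * w⁻¹) = π b₀ := by
      rw [map_mul, map_mul, map_inv, show π w = 1 from (QuotientGroup.eq_one_iff w).mpr hw]; simp
    have h := congrArg π₁ (hcube _ hb1 hbe)
    rw [map_pow, map_mul, map_mul, map_mul, map_inv, map_one] at h
    rwa [show (π₁ w)⁻¹ = v from hvi] at h
  have e1 : A * (v * B * v) = u * (A * B) := by
    calc A * (v * B * v) = A * v * (A * A) * B * v := by rw [hA, mul_one]; simp [mul_assoc]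
      _ = A * v * A * ((A * B) * v) := by simp [mul_assoc]
      _ = A * v * A * (v * (A * B)) := by rw [hX.eq]
      _ = u * (A * B) := by simp [u, mul_assoc]
  have hXu : Commute (A * B) u := by
    have hXi : Commute (A * B)⁻¹ v := hX.inv_left
    have h1 : Commute (A * B) (A * v * A) := by
      have h2 : Commute (B * A) v := by rwa [mul_inv_rev, hAi, hBi] at hXi
      show A * B * (A * v * A) = A * v * A * (A * B)
      calc A * B * (A * v * A) = A * ((B * A) * v) * A := by simp [mul_assoc]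
        _ = A * (v * (B * A)) * A := by rw [h2.eq]
        _ = A * v * B * (A * A) := by simp [mul_assoc]
        _ = A * v * (A * A) * B := by rw [hA]; simp
        _ = A * v * A * (A * B) := by simp [mul_assoc]
    exact h1.mul_right hX
  have hu2 : u * u = 1 := by
    have hm : A * v * A ∈ W := by
      have := (inferInstance : W.Normal).conj_mem v ⟨w, hw, rfl⟩ A
      rwa [hAi] at this
    exact congrArg Subtype.val (hW2 (⟨A * v * A, hm⟩ * ⟨v, w, hw, rfl⟩))
  rw [e1, hXu.symm.mul_pow, hX3, mul_one, pow_succ, pow_two, hu2, one_mul] at hY3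
  refine Subtype.ext ?_
  show ((c a₀ ⟨v, w, hw, rfl⟩ : W) : H ⧸ Φ) = v
  rw [hcv, hAi]
  have := mul_eq_one_iff_eq_inv.mp hY3
  rwa [hvi] at this

theorem main_statement {H : Type*} [Group H] [Finite H] {E : Set H} (hE : Cfsg.IsThreeTranspositionClass E)
    (hE2 : ∃ a ∈ E, ∃ b ∈ E, a ≠ b) (hF : Cfsg.generalizedFittingSubgroup H = Cfsg.pCore 2 H)
    (h232 : ∃ P : Sylow 3 (H ⧸ Cfsg.pCore 2 H), (P : Subgroup (H ⧸ Cfsg.pCore 2 H)).Normal ∧
      ∃ k : ℕ, (P : Subgroup (H ⧸ Cfsg.pCore 2 H)).index = 2 ^ k) :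
    Nonempty (H ⧸ Cfsg.pCore 2 H ≃* Equiv.Perm (Fin 3)) ∨
      ∃ (F : Type) (_ : Field F) (_ : Fintype F), Fintype.card F = 4 ∧
        Nonempty (H ⧸ Cfsg.pCore 2 H ≃* ↥(commutator ↥(Cfsg.SU 3 F 2))) := by
  rcases quotient_cases hE hE2 hF h232 with h | ⟨a, x, c, t, hrel, hb⟩
  · exact Or.inl h
  · haveI := Fact.mk Nat.prime_two
    haveI : Fintype (GaloisField 2 2) := Fintype.ofFinite _
    have h4 : Fintype.card (GaloisField 2 2) = 4 := by
      rw [← Nat.card_eq_fintype_card, GaloisField.card 2 2 (by norm_num)]; norm_num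
    obtain ⟨a', x', c', t', hrel', hb'⟩ := HeisTwo.target h4
    exact Or.inr ⟨GaloisField 2 2, inferInstance, inferInstance, h4, HeisTwo.nonempty_mulEquiv hrel hrel' hb hb'⟩

end Cfsg.Lib.TwoThree
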