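import Mathlib

/-!
Two involutions: elementary dihedral identities.
-/

namespace Cfsg.Lib.ThreeTr

variable {G : Type*} [Group G]

theorem mul_self_of_orderOf_two {a : G} (h : orderOf a = 2) : a * a = 1 := by
  rw [← sq, ← h]; exact pow_orderOf_eq_one a

theorem inv_eq_self_of_mul_self {a : G} (h : a * a = 1) : a⁻¹ = a := inv_eq_of_mul_eq_one_right h

theorem mul_pow_conj {a b : G} (ha : a * a = 1) (hb : b * b = 1) (k : ℕ) :
    a * (a * b) ^ k * a = ((a * b) ^ k)⁻¹ := by
  induction k with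
  | zero => simp [ha]
  | succ k ih =>
    have h1 : a * (a * b) * a = (a * b)⁻¹ := by
      rw [mul_inv_rev, inv_eq_self_of_mul_self ha, inv_eq_self_of_mul_self hb, ← mul_assoc, ha, one_mul]
    have h2 : ((a * b) ^ (k + 1))⁻¹ = ((a * b) ^ k)⁻¹ * (a * b)⁻¹ := by rw [pow_succ', mul_inv_rev]
    rw [h2, ← ih, ← h1, pow_succ]
    calc a * ((a * b) ^ k * (a * b)) * a = a * (a * b) ^ k * (1 * (a * b)) * a := by simp [mul_assoc]
      _ = _ := by rw [← ha]; simp only [mul_assoc]

/-- Every element of the coset `⟨a b⟩ a` is conjugate to `a` or `b`. -/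
theorem exists_conj_pow_mul {a b : G} (ha : a * a = 1) (hb : b * b = 1) (k : ℕ) :
    ∃ g : G, (a * b) ^ k * a = g * a * g⁻¹ ∨ (a * b) ^ k * a = g * b * g⁻¹ := by
  have h : ∀ m : ℕ, (a * b) ^ m * a = a * ((a * b) ^ m)⁻¹ := fun m => by
    rw [← mul_pow_conj ha hb m, ← mul_assoc, ← mul_assoc, ha, one_mul]
  rcases Nat.even_or_odd k with ⟨m, rfl⟩ | ⟨m, rfl⟩
  · refine ⟨(a * b) ^ m, Or.inl ?_⟩
    calc (a * b) ^ (m + m) * a = (a * b) ^ m * ((a * b) ^ m * a) := by rw [pow_add, mul_assoc]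
      _ = (a * b) ^ m * (a * ((a * b) ^ m)⁻¹) := congrArg _ (h m)
      _ = _ := (mul_assoc _ _ _).symm
  · refine ⟨(a * b) ^ m * a, Or.inr ?_⟩
    calc (a * b) ^ (2 * m + 1) * a = (a * b) ^ m * (a * b) * ((a * b) ^ m * a) := by
          rw [show 2 * m + 1 = m + 1 + m by omega, pow_add, pow_succ, mul_assoc]
      _ = (a * b) ^ m * (a * b) * (a * ((a * b) ^ m)⁻¹) := congrArg _ (h m)
      _ = (a * b) ^ m * a * b * (a⁻¹ * ((a * b) ^ m)⁻¹) := by
          rw [inv_eq_self_of_mul_self ha]; simp only [mul_assoc]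
      _ = _ := by rw [← mul_inv_rev]

/-- A member of a conjugation-closed set for every element of the coset. -/
theorem pow_mul_mem {D : Set G} (hconj : ∀ g : G, ∀ d ∈ D, g * d * g⁻¹ ∈ D) {a b : G} (ha : a ∈ D) (hb : b ∈ D)
    (ha2 : a * a = 1) (hb2 : b * b = 1) (k : ℕ) : (a * b) ^ k * a ∈ D := by
  obtain ⟨g, h | h⟩ := exists_conj_pow_mul ha2 hb2 k <;> rw [h] <;> apply hconj <;> assumption

/-- Two involutions with product of odd order are conjugate by a power of the product. -/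
theorem conj_of_odd {a b : G} (ha : a * a = 1) (hb : b * b = 1) {m : ℕ} (h : orderOf (a * b) = 2 * m + 1) :
    (a * b) ^ m * a * ((a * b) ^ m)⁻¹ = b := by
  rw [← mul_pow_conj ha hb m]
  calc (a * b) ^ m * a * (a * (a * b) ^ m * a) = (a * b) ^ m * (a * a) * (a * b) ^ m * a := by
        simp only [mul_assoc]
    _ = (a * b) ^ (m + m) * a := by rw [ha, mul_one, ← pow_add]
    _ = (a * b)⁻¹ * a := by
      congr 1
      refine eq_inv_of_mul_eq_one_left ?_
      rw [← pow_succ, show m + m + 1 = 2 * m + 1 by omega, ← h]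
      exact pow_orderOf_eq_one _
    _ = b := by rw [mul_inv_rev, inv_eq_self_of_mul_self hb, mul_assoc, inv_mul_cancel, mul_one]

/-- In the even case the half power of the product is centralised. -/
theorem commute_half {a b : G} (ha : a * a = 1) (hb : b * b = 1) {m : ℕ} (h : orderOf (a * b) = 2 * m) :
    Commute ((a * b) ^ m) a := by
  have h1 : ((a * b) ^ m)⁻¹ = (a * b) ^ m := by
    refine inv_eq_of_mul_eq_one_right ?_
    rw [← pow_add, ← two_mul, ← h]
    exact pow_orderOf_eq_one _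
  have h2 := mul_pow_conj ha hb m
  rw [h1] at h2
  show (a * b) ^ m * a = a * (a * b) ^ m
  calc (a * b) ^ m * a = (a * (a * b) ^ m * a) * a := by rw [h2]
    _ = a * (a * b) ^ m * (a * a) := by simp only [mul_assoc]
    _ = a * (a * b) ^ m := by rw [ha, mul_one]

theorem orderOf_conj_eq (g x : G) : orderOf (g * x * g⁻¹) = orderOf x := by
  have := orderOf_injective (MulAut.conj g).toMonoidHom (MulAut.conj g).injective x
  simpa using this

end Cfsg.Lib.ThreeTr
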