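import Cfsg.Agent.ThreeTransposition.SUThreeTwoDerived
import Mathlib

/-!
Groups of order 54 generated by an involution inverting two non-commuting elements of order 3 with
central commutator are all isomorphic; the derived group of SU₃(2) is one of them.
-/

set_option autoImplicit false

namespace Cfsg.Lib.HeisTwo

open Subgroup Cfsg.Lib.Classical.UThreeTwo
open scoped commutatorElement

variable {K : Type*} [Group K]

/-- The relations. -/
structure Rel (a x c d : K) : Prop where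
  a3 : a ^ 3 = 1
  x3 : x ^ 3 = 1
  c3 : c ^ 3 = 1
  d2 : d * d = 1
  ca : c * a = a * c
  cx : c * x = x * c
  cd : c * d = d * c
  da : d * a = a ^ 2 * d
  dx : d * x = x ^ 2 * d
  xa : x * a = a * x * c ^ 2

/-- Normal forms. -/
def nf (a x c d : K) (i j k l : ℕ) : K := a ^ i * x ^ j * c ^ k * d ^ l

variable {a x c d : K}

theorem x_pow_a (h : Rel a x c d) (j : ℕ) : ∀ i, x ^ j * a ^ i = a ^ i * x ^ j * c ^ (2 * i * j) := by
  have hc : ∀ n, Commute (c ^ n) a := fun n => Commute.pow_left h.ca n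
  have hcx : ∀ n, Commute (c ^ n) x := fun n => Commute.pow_left h.cx n
  have h1 : ∀ j, x ^ j * a = a * x ^ j * c ^ (2 * j) := by
    intro j
    induction j with
    | zero => simp
    | succ j ih =>
      rw [pow_succ, mul_assoc, h.xa, ← mul_assoc, ← mul_assoc, ih, mul_assoc (a * x ^ j), (hcx _).eq,
        show 2 * (j + 1) = 2 * j + 2 by ring, pow_add]
      simp only [mul_assoc]
  intro i
  induction i with
  | zero => simp
  | succ i ih =>
    rw [pow_succ, ← mul_assoc, ih, mul_assoc, (hc _).eq, ← mul_assoc, mul_assoc (a ^ i), h1,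
      show 2 * (i + 1) * j = 2 * j + 2 * i * j by ring, pow_add]
    simp only [mul_assoc]

theorem d_pow_pass (h : Rel a x c d) (y : K) (hy : d * y = y ^ 2 * d) :
    ∀ l i : ℕ, d ^ l * y ^ i = y ^ (2 ^ l * i) * d ^ l := by
  have h1 : ∀ i, d * y ^ i = y ^ (2 * i) * d := by
    intro i
    induction i with
    | zero => simp
    | succ i ih => rw [pow_succ, ← mul_assoc, ih, mul_assoc, hy, ← mul_assoc, ← pow_add]; rfl
  intro l
  induction l with
  | zero => simp
  | succ l ih =>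
    intro i
    rw [pow_succ, mul_assoc, h1, ← mul_assoc, ih, mul_assoc, ← pow_succ]
    congr 2
    rw [pow_succ]; ring

theorem nf_mul (h : Rel a x c d) (i j k l i' j' k' l' : ℕ) :
    nf a x c d i j k l * nf a x c d i' j' k' l' =
      nf a x c d (i + 2 ^ l * i') (j + 2 ^ l * j') (k + k' + 2 * (2 ^ l * i') * j) (l + l') := by
  have hca : ∀ n m, c ^ n * a ^ m = a ^ m * c ^ n := fun n m => (Commute.pow_pow h.ca n m).eq
  have hcx : ∀ n m, c ^ n * x ^ m = x ^ m * c ^ n := fun n m => (Commute.pow_pow h.cx n m).eq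
  have hdc : ∀ n m, d ^ n * c ^ m = c ^ m * d ^ n := fun n m => (Commute.pow_pow (Commute.symm h.cd) n m).eq
  unfold nf
  calc a ^ i * x ^ j * c ^ k * d ^ l * (a ^ i' * x ^ j' * c ^ k' * d ^ l')
      = a ^ i * x ^ j * c ^ k * (d ^ l * a ^ i') * x ^ j' * c ^ k' * d ^ l' := by simp only [mul_assoc]
    _ = a ^ i * x ^ j * c ^ k * a ^ (2 ^ l * i') * (d ^ l * x ^ j') * c ^ k' * d ^ l' := by
        rw [d_pow_pass h a h.da]; simp only [mul_assoc]
    _ = a ^ i * x ^ j * (c ^ k * a ^ (2 ^ l * i')) * x ^ (2 ^ l * j') * (d ^ l * c ^ k') * d ^ l' := by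
        rw [d_pow_pass h x h.dx]; simp only [mul_assoc]
    _ = a ^ i * (x ^ j * a ^ (2 ^ l * i')) * (c ^ k * x ^ (2 ^ l * j')) * c ^ k' * (d ^ l * d ^ l') := by
        rw [hca, hdc]; simp only [mul_assoc]
    _ = a ^ i * a ^ (2 ^ l * i') * x ^ j * (c ^ (2 * (2 ^ l * i') * j) * x ^ (2 ^ l * j')) * c ^ k * c ^ k' * (d ^ l * d ^ l') := by
        rw [x_pow_a h, hcx k]; simp only [mul_assoc]
    _ = a ^ (i + 2 ^ l * i') * x ^ (j + 2 ^ l * j') * c ^ (k + k' + 2 * (2 ^ l * i') * j) * d ^ (l + l') := by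
        rw [hcx, show k + k' + 2 * (2 ^ l * i') * j = 2 * (2 ^ l * i') * j + k + k' by ring, pow_add, pow_add, pow_add,
          pow_add, pow_add]
        simp only [mul_assoc]

/-- The normal form map. -/
def psi (a x c d : K) (s : (Fin 3 × Fin 3) × (Fin 3 × Fin 2)) : K := nf a x c d s.1.1 s.1.2 s.2.1 s.2.2

/-- The multiplication rule. -/
def mulRule (s t : (Fin 3 × Fin 3) × (Fin 3 × Fin 2)) : (Fin 3 × Fin 3) × (Fin 3 × Fin 2) :=
  ((Fin.ofNat 3 (s.1.1 + 2 ^ (s.2.2 : ℕ) * t.1.1), Fin.ofNat 3 (s.1.2 + 2 ^ (s.2.2 : ℕ) * t.1.2)),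
    (Fin.ofNat 3 (s.2.1 + t.2.1 + 2 * (2 ^ (s.2.2 : ℕ) * t.1.1) * s.1.2), Fin.ofNat 2 (s.2.2 + t.2.2)))

theorem psi_mul (h : Rel a x c d) (s t) : psi a x c d s * psi a x c d t = psi a x c d (mulRule s t) := by
  have hm : ∀ (y : K) (r : ℕ), y ^ r = 1 → ∀ n, y ^ n = y ^ (n % r) := fun y r hy n =>
    (pow_eq_pow_mod n hy)
  unfold psi
  rw [nf_mul h]
  unfold nf mulRule
  simp only [Fin.val_ofNat]
  rw [← hm a 3 h.a3, ← hm x 3 h.x3, ← hm c 3 h.c3, ← hm d 2 (by rw [pow_two]; exact h.d2)]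

theorem bij_of_card [Finite K] (h : Rel a x c d) (h54 : Nat.card K = 54) (hs : Function.Surjective (psi a x c d)) :
    Function.Bijective (psi a x c d) :=
  (Nat.bijective_iff_surjective_and_card _).mpr ⟨hs, by rw [Nat.card_eq_fintype_card, h54]; rfl⟩

theorem nonempty_mulEquiv {K' : Type*} [Group K'] {a' x' c' d' : K'} (h : Rel a x c d) (h' : Rel a' x' c' d')
    (hb : Function.Bijective (psi a x c d)) (hb' : Function.Bijective (psi a' x' c' d')) : Nonempty (K ≃* K') := by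
  let e := Equiv.ofBijective _ hb
  let e' := Equiv.ofBijective _ hb'
  refine ⟨MulEquiv.mk (e.symm.trans e') fun u v => ?_⟩
  obtain ⟨s, rfl⟩ := e.surjective u
  obtain ⟨t, rfl⟩ := e.surjective v
  show e' (e.symm (e s * e t)) = e' (e.symm (e s)) * e' (e.symm (e t))
  rw [show e s * e t = e (mulRule s t) from psi_mul h s t, e.symm_apply_apply, e.symm_apply_apply, e.symm_apply_apply]
  exact (psi_mul h' s t).symm

/-- Codes of the square of the Fourier matrix. -/
def mT : Code := mmul mA mA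

/-- Normal form codes. -/
def psiCode (s : (Fin 3 × Fin 3) × (Fin 3 × Fin 2)) : Code :=
  mmul (mmul (mmul (cpow mD s.1.1) (cpow mC s.1.2)) (scal (![1, 2, 3] s.2.1))) (cpow mT s.2.2)

theorem mA_good : Good mA := by decide +kernel

theorem mB_good : Good mB := by decide +kernel

theorem mT_good : Good mT := by decide +kernel

theorem psiCode_injective : ∀ s t, psiCode s = psiCode t → s = t := by decide +kernel

theorem code_facts :
    mmul (mmul mD mD) mD = scal 1 ∧ mmul (mmul mC mC) mC = scal 1 ∧ mmul (mmul (scal 2) (scal 2)) (scal 2) = scal 1 ∧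
    mmul mT mT = scal 1 ∧ mmul mT mD = mmul (mmul mD mD) mT ∧ mmul mT mC = mmul (mmul mC mC) mT ∧
    mmul mC mD = mmul (mmul mD mC) (mmul (scal 2) (scal 2)) ∧
    mmul mT mA = mmul mA mT ∧ mmul mA mB = mmul mT (mmul mB mA) := by decide +kernel

theorem target {F : Type*} [Field F] [Fintype F] (hF : Fintype.card F = 4) :
    ∃ a x c d : ↥(commutator ↥(Cfsg.SU 3 F 2)), Rel a x c d ∧ Function.Bijective (psi a x c d) := by
  classical
  obtain ⟨_, ω, hω⟩ := exists_omega hF
  set S := Cfsg.SU 3 F 2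
  obtain ⟨f1, f2, f3, f4, f5, f6, f7, -, f9⟩ := code_facts
  have hd' : Nat.card ↥(commutator ↥S) ∣ 54 := (Cfsg.Lib.SUThreeTwoDerived.derived_facts hF).1
  let M : S → Matrix (Fin 3) (Fin 3) F := fun g => ((g : Matrix.SpecialLinearGroup (Fin 3) F) : Matrix (Fin 3) (Fin 3) F)
  have Minj : Function.Injective M := fun g g' e => Subtype.ext (Subtype.ext e)
  have Mmul : ∀ g g', M (g * g') = M g * M g' := fun _ _ => rfl
  have hone : M 1 = 1 := rfl
  let A0 := el hω mA mA_good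
  let B0 := el hω mB mB_good
  let a0 := el hω mD mD_good
  let x0 := el hω mC mC_good
  let c0 := el hω (scal 2) (scal_good 2 (by decide))
  let d0 := el hω mT mT_good
  have em : ∀ (X : Code) (h : Good X), M (el hω X h) = X.map (ev ω) := fun _ _ => rfl
  have hcz : c0 ∈ center S := el_scal_mem_center hω 2 _
  have d02 : d0 * d0 = 1 := Minj (by rw [Mmul, em, ← map_mmul hω, f4, map_scal_one hω, hone])
  have a03 : a0 ^ 3 = 1 := Minj (by rw [pow_succ, pow_two, Mmul, Mmul, em, ← map_mmul hω, ← map_mmul hω, f1, map_scal_one hω, hone])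
  have x03 : x0 ^ 3 = 1 := Minj (by rw [pow_succ, pow_two, Mmul, Mmul, em, ← map_mmul hω, ← map_mmul hω, f2, map_scal_one hω, hone])
  have c03 : c0 ^ 3 = 1 := Minj (by rw [pow_succ, pow_two, Mmul, Mmul, em, ← map_mmul hω, ← map_mmul hω, f3, map_scal_one hω, hone])
  have da0 : d0 * a0 = a0 ^ 2 * d0 := Minj (by rw [pow_two, Mmul, Mmul, Mmul, em, em, ← map_mmul hω, ← map_mmul hω, ← map_mmul hω, f5])
  have dx0 : d0 * x0 = x0 ^ 2 * d0 := Minj (by rw [pow_two, Mmul, Mmul, Mmul, em, em, ← map_mmul hω, ← map_mmul hω, ← map_mmul hω, f6])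
  have xa0 : x0 * a0 = a0 * x0 * c0 ^ 2 := Minj (by
    rw [pow_two, Mmul, Mmul, Mmul, Mmul, em, em, em, ← map_mmul hω, ← map_mmul hω, ← map_mmul hω, ← map_mmul hω, f7])
  have hdmem : d0 ∈ commutator ↥S := by
    have e : A0 * B0 = d0 * (B0 * A0) := Minj (by
      rw [Mmul, Mmul, Mmul, em, em, em, ← map_mmul hω, ← map_mmul hω, ← map_mmul hω, f9])
    have e' : ⁅A0, B0⁆ = d0 := by rw [commutatorElement_def, e]; group
    exact e' ▸ commutator_mem_commutator (mem_top A0) (mem_top B0)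
  have hmem : ∀ y : S, d0 * y = y ^ 2 * d0 → y ^ 3 = 1 → y ∈ commutator ↥S := by
    intro y hy h3
    have e' : ⁅d0, y⁆ = y := by
      rw [commutatorElement_def, inv_eq_of_mul_eq_one_right d02, hy, mul_assoc (y ^ 2), d02, mul_one, pow_two]
      group
    exact e' ▸ commutator_mem_commutator (mem_top d0) (mem_top y)
  have ham := hmem a0 da0 a03
  have hxm := hmem x0 dx0 x03
  have hcm : c0 ∈ commutator ↥S := by
    have hc : ∀ y : S, Commute (c0 ^ 2) y := fun y => Commute.pow_left (mem_center_iff.mp hcz y).symm 2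
    have e : ⁅x0, a0⁆ = c0 ^ 2 := by
      rw [commutatorElement_def, xa0, mul_assoc (a0 * x0), (hc x0⁻¹).eq, ← mul_assoc,
        mul_inv_cancel_right, mul_assoc, (hc a0⁻¹).eq, ← mul_assoc, mul_inv_cancel, one_mul]
    have h2 : c0 ^ 2 ∈ commutator ↥S := e ▸ commutator_mem_commutator (mem_top x0) (mem_top a0)
    have := pow_mem h2 2
    rwa [← pow_mul, show 2 * 2 = 3 + 1 from rfl, pow_succ, c03, one_mul] at this
  refine ⟨⟨a0, ham⟩, ⟨x0, hxm⟩, ⟨c0, hcm⟩, ⟨d0, hdmem⟩, ⟨Subtype.ext a03, Subtype.ext x03, Subtype.ext c03,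
    Subtype.ext d02, Subtype.ext (mem_center_iff.mp hcz _).symm, Subtype.ext (mem_center_iff.mp hcz _).symm,
    Subtype.ext (mem_center_iff.mp hcz _).symm, Subtype.ext da0, Subtype.ext dx0, Subtype.ext xa0⟩, ?_⟩
  set q := psi (⟨a0, ham⟩ : ↥(commutator ↥S)) ⟨x0, hxm⟩ ⟨c0, hcm⟩ ⟨d0, hdmem⟩
  have hpow : ∀ (X : Code) (h : Good X) (n : ℕ), M (el hω X h ^ n) = (cpow X n).map (ev ω) := by
    intro X h n
    induction n with
    | zero => rw [pow_zero, hone]; exact (map_scal_one hω).symm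
    | succ n ih => rw [pow_succ, Mmul, ih, em, ← map_mmul hω]; rfl
  have hsc : ∀ k : Fin 3, cpow (scal 2) k = scal (![1, 2, 3] k) := by decide +kernel
  have hM : ∀ s, M ((q s : ↥(commutator ↥S)) : S) = (psiCode s).map (ev ω) := by
    intro s
    show M (a0 ^ (s.1.1 : ℕ) * x0 ^ (s.1.2 : ℕ) * c0 ^ (s.2.1 : ℕ) * d0 ^ (s.2.2 : ℕ)) = _
    rw [Mmul, Mmul, Mmul, hpow, hpow, hpow, hpow, ← map_mmul hω, ← map_mmul hω, ← map_mmul hω, hsc]
    rfl
  have hinj : Function.Injective q := fun s t e => psiCode_injective s t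
    (Matrix.map_injective (ev_injective hω) ((hM s).symm.trans ((congrArg (fun u : ↥(commutator ↥S) => M (u : S)) e).trans (hM t))))
  haveI : Finite ↥(commutator ↥S) := inferInstance
  have hle := Nat.card_le_card_of_injective q hinj
  rw [show Nat.card ((Fin 3 × Fin 3) × (Fin 3 × Fin 2)) = 54 by rw [Nat.card_eq_fintype_card]; rfl] at hle
  exact (Nat.bijective_iff_injective_and_card q).mpr ⟨hinj, by
    rw [show Nat.card ((Fin 3 × Fin 3) × (Fin 3 × Fin 2)) = 54 by rw [Nat.card_eq_fintype_card]; rfl]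
    exact le_antisymm hle (Nat.le_of_dvd (by omega) hd')⟩

end Cfsg.Lib.HeisTwo
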