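import Cfsg.Agent.ThreeTransposition.SylowFacts

/-!
A Frattini argument for large extraspecial subgroups; classes of involutions with odd products.
-/

namespace Cfsg.Lib.ThreeTr

open Cfsg

variable {G : Type*} [Group G]

theorem frattini_large [Finite G] {Q : Subgroup G} (hQ : IsLargeExtraspecial Q) {L : Subgroup G} [L.Normal]
    (hQL : Q ≤ L) : L ⊔ Subgroup.normalizer (Q : Set G) = ⊤ := by
  obtain ⟨⟨⟨hQ2, -, -⟩, hcard⟩, hcent, hnorm, -⟩ := hQ
  have huniq : ∀ u v : G, u ≠ 1 → v ≠ 1 → u ∈ Subgroup.centralizer (Q : Set G) →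
      v ∈ Subgroup.centralizer (Q : Set G) → u = v := by
    intro u v hu hv huc hvc
    rw [hcent] at huc hvc
    obtain ⟨a, ha, rfl⟩ := huc
    obtain ⟨b, hb, rfl⟩ := hvc
    obtain ⟨y, -, hy'⟩ := (Nat.card_eq_two_iff' (1 : Subgroup.center Q)).mp hcard
    have h1 := hy' ⟨a, ha⟩ fun e => hu (congrArg (fun w : Subgroup.center Q => ((w : Q) : G)) e)
    have h2 := hy' ⟨b, hb⟩ fun e => hv (congrArg (fun w : Subgroup.center Q => ((w : Q) : G)) e)
    exact congrArg (fun w : Subgroup.center Q => ((w : Q) : G)) (h1.trans h2.symm)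
  have hQ2' : IsPGroup 2 (Q.subgroupOf L) := hQ2.of_equiv (Subgroup.subgroupOfEquivOfLe hQL).symm
  obtain ⟨P, hP⟩ := hQ2'.exists_le_sylow
  refine eq_top_iff.mpr fun g _ => ?_
  -- a conjugate of `Q` inside `L`
  have hg2 : IsPGroup 2 ((Q.map (MulAut.conj g).toMonoidHom).subgroupOf L) := by
    have hle : Q.map (MulAut.conj g).toMonoidHom ≤ L := by
      rintro _ ⟨q, hq, rfl⟩
      exact Subgroup.Normal.conj_mem inferInstance q (hQL hq) g
    exact (hQ2.of_equiv (Subgroup.equivMapOfInjective Q _ (MulAut.conj g).injective)).of_equiv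
      (Subgroup.subgroupOfEquivOfLe hle).symm
  obtain ⟨P', hP'⟩ := hg2.exists_le_sylow
  obtain ⟨l, hl⟩ := MulAction.exists_smul_eq L P' P
  set k := (l : G) * g with hk
  have hkQ : ∀ q ∈ Q, ∃ h : k * q * k⁻¹ ∈ L, (⟨_, h⟩ : L) ∈ P := by
    intro q hq
    refine ⟨Subgroup.Normal.conj_mem inferInstance q (hQL hq) k, ?_⟩
    rw [← hl]
    show _ ∈ ((l • P' : Sylow 2 L) : Subgroup L)
    rw [Sylow.coe_subgroup_smul, Subgroup.mem_pointwise_smul_iff_inv_smul_mem]
    refine hP' (Subgroup.mem_subgroupOf.mpr ⟨q, hq, ?_⟩)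
    simp only [MulAut.smul_def, MulAut.conj_inv_apply, MulEquiv.coe_toMonoidHom, MulAut.conj_apply, hk,
      Subgroup.coe_mul, Subgroup.coe_inv]
    group
  have hne : (P : Subgroup L) ≠ ⊥ := by
    intro hbot
    obtain ⟨y, hy, -⟩ := (Nat.card_eq_two_iff' (1 : Subgroup.center Q)).mp hcard
    have hy1 : ((y : Q) : G) ≠ 1 := fun e => hy (Subtype.ext (Subtype.ext e))
    have hmem : (⟨((y : Q) : G), hQL (y : Q).2⟩ : L) ∈ (P : Subgroup L) :=
      hP (Subgroup.mem_subgroupOf.mpr (y : Q).2)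
    rw [hbot, Subgroup.mem_bot] at hmem
    exact hy1 (congrArg Subtype.val hmem)
  have : Nontrivial (P : Subgroup L) := (Subgroup.nontrivial_iff_ne_bot _).mpr hne
  have := P.2.center_nontrivial
  obtain ⟨c, hc⟩ := exists_ne (1 : Subgroup.center (P : Subgroup L))
  set c' : G := (((c : (P : Subgroup L)) : L) : G) with hc'
  have hc1 : c' ≠ 1 := fun e => hc (Subtype.ext (Subtype.ext (Subtype.ext e)))
  have hcomm : ∀ x : L, x ∈ P → (x : G) * c' = c' * x := fun x hx =>
    congrArg (fun w : (P : Subgroup L) => ((w : L) : G)) (Subgroup.mem_center_iff.mp c.2 ⟨x, hx⟩)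
  have h1 : c' ∈ Subgroup.centralizer (Q : Set G) := Subgroup.mem_centralizer_iff.mpr fun q hq =>
    hcomm ⟨q, hQL hq⟩ (hP (Subgroup.mem_subgroupOf.mpr hq))
  have h2 : k⁻¹ * c' * k ∈ Subgroup.centralizer (Q : Set G) := by
    refine Subgroup.mem_centralizer_iff.mpr fun q hq => ?_
    obtain ⟨h, hh⟩ := hkQ q hq
    calc q * (k⁻¹ * c' * k) = k⁻¹ * ((k * q * k⁻¹) * c') * k := by group
      _ = k⁻¹ * (c' * (k * q * k⁻¹)) * k := congrArg (fun w => k⁻¹ * w * k) (hcomm ⟨_, h⟩ hh)
      _ = k⁻¹ * c' * k * q := by group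
  have heq : k⁻¹ * c' * k = c' := huniq _ _ (fun e => hc1 (by
    calc c' = k * (k⁻¹ * c' * k) * k⁻¹ := by group
      _ = 1 := by rw [e, mul_one, mul_inv_cancel])) hc1 h2 h1
  have hkN : k ∈ Subgroup.normalizer (Q : Set G) := by
    refine hnorm (Subgroup.mem_centralizer_iff.mpr fun x hx => ?_)
    by_cases hx1 : x = 1
    · rw [hx1, one_mul, mul_one]
    rw [huniq x c' hx1 hc1 (hcent ▸ hx) h1]
    calc c' * k = k * (k⁻¹ * c' * k) := by group
      _ = k * c' := by rw [heq]
  have : g = (l : G)⁻¹ * k := by rw [hk, inv_mul_cancel_left]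
  rw [this]
  exact mul_mem (Subgroup.mem_sup_left (inv_mem l.2)) (Subgroup.mem_sup_right hkN)

theorem odd_class_unique [Finite G] (d : G) (hd : orderOf d = 2)
    (hodd : ∀ a ∈ conjugatesOf d, ∀ b ∈ conjugatesOf d, Odd (orderOf (a * b))) (x : G) (hx : orderOf x = 2) :
    ∀ e ∈ conjugatesOf d, ∃! a : G, a ∈ conjugatesOf d ∧ Commute a x ∧ Commute e (a * x) := by
  intro e he
  have hC2 : ∀ a ∈ conjugatesOf d, a * a = 1 := fun a ha => by
    obtain ⟨g, rfl⟩ := isConj_iff.mp ha
    exact mul_self_of_orderOf_two (by rw [orderOf_conj_eq, hd])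
  have hconj : ∀ g : G, ∀ a ∈ conjugatesOf d, g * a * g⁻¹ ∈ conjugatesOf d := fun g a ha =>
    IsConj.trans ha (isConj_iff.mpr ⟨g, rfl⟩)
  have he2 := hC2 e he
  have hx2 := mul_self_of_orderOf_two hx
  set f := x * e * x with hf
  have hfC : f ∈ conjugatesOf d := by
    have := hconj x e he; rwa [inv_eq_self_of_mul_self hx2] at this
  have hf2 := hC2 f hfC
  obtain ⟨r, hr⟩ := hodd e he f hfC
  set q := e * f with hq
  have hqn : q ^ (2 * r + 1) = 1 := hr ▸ pow_orderOf_eq_one _
  have hqh : (q ^ (r + 1)) ^ 2 = q := by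
    rw [← pow_mul, show (r + 1) * 2 = (2 * r + 1) + 1 by ring, pow_succ, hqn, one_mul]
  set a := e * q ^ (r + 1) with ha
  have haC : a ∈ conjugatesOf d := by
    have h := mul_pow_conj he2 hf2 ((r + 1) * (r + 1))
    set s := q ^ ((r + 1) * (r + 1)) with hs
    have hss : s * s = q ^ (r + 1) := by
      rw [hs, ← pow_add, show (r + 1) * (r + 1) + (r + 1) * (r + 1) = (r + 1) * 2 * (r + 1) by ring, pow_mul,
        pow_mul, hqh]
    have hse : s⁻¹ * e = e * s := by rw [← h, mul_assoc, he2, mul_one]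
    have : a = s⁻¹ * e * s := by rw [hse, mul_assoc, hss]
    rw [this]
    have := hconj s⁻¹ e he
    rwa [inv_inv] at this
  have hxqx : ∀ k : ℕ, x * q ^ k * x = (q ^ k)⁻¹ := by
    intro k
    induction k with
    | zero => simp [hx2]
    | succ k ih =>
      have h1 : x * q * x = q⁻¹ := by
        rw [hq, mul_inv_rev, inv_eq_self_of_mul_self he2, inv_eq_self_of_mul_self hf2, hf]
        calc x * (e * (x * e * x)) * x = x * e * x * e * (x * x) := by simp only [mul_assoc]
          _ = x * e * x * e := by rw [hx2, mul_one]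
      calc x * q ^ (k + 1) * x = x * q ^ k * (x * x) * q * x := by rw [hx2, mul_one, pow_succ]; simp only [mul_assoc]
        _ = (x * q ^ k * x) * (x * q * x) := by simp only [mul_assoc]
        _ = (q ^ k)⁻¹ * q⁻¹ := by rw [ih, h1]
        _ = (q ^ (k + 1))⁻¹ := by rw [← mul_inv_rev, ← pow_succ']
  have hax : Commute a x := by
    have : x * a * x = a := by
      calc x * a * x = x * e * (x * x) * q ^ (r + 1) * x := by rw [hx2, mul_one, ha]; simp only [mul_assoc]
        _ = f * (x * q ^ (r + 1) * x) := by simp only [hf, mul_assoc]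
        _ = f * (q ^ (r + 1))⁻¹ := by rw [hxqx]
        _ = e * (q * (q ^ (r + 1))⁻¹) := by
          have hfq : f = e * q := by rw [hq, ← mul_assoc, he2, one_mul]
          generalize (q ^ (r + 1))⁻¹ = z
          rw [hfq, mul_assoc]
        _ = a := by
          rw [ha]; congr 1
          rw [mul_inv_eq_iff_eq_mul, ← pow_add, show r + 1 + (r + 1) = (2 * r + 1) + 1 by ring, pow_succ, hqn, one_mul]
    calc a * x = x * a * x * x := by rw [this]
      _ = x * a := by rw [mul_assoc (x * a), hx2, mul_one]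
  have haef : ∀ b : G, b * b = 1 → Commute b x → (Commute e (b * x) ↔ (e * b) * (e * b) = q) := by
    intro b hb2 hbx
    constructor
    · intro hc
      have h2 : b * (x * (e * x) * b) = e := by
        calc b * (x * (e * x) * b) = (b * x) * e * (x * b) := by simp only [mul_assoc]
          _ = e * (b * x) * (x * b) := by rw [hc.eq]
          _ = e * (b * (x * x) * b) := by simp only [mul_assoc]
          _ = e := by rw [hx2, mul_one, hb2, mul_one]
      calc (e * b) * (e * b) = e * b * (b * (x * (e * x) * b)) * b := by rw [h2]; simp only [mul_assoc]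
        _ = e * (b * b) * (x * (e * x)) * (b * b) := by simp only [mul_assoc]
        _ = q := by rw [hb2, mul_one, mul_one, hq, hf]; simp only [mul_assoc]
    · intro h
      have h1 : b * e * b = f := by
        have : e * (b * e * b) = e * f := by rw [← hq, ← h]; simp only [mul_assoc]
        exact mul_left_cancel this
      show e * (b * x) = b * x * e
      calc e * (b * x) = (b * b) * e * (b * x) := by rw [hb2, one_mul]
        _ = b * (b * e * b) * x := by simp only [mul_assoc]
        _ = b * x * e * (x * x) := by rw [h1, hf]; simp only [mul_assoc]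
        _ = b * x * e := by rw [hx2, mul_one]
  have hea : e * a = q ^ (r + 1) := by rw [ha, ← mul_assoc, he2, one_mul]
  refine ⟨a, ⟨haC, hax, (haef a (hC2 a haC) hax).mpr (by rw [hea, ← sq, hqh])⟩, ?_⟩
  rintro b ⟨hbC, hbx, hbe⟩
  have hb := (haef b (hC2 b hbC) hbx).mp hbe
  obtain ⟨s, hs⟩ := hodd e he b hbC
  have hord : orderOf q = orderOf (e * b) := by
    rw [← hb, ← sq]
    exact Nat.Coprime.orderOf_pow (hs ▸ (Nat.coprime_two_right).mpr ⟨s, rfl⟩)
  rw [hr, hs] at hord
  have hrs : r = s := by omega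
  have heb : e * b = q ^ (r + 1) := by
    rw [← hb, ← sq, ← pow_mul, show 2 * (r + 1) = (2 * s + 1) + 1 by omega, pow_succ, ← hs, pow_orderOf_eq_one,
      one_mul]
  exact mul_left_cancel (heb.trans hea.symm)

end Cfsg.Lib.ThreeTr
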