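import Cfsg.Agent.ThreeTransposition.HeisTwo
import Cfsg.Agent.ThreeTransposition.SplitRadical
import Cfsg.Agent.OddChar.KernelCoherence
import Cfsg.Agent.PGroups.Basic
import Mathlib

/-!
A group generated by a class of pairwise non-commuting 3-transpositions acting faithfully on an elementary
abelian 2-group, a transposition fixing whatever its product with another one fixes, has order 6 or is the
derived group of SU₃(2).
-/

set_option autoImplicit false

namespace Cfsg.Lib.TwoThree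

open Subgroup
open scoped commutatorElement

variable {K V : Type*} [Group K] [CommGroup V]

/-- If on a stable subgroup whatever is fixed by an element of order 3 among two commuting ones is fixed by
both, then both are trivial there. -/
theorem fix_all (hV2 : ∀ v : V, v * v = 1) (A B : MulAut V) (U : Subgroup V)
    (hAU : ∀ u ∈ U, A u ∈ U) (hBU : ∀ u ∈ U, B u ∈ U)
    (hA3 : ∀ u ∈ U, A (A (A u)) = u) (hB3 : ∀ u ∈ U, B (B (B u)) = u) (hAB : ∀ u ∈ U, A (B u) = B (A u))
    (h1 : ∀ u ∈ U, A u = u → B u = u) (h2 : ∀ u ∈ U, B u = u → A u = u)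
    (h3 : ∀ u ∈ U, A (B u) = u → A u = u ∧ B u = u) (h4 : ∀ u ∈ U, A (B (B u)) = u → A u = u ∧ B u = u)
    (v : V) (hv : v ∈ U) : A v = v ∧ B v = v := by
  have hA2 := hAU
  -- the nine images
  set v10 := A v with e10
  set v20 := A v10 with e20
  set v01 := B v with e01
  set v02 := B v01 with e02
  set v11 := A v01 with e11
  set v12 := A v02 with e12
  set v21 := A v11 with e21
  set v22 := A v12 with e22
  have m10 : v10 ∈ U := hAU _ hv
  have m20 : v20 ∈ U := hAU _ m10
  have m01 : v01 ∈ U := hBU _ hv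
  have m02 : v02 ∈ U := hBU _ m01
  have m11 : v11 ∈ U := hAU _ m01
  have m12 : v12 ∈ U := hAU _ m02
  have m21 : v21 ∈ U := hAU _ m11
  have m22 : v22 ∈ U := hAU _ m12
  -- the images under A and B
  have a20 : A v20 = v := hA3 v hv
  have a21 : A v21 = v01 := hA3 v01 m01
  have a22 : A v22 = v02 := hA3 v02 m02
  have b02 : B v02 = v := hB3 v hv
  have b10 : B v10 = v11 := (hAB v hv).symm
  have b11 : B v11 = v12 := (hAB v01 m01).symm
  have b12 : B v12 = v10 := by rw [e12, ← hAB v02 m02, b02]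
  have b20 : B v20 = v21 := by rw [e20, ← hAB v10 m10, b10]
  have b21 : B v21 = v22 := by rw [e21, ← hAB v11 m11, b11]
  have b22 : B v22 = v20 := by rw [e22, ← hAB v12 m12, b12]
  have c1 : A (v * v10 * v20) = v * v10 * v20 := by
    rw [map_mul, map_mul, ← e10, ← e20, a20]; ac_rfl
  have c2 : B (v * v01 * v02) = v * v01 * v02 := by
    rw [map_mul, map_mul, ← e01, ← e02, b02]; ac_rfl
  have c3 : A (B (v * v11 * v22)) = v * v11 * v22 := by
    simp only [map_mul]; rw [← e01, b11, b22, ← e11, ← e22, a20]; ac_rfl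
  have c4 : A (B (B (v * v12 * v21))) = v * v12 * v21 := by
    simp only [map_mul]; rw [← e01, ← e02, b12, b10, b21, b22, ← e12, a20]
    rw [show A v11 = v21 from rfl]
    ac_rfl
  have c5 : A ((v * v10 * v20) * (v01 * v11 * v21) * (v02 * v12 * v22)) =
      (v * v10 * v20) * (v01 * v11 * v21) * (v02 * v12 * v22) := by
    simp only [map_mul]; rw [← e10, ← e20, a20, ← e11, ← e21, a21, ← e12, ← e22, a22]; ac_rfl
  have n1 := h1 _ (U.mul_mem (U.mul_mem hv m10) m20) c1
  have n2 := h2 _ (U.mul_mem (U.mul_mem hv m01) m02) c2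
  obtain ⟨n3, n3'⟩ := h3 _ (U.mul_mem (U.mul_mem hv m11) m22) c3
  obtain ⟨n4, n4'⟩ := h4 _ (U.mul_mem (U.mul_mem hv m12) m21) c4
  have n5 := h1 _ (U.mul_mem (U.mul_mem (U.mul_mem (U.mul_mem hv m10) m20) (U.mul_mem (U.mul_mem m01 m11) m21))
    (U.mul_mem (U.mul_mem m02 m12) m22)) c5
  have key : v = (v * v10 * v20) * (v * v01 * v02) * (v * v11 * v22) * (v * v12 * v21) *
      ((v * v10 * v20) * (v01 * v11 * v21) * (v02 * v12 * v22)) := by
    calc v = v * ((v * v) * (v * v) * (v10 * v10) * (v20 * v20) * (v01 * v01) * (v02 * v02) * (v11 * v11) *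
        (v12 * v12) * (v21 * v21) * (v22 * v22)) := by simp [hV2]
      _ = _ := by ac_rfl
  have fin : ∀ C : MulAut V, C (v * v10 * v20) = v * v10 * v20 → C (v * v01 * v02) = v * v01 * v02 →
      C (v * v11 * v22) = v * v11 * v22 → C (v * v12 * v21) = v * v12 * v21 →
      C ((v * v10 * v20) * (v01 * v11 * v21) * (v02 * v12 * v22)) = (v * v10 * v20) * (v01 * v11 * v21) * (v02 * v12 * v22) →
      C v = v := fun C p1 p2 p3 p4 p5 => by
    have h := congrArg C key
    rw [map_mul C _ ((v * v10 * v20) * (v01 * v11 * v21) * (v02 * v12 * v22)), map_mul C _ (v * v12 * v21),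
      map_mul C _ (v * v11 * v22), map_mul C (v * v10 * v20) (v * v01 * v02), p1, p2, p3, p4, p5] at h
    exact h.trans key.symm
  exact ⟨fin A c1 n2 n3 n4 c5, fin B n1 c2 n3' n4' n5⟩

/-- Elements of P inverted by d. -/
def Inv (P : Subgroup K) (d x : K) : Prop := x ∈ P ∧ d * x * d = x⁻¹

theorem main [Finite K] (hV2 : ∀ v : V, v * v = 1) (α : K →* MulAut V) (hα : Function.Injective α)
    (P : Subgroup K) [P.Normal] (hP : IsPGroup 3 P) {D : Set K} (hD : Cfsg.IsThreeTranspositionClass D)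
    {d : K} (hd : d ∈ D) (hdP : d ∉ P) (hmem : ∀ e ∈ D, d * e ∈ P) (hne : ∃ e ∈ D, e ≠ d)
    (hfix : ∀ a ∈ D, ∀ b ∈ D, a * b ∈ P → a ≠ b → ∀ v, α (a * b) v = v → α a v = v) :
    Nonempty (K ≃* Equiv.Perm (Fin 3)) ∨
      ∃ a x c t : K, HeisTwo.Rel a x c t ∧ Function.Bijective (HeisTwo.psi a x c t) := by
  classical
  haveI := Fact.mk Nat.prime_three
  haveI hPnil : Group.IsNilpotent P := hP.isNilpotent
  have d2 : d * d = 1 := Cfsg.Lib.SplitRadical.sq_one hD hd
  have dinv : d⁻¹ = d := inv_eq_of_mul_eq_one_left d2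
  have dd : ∀ y : K, d * (d * y) = y := fun y => by rw [← mul_assoc, d2, one_mul]
  have dyd : ∀ y : K, d * y * d ∈ P ↔ y ∈ P := fun y => by
    constructor
    · intro h
      have := Subgroup.Normal.conj_mem (H := P) inferInstance _ h d
      rwa [dinv, show d * (d * y * d) * d = y by simp [mul_assoc, dd, d2]] at this
    · intro h
      have := Subgroup.Normal.conj_mem (H := P) inferInstance y h d
      rwa [dinv] at this
  have hconjd : ∀ y w : K, d * (y * w) * d = (d * y * d) * (d * w * d) := fun y w => by simp [mul_assoc, dd]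
  have hsqrt : ∀ x : K, x ∈ P → ∃ n : ℕ, (x ^ n) ^ 2 = x := fun x hx => by
    obtain ⟨k, hk⟩ := hP ⟨x, hx⟩
    have hk' : x ^ 3 ^ k = 1 := congrArg Subtype.val hk
    obtain ⟨t, ht⟩ : ∃ t, 3 ^ k + 1 = 2 * t := by
      obtain ⟨t, ht⟩ := Odd.pow (n := k) (show Odd 3 by decide)
      exact ⟨t + 1, by omega⟩
    exact ⟨t, by rw [← pow_mul, mul_comm, ← ht, pow_succ, hk', one_mul]⟩
  have hsmall : ∀ y : K, y ∈ P → y * y = 1 → y = 1 := fun y hy h => by
    obtain ⟨n, hn⟩ := hsqrt y hy
    rw [← pow_mul, mul_comm, pow_mul, pow_two, h, one_pow] at hn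
    exact hn.symm
  have hInvD : ∀ {x : K}, Inv P d x → d * x ∈ D := by
    rintro x ⟨hx, hxi⟩
    obtain ⟨n, hn⟩ := hsqrt x hx
    have hc : d * (x ^ n) * d = (x ^ n)⁻¹ := by
      rw [← inv_pow, ← hxi]
      clear hn
      induction n with
      | zero => simp [d2]
      | succ n ih => rw [pow_succ, hconjd, ih, pow_succ]
    have : d * x = (x ^ n)⁻¹ * d * (x ^ n)⁻¹⁻¹ := by
      rw [inv_inv, ← hc]
      simp only [mul_assoc, dd, d2, one_mul]
      rw [← pow_two, hn]
    rw [this]; exact Cfsg.Lib.SplitRadical.conj_mem_class hD hd _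
  have hcube : ∀ {x : K}, Inv P d x → x ^ 3 = 1 := by
    intro x hx
    rcases hD.1.2 d hd (d * x) (hInvD hx) with h | h
    · rw [dd] at h
      rw [hsmall x hx.1 (by rw [← pow_two]; exact h), one_pow]
    · rwa [dd] at h
  have hfx : ∀ {x : K}, Inv P d x → x ≠ 1 → ∀ v, α x v = v → α d v = v := by
    intro x hx hx1 v hv
    refine hfix d hd (d * x) (hInvD hx) (by rw [dd]; exact hx.1) (fun e => hx1 ?_) v (by rwa [dd])
    exact mul_left_cancel (a := d) (by rw [mul_one]; exact e.symm)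
  have hInvPair : ∀ e ∈ D, Inv P d (d * e) := fun e he => ⟨hmem e he, by
    rw [mul_inv_rev, dinv, Cfsg.Lib.SplitRadical.inv_self hD he, dd]⟩
  have αmul : ∀ (y w : K) (v : V), α (y * w) v = α y (α w v) := fun y w v => by rw [map_mul]; rfl
  have αone : ∀ v : V, α 1 v = v := fun v => by rw [map_one]; rfl
  have hα' : ∀ y : K, (∀ v, α y v = v) → y = 1 := fun y h => hα (by rw [map_one]; exact MulEquiv.ext h)
  -- fixed points of g are fixed by h as soon as they commute there
  have htrick : ∀ {g h : K}, Inv P d g → g ≠ 1 → Inv P d h → ∀ v : V, α g v = v → α g (α h v) = α h v → α h v = v := by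
    intro g h hg hg1 hh v hv hv'
    have f1 := hfx hg hg1 v hv
    have f2 := hfx hg hg1 _ hv'
    have e1 : d * h = h⁻¹ * d := by rw [← hh.2]; simp [mul_assoc, d2]
    have e2 : α h⁻¹ v = α h v := by rw [← f2, ← αmul, e1, αmul, f1]
    have e3 : α (h * h) v = v := by rw [αmul, ← e2, ← αmul, mul_inv_cancel, αone]
    have h3 := congrArg (fun y => α y v) (hcube hh)
    simp only [αone, pow_succ, pow_zero, one_mul, αmul] at h3
    rw [αmul] at e3
    exact (congrArg (α h) e3).symm.trans h3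
  have hnine : ∀ {x y : K}, Inv P d x → Inv P d y → Commute x y → x ≠ 1 → y ∈ zpowers x := by
    intro x y hx hy hc hx1
    by_contra hny
    have hy1 : y ≠ 1 := fun e => hny (e ▸ one_mem _)
    have hxy : Inv P d (x * y) := ⟨mul_mem hx.1 hy.1, by rw [hconjd, hx.2, hy.2, ← mul_inv_rev, hc.eq]⟩
    have hxyy : Inv P d (x * (y * y)) := ⟨mul_mem hx.1 (mul_mem hy.1 hy.1), by
      rw [hconjd, hconjd, hx.2, hy.2, ← mul_inv_rev, ← mul_inv_rev, (hc.mul_right hc).eq]⟩
    have n1 : x * y ≠ 1 := fun e => hny (by rw [eq_inv_of_mul_eq_one_right e]; exact inv_mem (mem_zpowers x))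
    have n2 : x * (y * y) ≠ 1 := fun e => hny (by
      have h2 : y * y = x⁻¹ := eq_inv_of_mul_eq_one_right e
      have h3 := hcube hy
      have e' : y = (y * y) * (y * y) := by rw [← mul_assoc, show y * y * y = 1 by rw [← h3]; simp [pow_succ, pow_two], one_mul]
      rw [e', h2]; exact mul_mem (inv_mem (mem_zpowers x)) (inv_mem (mem_zpowers x)))
    have comm' : ∀ {g h : K}, Commute g h → ∀ v, α g v = v → α g (α h v) = α h v := fun hgh v hv => by
      rw [← αmul, hgh.eq, αmul, hv]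
    have hall : ∀ v : V, α x v = v ∧ α y v = v := fun v => fix_all hV2 (α x) (α y) ⊤ (fun _ _ => trivial) (fun _ _ => trivial)
      (fun u _ => by have := congrArg (fun z => α z u) (hcube hx); simpa [pow_succ, αmul, αone] using this)
      (fun u _ => by have := congrArg (fun z => α z u) (hcube hy); simpa [pow_succ, αmul, αone] using this)
      (fun u _ => by rw [← αmul, hc.eq, αmul])
      (fun u _ hu => htrick hx hx1 hy u hu (comm' hc u hu)) (fun u _ hu => htrick hy hy1 hx u hu (comm' hc.symm u hu))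
      (fun u _ hu => ⟨htrick hxy n1 hx u (by rw [αmul]; exact hu) (comm' ((Commute.refl x).mul_left hc.symm) u (by rw [αmul]; exact hu)),
        htrick hxy n1 hy u (by rw [αmul]; exact hu) (comm' (hc.mul_left (Commute.refl y)) u (by rw [αmul]; exact hu))⟩)
      (fun u _ hu => ⟨htrick hxyy n2 hx u (by rw [αmul, αmul]; exact hu) (comm' ((Commute.refl x).mul_left (hc.symm.mul_left hc.symm)) u (by rw [αmul, αmul]; exact hu)),
        htrick hxyy n2 hy u (by rw [αmul, αmul]; exact hu) (comm' (hc.mul_left ((Commute.refl y).mul_left (Commute.refl y))) u (by rw [αmul, αmul]; exact hu))⟩)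
      v trivial
    exact hx1 (hα' x fun v => (hall v).1)
  -- the products generate P
  obtain ⟨e0, he0, he0d⟩ := hne
  have hKP : ∀ y : K, y ∈ P ∨ d * y ∈ P := by
    intro y
    let T : Subgroup K :=
      { carrier := {y | y ∈ P ∨ d * y ∈ P}
        one_mem' := Or.inl P.one_mem
        mul_mem' := by
          rintro u v (hu | hu) (hv | hv)
          · exact Or.inl (P.mul_mem hu hv)
          · refine Or.inr ?_
            have := P.mul_mem ((dyd u).mpr hu) hv
            simpa [mul_assoc, dd] using this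
          · exact Or.inr (by simpa [mul_assoc] using P.mul_mem hu hv)
          · refine Or.inl ?_
            have := P.mul_mem ((dyd (d * u)).mpr hu) hv
            simpa [mul_assoc, dd, d2] using this
        inv_mem' := by
          rintro u (hu | hu)
          · exact Or.inl (P.inv_mem hu)
          · refine Or.inr ?_
            have := (dyd _).mpr (P.inv_mem hu)
            simpa [mul_assoc, dinv, d2] using this }
    have : (⊤ : Subgroup K) ≤ T := by
      rw [← hD.2.2, closure_le]; exact fun e he => Or.inr (hmem e he)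
    exact this (mem_top y)
  have hgen : ∀ Q : Subgroup K, Q ≤ P → (∀ y, Inv P d y → y ∈ Q) → Q = P := by
    intro Q hQP hQ
    have hQd : ∀ u ∈ closure {z | ∃ e ∈ D, z = d * e}, d * u * d ∈ closure {z | ∃ e ∈ D, z = d * e} := by
      intro u hu
      induction hu using closure_induction with
      | mem _ h =>
        obtain ⟨e, he, rfl⟩ := h
        rw [(hInvPair e he).2]; exact inv_mem (subset_closure ⟨e, he, rfl⟩)
      | one => simp [d2]
      | mul u v _ _ h1 h2 => rw [hconjd]; exact mul_mem h1 h2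
      | inv u _ h1 =>
        have := inv_mem h1
        rwa [mul_inv_rev, mul_inv_rev, dinv, ← mul_assoc] at this
    set Q0 := closure {z | ∃ e ∈ D, z = d * e}
    have hQ0 : Q0 ≤ Q := (closure_le Q).mpr fun z ⟨e, he, hz⟩ => hz ▸ hQ _ (hInvPair e he)
    let T : Subgroup K :=
      { carrier := {y | y ∈ Q0 ∨ d * y ∈ Q0}
        one_mem' := Or.inl Q0.one_mem
        mul_mem' := by
          rintro u v (hu | hu) (hv | hv)
          · exact Or.inl (Q0.mul_mem hu hv)
          · refine Or.inr ?_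
            have := Q0.mul_mem (hQd u hu) hv
            simpa [mul_assoc, dd] using this
          · exact Or.inr (by simpa [mul_assoc] using Q0.mul_mem hu hv)
          · refine Or.inl ?_
            have := Q0.mul_mem (hQd (d * u) hu) hv
            simpa [mul_assoc, dd, d2] using this
        inv_mem' := by
          rintro u (hu | hu)
          · exact Or.inl (Q0.inv_mem hu)
          · refine Or.inr ?_
            have := hQd _ (Q0.inv_mem hu)
            simpa [mul_assoc, dinv, d2] using this }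
    have : (⊤ : Subgroup K) ≤ T := by
      rw [← hD.2.2, closure_le]; exact fun e he => Or.inr (subset_closure ⟨e, he, rfl⟩)
    refine le_antisymm hQP fun y hy => ?_
    rcases this (mem_top y) with h | h
    · exact hQ0 h
    · exfalso
      have h' : d * y ∈ P := hQP (hQ0 h)
      exact hdP (by simpa using P.mul_mem h' (P.inv_mem hy))
  -- central elements are centralised by d
  set x0 := d * e0
  have hx0 : Inv P d x0 := hInvPair e0 he0
  have hx01 : x0 ≠ 1 := fun e => he0d (by rw [← dd e0, show d * e0 = 1 from e, mul_one])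
  by_cases hab : ∀ x ∈ P, ∀ y ∈ P, x * y = y * x
  · refine Or.inl ?_
    have hPc : zpowers x0 = P := hgen _ (zpowers_le.mpr hx0.1) fun y hy => hnine hx0 hy (hab _ hx0.1 _ hy.1) hx01
    have ho : orderOf x0 = 3 := orderOf_eq_prime (hcube hx0) hx01
    have hord : Nat.card K = 6 := by
      have hidx : P.index = 2 := by
        refine Subgroup.index_eq_two_iff.mpr ⟨d, fun y => ?_⟩
        have key : ∀ y, y * d ∈ P ↔ d * y ∈ P := fun y => by
          rw [← dyd (y * d)]
          simp [mul_assoc, d2]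
        rcases hKP y with h | h
        · refine Or.inr ⟨h, fun h' => hdP ?_⟩
          simpa using P.mul_mem (P.inv_mem h) h'
        · refine Or.inl ⟨(key y).mpr h, fun h' => hdP ?_⟩
          simpa using P.mul_mem h (P.inv_mem h')
      rw [← P.card_mul_index, hidx, ← hPc, Nat.card_zpowers, ho]
    have hncomm : ¬ ∀ u v : K, u * v = v * u := fun h => by
      have h1 : d * x0 * d = x0 := by rw [h d x0, mul_assoc, d2, mul_one]
      rw [hx0.2] at h1
      exact hx01 (hsmall x0 hx0.1 (by rw [← inv_eq_iff_mul_eq_one]; exact h1))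
    let φ := MulAction.toPermHom K (K ⧸ zpowers d)
    have hcard : Nat.card (K ⧸ zpowers d) = 3 := by
      have h1 := (zpowers d).card_mul_index
      rw [Nat.card_zpowers, hD.1.1 d hd, hord] at h1
      rw [← Subgroup.index]; omega
    have hcore : (zpowers d).normalCore = ⊥ := by
      refine (Subgroup.eq_bot_iff_forall _).2 fun y hy => ?_
      obtain ⟨j, rfl⟩ := mem_zpowers_iff.mp ((zpowers d).normalCore_le hy)
      rcases Int.emod_two_eq_zero_or_one j with hj | hj
      · rw [← zpow_mod_orderOf, hD.1.1 d hd, show j % ((2 : ℕ) : ℤ) = 0 from hj, zpow_zero]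
      · exfalso
        have hdc : d ^ j = d := by
          rw [← zpow_mod_orderOf, hD.1.1 d hd, show j % ((2 : ℕ) : ℤ) = 1 from hj, zpow_one]
        rw [hdc] at hy
        have := (zpowers d).normalCore_le (Subgroup.Normal.conj_mem inferInstance d hy x0)
        obtain ⟨i, hi⟩ := mem_zpowers_iff.mp this
        have hi' : d ^ i = 1 ∨ d ^ i = d := by
          rcases Int.emod_two_eq_zero_or_one i with h | h
          · left; rw [← zpow_mod_orderOf, hD.1.1 d hd, show i % ((2 : ℕ) : ℤ) = 0 from h, zpow_zero]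
          · right; rw [← zpow_mod_orderOf, hD.1.1 d hd, show i % ((2 : ℕ) : ℤ) = 1 from h, zpow_one]
        rcases hi' with h | h
        · rw [h, eq_comm, conj_eq_one_iff] at hi
          exact hdP (hi ▸ P.one_mem)
        · rw [h] at hi
          have h1 : d * x0 * d = x0 := by
            calc d * x0 * d = (x0 * d * x0⁻¹) * x0 * d := by rw [← hi]
              _ = x0 * (d * d) := by group
              _ = x0 := by rw [d2, mul_one]
          rw [hx0.2] at h1
          exact hx01 (hsmall x0 hx0.1 (by rw [← inv_eq_iff_mul_eq_one]; exact h1))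
    have hinj : Function.Injective φ := by
      rw [← MonoidHom.ker_eq_bot_iff, ← Subgroup.normalCore_eq_ker]; exact hcore
    obtain ⟨e⟩ : Nonempty (K ⧸ zpowers d ≃ Fin 3) := ⟨Finite.equivFinOfCardEq hcard⟩
    let f : K →* Equiv.Perm (Fin 3) := e.permCongrHom.toMonoidHom.comp φ
    have hf : Function.Injective f := e.permCongrHom.injective.comp hinj
    exact ⟨MulEquiv.ofBijective f ((Nat.bijective_iff_injective_and_card f).mpr ⟨hf, by
      rw [hord, Nat.card_perm, Nat.card_eq_fintype_card, Fintype.card_fin]; rfl⟩)⟩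
  refine Or.inr ?_
  set Z := center P
  have hZmem : ∀ {z : K} (hz : z ∈ P), (∀ y ∈ P, y * z = z * y) → (⟨z, hz⟩ : P) ∈ Z := fun hz h =>
    mem_center_iff.mpr fun y => Subtype.ext (h y y.2)
  have hcentralfix : ∀ z ∈ P, (∀ y ∈ P, y * z = z * y) → d * z * d = z := by
    intro z hz hzc
    set w := z * (d * z⁻¹ * d)
    have hz' : ∀ y ∈ P, y * (d * z⁻¹ * d) = (d * z⁻¹ * d) * y := fun y hy => by
      have hc : Commute (d * y * d) z⁻¹ := Commute.inv_right (hzc _ ((dyd y).mpr hy))
      have h2 := congrArg (fun u => d * u * d) hc.eq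
      simpa [mul_assoc, dd, d2] using h2
    have hwP : w ∈ P := P.mul_mem hz ((dyd _).mpr (P.inv_mem hz))
    have hwc : ∀ y ∈ P, y * w = w * y := fun y hy => by
      rw [← mul_assoc, hzc y hy, mul_assoc, hz' y hy, ← mul_assoc]
    have hwi : Inv P d w := ⟨hwP, by
      rw [hconjd, mul_inv_rev, mul_inv_rev, mul_inv_rev, inv_inv, dinv]
      simp [mul_assoc, dd, d2]⟩
    have hw1 : w = 1 := by
      by_contra hne'
      refine hab ?_
      have hPw : zpowers w = P := hgen _ (zpowers_le.mpr hwP) fun y hy => hnine hwi hy (hwc y hy.1).symm hne'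
      intro x hx y hy
      rw [← hPw] at hx hy
      obtain ⟨i, rfl⟩ := mem_zpowers_iff.mp hx
      obtain ⟨j, rfl⟩ := mem_zpowers_iff.mp hy
      rw [← zpow_add, ← zpow_add, add_comm]
    have : d * z⁻¹ * d = z⁻¹ := (eq_inv_of_mul_eq_one_right hw1)
    have := congrArg (·⁻¹) this
    simpa [mul_assoc, dinv] using this
  -- second centre
  obtain ⟨a, ha, haZ, hac⟩ : ∃ a : K, Inv P d a ∧ ¬ (∀ y ∈ P, y * a = a * y) ∧
      ∀ g ∈ P, ∀ y ∈ P, y * (a * g * a⁻¹ * g⁻¹) = (a * g * a⁻¹ * g⁻¹) * y := by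
    have hZtop : Z ≠ ⊤ := fun h => hab fun x hx y hy => by
      have := mem_center_iff.mp (h.symm ▸ mem_top (⟨y, hy⟩ : P) : (⟨y, hy⟩ : P) ∈ Z) ⟨x, hx⟩
      exact congrArg Subtype.val this
    haveI : Nontrivial (P ⧸ Z) := QuotientGroup.nontrivial_iff.mpr hZtop
    haveI := (hP.to_quotient Z).center_nontrivial
    obtain ⟨b', hb'⟩ := exists_ne (1 : center (P ⧸ Z))
    obtain ⟨b, hb⟩ := QuotientGroup.mk'_surjective Z (b' : P ⧸ Z)
    have hbZ : b ∉ Z := fun h => hb' (Subtype.ext (hb.symm.trans ((QuotientGroup.eq_one_iff b).mpr h)))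
    let W : Subgroup P := (center (P ⧸ Z)).comap (QuotientGroup.mk' Z)
    have hbW : b ∈ W := mem_comap.mpr (by rw [hb]; exact b'.2)
    have hWc : ∀ u ∈ W, ∀ g : P, u * g * u⁻¹ * g⁻¹ ∈ Z := fun u hu g => by
      rw [← QuotientGroup.eq_one_iff]
      show QuotientGroup.mk' Z (u * g * u⁻¹ * g⁻¹) = 1
      rw [map_mul, map_mul, map_mul, map_inv, map_inv, ← mem_center_iff.mp hu]; group
    let τ : P → P := fun u => ⟨d * (u : K) * d, (dyd _).mpr u.2⟩
    have τmul : ∀ u v, τ (u * v) = τ u * τ v := fun u v => Subtype.ext (hconjd u v)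
    have τinv : ∀ u, τ u⁻¹ = (τ u)⁻¹ := fun u => Subtype.ext (by simp [τ, mul_assoc, dinv])
    have τZ : ∀ u ∈ Z, τ u = u := fun u hu => Subtype.ext (hcentralfix u u.2 fun y hy =>
      congrArg Subtype.val (mem_center_iff.mp hu ⟨y, hy⟩))
    have τW : ∀ u ∈ W, τ u ∈ W := by
      intro u hu
      show QuotientGroup.mk' Z (τ u) ∈ center (P ⧸ Z)
      refine mem_center_iff.mpr fun q => ?_
      obtain ⟨g, rfl⟩ := QuotientGroup.mk'_surjective Z q
      rw [← map_mul, ← map_mul]
      refine QuotientGroup.eq.mpr ?_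
      have h1 := hWc u hu (τ g)⁻¹
      have h2 : τ (u * (τ g)⁻¹ * u⁻¹ * (τ g)⁻¹⁻¹) = u * (τ g)⁻¹ * u⁻¹ * (τ g)⁻¹⁻¹ := τZ _ h1
      have hττ : ∀ v, τ (τ v) = v := fun v => Subtype.ext (by simp [τ, mul_assoc, dd, d2])
      rw [τmul, τmul, τmul, τinv, τinv, τinv, hττ] at h2
      rw [τinv, hττ] at h2
      have h3 : τ u * g⁻¹ * (τ u)⁻¹ * g⁻¹⁻¹ ∈ Z := by rw [h2]; exact h1
      have h4 := Subgroup.Normal.conj_mem (H := Z) inferInstance _ h3 (τ u)⁻¹
      have h5 := Z.inv_mem h4
      simpa [mul_assoc] using h5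
    set c0 := b * (τ b)⁻¹
    have hcW : c0 ∈ W := W.mul_mem hbW (W.inv_mem (τW b hbW))
    refine ⟨c0, ⟨c0.2, ?_⟩, ?_, fun g hg y hy =>
      congrArg Subtype.val (mem_center_iff.mp (hWc c0 hcW ⟨g, hg⟩) ⟨y, hy⟩)⟩
    · show d * ((b : K) * (d * (b : K) * d)⁻¹) * d = ((b : K) * (d * (b : K) * d)⁻¹)⁻¹
      simp [mul_assoc, dd, d2, dinv]
    · intro hcc
      have hc0 : c0 ∈ Z := hZmem c0.2 hcc
      -- b would be fixed modulo the centre
      have hbf : ∀ y, Inv P d y → (b : K) * y = y * (b : K) := by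
        intro y hy
        set w : P := b * ⟨y, hy.1⟩ * b⁻¹ * ⟨y, hy.1⟩⁻¹
        have hwZ : w ∈ Z := hWc b hbW _
        have e1 : τ b = c0⁻¹ * b := by simp [c0]
        have e2 : τ ⟨y, hy.1⟩ = (⟨y, hy.1⟩ : P)⁻¹ := Subtype.ext hy.2
        have e3 : τ w = w := τZ w hwZ
        have ec : ∀ u, c0⁻¹ * u = u * c0⁻¹ := fun u => ((mem_center_iff.mp (Z.inv_mem hc0)) u).symm
        have e4 : τ w = b * (⟨y, hy.1⟩ : P)⁻¹ * b⁻¹ * ⟨y, hy.1⟩ := by
          rw [τmul, τmul, τmul, τinv, τinv, e1, e2, inv_inv]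
          rw [show c0⁻¹ * b * (⟨y, hy.1⟩ : P)⁻¹ * (c0⁻¹ * b)⁻¹ = c0⁻¹ * (b * (⟨y, hy.1⟩ : P)⁻¹ * b⁻¹) * c0 by group,
            ec, inv_mul_cancel_right]
        have e5 : b * (⟨y, hy.1⟩ : P)⁻¹ * b⁻¹ * ⟨y, hy.1⟩ = w⁻¹ := by
          have h' := mem_center_iff.mp hwZ (⟨y, hy.1⟩ : P)⁻¹
          have : w⁻¹ = (⟨y, hy.1⟩ : P)⁻¹ * (w⁻¹ * ⟨y, hy.1⟩) := by
            rw [← mul_assoc, mem_center_iff.mp (Z.inv_mem hwZ) (⟨y, hy.1⟩ : P)⁻¹, mul_assoc, inv_mul_cancel, mul_one]
          rw [this]; simp [w, mul_assoc]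
        rw [e4, e5] at e3
        have hw1 : (w : K) = 1 := hsmall _ w.2 (by
          rw [← Subgroup.coe_mul]; nth_rw 1 [← e3]; rw [inv_mul_cancel]; rfl)
        have : (b : K) * y * (b : K)⁻¹ * y⁻¹ = 1 := hw1
        rwa [mul_inv_eq_one, mul_inv_eq_iff_eq_mul] at this
      refine hbZ (hZmem b.2 fun y hy => ?_)
      have hC : P ⊓ centralizer ({(b : K)} : Set K) = P := hgen _ inf_le_left fun y hy =>
        ⟨hy.1, mem_centralizer_singleton_iff.mpr (hbf y hy).symm⟩
      exact mem_centralizer_singleton_iff.mp (hC.ge hy).2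
  -- the commutator with a
  obtain ⟨φ, φdef⟩ : ∃ φ : K → K, ∀ g, φ g = a * g * a⁻¹ * g⁻¹ := ⟨_, fun _ => rfl⟩
  have φP : ∀ g ∈ P, φ g ∈ P := fun g hg => (φdef g).symm ▸ P.mul_mem (P.mul_mem (P.mul_mem ha.1 hg) (P.inv_mem ha.1)) (P.inv_mem hg)
  have φc : ∀ g ∈ P, ∀ y ∈ P, y * φ g = φ g * y := fun g hg y hy => by rw [φdef]; exact hac g hg y hy
  have φmul : ∀ g ∈ P, ∀ h ∈ P, φ (g * h) = φ g * φ h := by
    intro g hg h hh
    calc φ (g * h) = φ g * (g * φ h) * g⁻¹ := by simp only [φdef]; group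
      _ = φ g * φ h := by rw [φc h hh g hg]; group
  have φd : ∀ g ∈ P, d * φ g * d = φ g := fun g hg => hcentralfix _ (φP g hg) (φc g hg)
  have aφ : ∀ g, a * g = φ g * g * a := fun g => by simp only [φdef]; group
  have φsym : ∀ g ∈ P, φ (d * g⁻¹ * d) = φ g := by
    intro g hg
    have e : φ (d * g⁻¹ * d) = d * (a⁻¹ * g⁻¹ * a * g) * d := by
      rw [show a⁻¹ = d * a * d from ha.2.symm]
      simp [φdef, mul_assoc, dd, d2, dinv, show a⁻¹ = d * (a * d) by rw [← mul_assoc]; exact ha.2.symm]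
    have e' : a⁻¹ * g⁻¹ * a * g = φ g := by
      have h1 := φc g hg (a⁻¹ * g⁻¹) (P.mul_mem (P.inv_mem ha.1) (P.inv_mem hg))
      calc a⁻¹ * g⁻¹ * a * g = a⁻¹ * g⁻¹ * φ g * (g * a) := by simp only [φdef]; group
        _ = φ g := by rw [h1]; group
    rw [e, e', φd g hg]
  have φsq : ∀ g ∈ P, ∃ h, Inv P d h ∧ φ h = φ g * φ g := fun g hg =>
    ⟨g * (d * g⁻¹ * d), ⟨P.mul_mem hg ((dyd _).mpr (P.inv_mem hg)), by
      rw [hconjd]; simp [mul_assoc, dd, d2, dinv]⟩, by
      rw [φmul g hg _ ((dyd _).mpr (P.inv_mem hg)), φsym g hg]⟩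
  have φone : φ 1 = 1 := by simp [φdef]
  have φ3inv : ∀ y, Inv P d y → φ y ^ 3 = 1 := fun y hy => by
    have e : φ (y * y * y) = φ y * φ y * φ y := by rw [φmul _ (P.mul_mem hy.1 hy.1) _ hy.1, φmul _ hy.1 _ hy.1]
    rw [pow_succ, pow_two, ← e, show y * y * y = y ^ 3 by rw [pow_succ, pow_two], hcube hy, φone]
  -- elements with commutator g fix what g fixes
  have hspread : ∀ h, Inv P d h → φ h ≠ 1 → ∀ v, α (φ h) v = v → α a v = v := by
    intro h hh hg1 v hv
    set g := φ h with hg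
    have hgc := φc h hh.1
    let U : Subgroup V :=
      { carrier := {u | α g u = u}
        one_mem' := map_one _
        mul_mem' := fun {u w} hu hw => by show α g (u * w) = u * w; rw [map_mul, hu, hw]
        inv_mem' := fun {u} hu => by show α g u⁻¹ = u⁻¹; rw [map_inv, hu] }
    have hUinv : ∀ y ∈ P, ∀ u ∈ U, α y u ∈ U := fun y hy u hu => by
      show α g (α y u) = α y u
      rw [← αmul, ← hgc y hy, αmul, hu]
    have hg3 : g ^ 3 = 1 := φ3inv h hh
    have hgd : d * g * d = g := φd h hh.1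
    have hah : a * h = g * h * a := aφ h
    have ginv2 : ∀ u ∈ U, α g⁻¹ u = u := fun u hu => by
      conv_lhs => rw [← (hu : α g u = u)]
      rw [← αmul, inv_mul_cancel, αone]
    have hcU : ∀ u ∈ U, α a (α h u) = α h (α a u) := fun u hu => by
      rw [← αmul, hah, αmul, αmul]; exact hUinv h hh.1 _ (hUinv a ha.1 u hu)
    -- the corrected products
    have hm1 : Inv P d (a * h * g) := ⟨P.mul_mem (P.mul_mem ha.1 hh.1) (φP h hh.1), by
      rw [hconjd, hconjd, ha.2, hh.2, hgd, mul_inv_rev, mul_inv_rev]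
      have e2 : h⁻¹ * a⁻¹ = a⁻¹ * h⁻¹ * g⁻¹ := by
        calc h⁻¹ * a⁻¹ = (a * h)⁻¹ := (mul_inv_rev a h).symm
          _ = (g * h * a)⁻¹ := by rw [hah]
          _ = a⁻¹ * h⁻¹ * g⁻¹ := by simp [mul_assoc]
      have hcg : Commute g⁻¹ (a⁻¹ * h⁻¹) := Commute.inv_left (hgc _ (P.mul_mem (P.inv_mem ha.1) (P.inv_mem hh.1))).symm
      have hgg : g⁻¹ * g⁻¹ = g := by
        rw [← mul_inv_rev, inv_eq_iff_mul_eq_one, ← hg3, pow_succ, pow_two]
      rw [e2, ← mul_assoc g⁻¹, hcg.eq, mul_assoc _ g⁻¹ g⁻¹, hgg]⟩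
    have hm2 : Inv P d (a * (h * h) * (g * g)) := ⟨P.mul_mem (P.mul_mem ha.1 (P.mul_mem hh.1 hh.1))
        (P.mul_mem (φP h hh.1) (φP h hh.1)), by
      have h3 : h * h * h = 1 := by rw [← hcube hh, pow_succ, pow_two]
      have hg' : g * g = g⁻¹ := eq_inv_of_mul_eq_one_left (by rw [← hg3, pow_succ, pow_two])
      have hh' : h * h = h⁻¹ := eq_inv_of_mul_eq_one_left h3
      rw [hh', hg', hconjd, hconjd, ha.2]
      have e0 : d * h⁻¹ * d = h := by
        have := congrArg (·⁻¹) hh.2
        simpa [mul_assoc, dinv] using this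
      have e0' : d * g⁻¹ * d = g⁻¹ := by
        have := congrArg (·⁻¹) hgd
        simpa [mul_assoc, dinv] using this
      rw [e0, e0', mul_inv_rev, mul_inv_rev, inv_inv, inv_inv]
      have h6 : h * a⁻¹ = a⁻¹ * (g * h) := by
        calc h * a⁻¹ = a⁻¹ * (a * h) * a⁻¹ := by group
          _ = a⁻¹ * (g * h * a) * a⁻¹ := by rw [hah]
          _ = _ := by simp [mul_assoc]
      have hcg : Commute g (a⁻¹ * h) := (hgc _ (P.mul_mem (P.inv_mem ha.1) hh.1)).symm
      have hcg' : Commute g h := (hgc h hh.1).symm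
      rw [h6, hcg'.eq, ← mul_assoc a⁻¹ h g, ← mul_assoc g, hcg.eq, mul_assoc _ g g, hg']⟩
    have nah : ∀ y, Commute a y → φ y = 1 := fun y hy => by simp only [φdef]; rw [hy.eq]; group
    have ha1 : a ≠ 1 := fun e => haZ fun y _ => by rw [e, mul_one, one_mul]
    have hh1 : h ≠ 1 := fun e => hg1 (by rw [hg, e, φone])
    have hgP := φP h hh.1
    have nm1 : a * h * g ≠ 1 := fun e => hg1 (by
      rw [hg]
      refine nah h ?_
      have e' : h = a⁻¹ * g⁻¹ := by
        calc h = a⁻¹ * (a * h * g) * g⁻¹ := by group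
          _ = _ := by rw [e, mul_one]
      rw [e']
      exact ((Commute.refl a).inv_right).mul_right (Commute.inv_right (hgc a ha.1)))
    have nm2 : a * (h * h) * (g * g) ≠ 1 := fun e => hg1 (by
      rw [hg]
      refine nah h ?_
      have h3 : h * h * h = 1 := by rw [← hcube hh, pow_succ, pow_two]
      have e1 : h * h = a⁻¹ * (g * g)⁻¹ := by
        calc h * h = a⁻¹ * (a * (h * h) * (g * g)) * (g * g)⁻¹ := by group
          _ = _ := by rw [e, mul_one]
      have e' : h = (h * h) * (h * h) := by rw [← mul_assoc, h3, one_mul]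
      have hc1 : Commute a (h * h) := by
        rw [e1]
        exact ((Commute.refl a).inv_right).mul_right (Commute.inv_right (Commute.mul_right (hgc a ha.1) (hgc a ha.1)))
      rw [e']; exact hc1.mul_right hc1)
    have hgu : ∀ u ∈ U, α (g * g) u = u := fun u hu => by rw [αmul, (hu : α g u = u), (hu : α g u = u)]
    have m1 : ∀ u ∈ U, α (a * h * g) u = α a (α h u) := fun u hu => by rw [αmul, (hu : α g u = u), αmul]
    have m2 : ∀ u ∈ U, α (a * (h * h) * (g * g)) u = α a (α h (α h u)) := fun u hu => by rw [αmul, hgu u hu, αmul, αmul]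
    have res := fix_all hV2 (α a) (α h) U (hUinv a ha.1) (hUinv h hh.1)
      (fun u _ => by have := congrArg (fun z => α z u) (hcube ha); simpa [pow_succ, αmul, αone] using this)
      (fun u _ => by have := congrArg (fun z => α z u) (hcube hh); simpa [pow_succ, αmul, αone] using this)
      hcU
      (fun u hu h1 => htrick ha ha1 hh u h1 (by rw [hcU u hu, h1]))
      (fun u hu h1 => htrick hh hh1 ha u h1 (by rw [← hcU u hu, h1]))
      (fun u hu h1 => by
        constructor
        · refine htrick hm1 nm1 ha u (by rw [m1 u hu]; exact h1) ?_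
          rw [m1 _ (hUinv a ha.1 u hu), ← hcU u hu, h1]
        · refine htrick hm1 nm1 hh u (by rw [m1 u hu]; exact h1) ?_
          rw [m1 _ (hUinv h hh.1 u hu), hcU _ (hUinv h hh.1 u hu), h1])
      (fun u hu h1 => by
        have hhu := hUinv h hh.1 u hu
        constructor
        · refine htrick hm2 nm2 ha u (by rw [m2 u hu]; exact h1) ?_
          rw [m2 _ (hUinv a ha.1 u hu), ← hcU u hu, ← hcU _ hhu, h1]
        · refine htrick hm2 nm2 hh u (by rw [m2 u hu]; exact h1) ?_
          rw [m2 _ hhu, hcU _ (hUinv h hh.1 _ hhu), h1])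
      v hv
    exact res.1
  -- hence every commutator with a fixes the same points
  have hspread' : ∀ h, Inv P d h → φ h ≠ 1 → ∀ v, α (φ h) v = v → ∀ g ∈ P, α (φ g) v = v := by
    intro h hh h1 v hv g hg
    have hU : ∀ y ∈ P, α (φ h) (α y v) = α y v := fun y hy => by rw [← αmul, ← φc h hh.1 y hy, αmul, hv]
    have hainv : ∀ u, α a u = u → α a⁻¹ u = u := fun u hu => by
      conv_lhs => rw [← hu]
      rw [← αmul, inv_mul_cancel, αone]
    rw [φdef]
    rw [αmul, αmul, αmul, hainv _ (hspread h hh h1 _ (hU _ (P.inv_mem hg))), ← αmul g, mul_inv_cancel, αone,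
      hspread h hh h1 v hv]
  obtain ⟨x, hx, hxc⟩ : ∃ x, Inv P d x ∧ φ x ≠ 1 := by
    by_contra hh
    push Not at hh
    refine haZ fun y hy => ?_
    have hC : P ⊓ centralizer ({a} : Set K) = P := hgen _ inf_le_left fun y hy => ⟨hy.1, mem_centralizer_singleton_iff.mpr (by
      have h1 := hh y hy
      simp only [φdef, mul_inv_eq_one, mul_inv_eq_iff_eq_mul, one_mul] at h1
      exact h1.symm)⟩
    exact mem_centralizer_singleton_iff.mp (hC.ge hy).2
  set c := φ x with hcdef
  have hcy : ∀ y, Inv P d y → φ y ∈ zpowers c := by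
    intro y hy
    by_contra hny
    set c' := φ y with hc'
    have hsqinv : ∀ g ∈ P, φ g * (φ g * φ g) = 1 → φ g ≠ 1 → ∃ h, Inv P d h ∧ φ h ≠ 1 ∧ ∀ v, α (φ g) v = v → α (φ h) v = v := by
      intro g hg h3 h1
      obtain ⟨h, hh, he⟩ := φsq g hg
      refine ⟨h, hh, fun e => h1 ?_, fun v hv => by rw [he, αmul, hv, hv]⟩
      rw [he] at e; rw [e, mul_one] at h3; exact h3
    have c3 : c ^ 3 = 1 := φ3inv x hx
    have c'3 : c' ^ 3 = 1 := φ3inv y hy
    have hcc : Commute c c' := φc y hy.1 c (φP x hx.1)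
    have hy1 : c' ≠ 1 := fun e => hny (e ▸ one_mem _)
    have mixed : ∀ g ∈ P, φ g ≠ 1 → φ g * (φ g * φ g) = 1 → ∀ v, α (φ g) v = v → α c v = v ∧ α c' v = v := by
      intro g hg h1 h3 v hv
      obtain ⟨h, hh, hh1, hhv⟩ := hsqinv g hg h3 h1
      exact ⟨hspread' h hh hh1 v (hhv v hv) x hx.1, hspread' h hh hh1 v (hhv v hv) y hy.1⟩
    have e1 : φ (x * y) = c * c' := φmul x hx.1 y hy.1
    have e2 : φ (x * (y * y)) = c * (c' * c') := by
      rw [φmul x hx.1 _ (P.mul_mem hy.1 hy.1), φmul y hy.1 y hy.1]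
    have n1 : c * c' ≠ 1 := fun e => hny (by rw [eq_inv_of_mul_eq_one_right e]; exact inv_mem (mem_zpowers c))
    have n2 : c * (c' * c') ≠ 1 := fun e => hny (by
      have h2 : c' * c' = c⁻¹ := eq_inv_of_mul_eq_one_right e
      have e' : c' = (c' * c') * (c' * c') := by
        rw [← mul_assoc, show c' * c' * c' = 1 by rw [← c'3, pow_succ, pow_two], one_mul]
      rw [e', h2]; exact mul_mem (inv_mem (mem_zpowers c)) (inv_mem (mem_zpowers c)))
    have cube' : ∀ u : K, u ^ 3 = 1 → u * (u * u) = 1 := fun u hu => by rw [← hu, pow_succ, pow_two, mul_assoc]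
    have k1 : (c * c') ^ 3 = 1 := by rw [hcc.mul_pow, c3, c'3, one_mul]
    have k2 : (c * (c' * c')) ^ 3 = 1 := by
      rw [(hcc.mul_right hcc).mul_pow, c3, (Commute.refl c').mul_pow, c'3, one_mul, one_mul]
    have hall : ∀ v : V, α c v = v ∧ α c' v = v := fun v => fix_all hV2 (α c) (α c') ⊤ (fun _ _ => trivial) (fun _ _ => trivial)
      (fun u _ => by have := congrArg (fun z => α z u) c3; simpa [pow_succ, αmul, αone] using this)
      (fun u _ => by have := congrArg (fun z => α z u) c'3; simpa [pow_succ, αmul, αone] using this)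
      (fun u _ => by rw [← αmul, hcc.eq, αmul])
      (fun u _ hu => hspread' x hx hxc u hu y hy.1) (fun u _ hu => hspread' y hy hy1 u hu x hx.1)
      (fun u _ hu => mixed _ (P.mul_mem hx.1 hy.1) (by rw [e1]; exact n1) (by rw [e1]; exact cube' _ k1) u
        (by rw [e1, αmul]; exact hu))
      (fun u _ hu => mixed _ (P.mul_mem hx.1 (P.mul_mem hy.1 hy.1)) (by rw [e2]; exact n2) (by rw [e2]; exact cube' _ k2) u
        (by rw [e2, αmul, αmul]; exact hu))
      v trivial
    exact hxc (hα' c fun v => (hall v).1)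
  have hc3 : c ^ 3 = 1 := φ3inv x hx
  have hcP : c ∈ P := φP x hx.1
  have hφpow : ∀ i : ℕ, φ (x ^ i) = c ^ i := by
    intro i
    induction i with
    | zero => simpa using φone
    | succ i ih => rw [pow_succ, φmul _ (P.pow_mem hx.1 i) _ hx.1, ih, pow_succ]
  -- a and x generate P
  set Q := closure ({a, x} : Set K)
  have hQP : Q ≤ P := (closure_le P).mpr fun z hz => by rcases hz with rfl | rfl; exacts [ha.1, hx.1]
  have haQ : a ∈ Q := subset_closure (Or.inl rfl)
  have hxQ : x ∈ Q := subset_closure (Or.inr rfl)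
  have hQeq : Q = P := by
    set CP := (commutator P).map P.subtype
    have hCP : CP ≤ P := map_subtype_le _
    haveI hCPn : CP.Normal := inferInstance
    have habl : ∀ u ∈ P, ∀ v ∈ P, (QuotientGroup.mk' CP u) * QuotientGroup.mk' CP v =
        QuotientGroup.mk' CP v * QuotientGroup.mk' CP u := by
      intro u hu v hv
      rw [← map_mul, ← map_mul]
      refine QuotientGroup.eq.mpr ⟨⁅(⟨v, hv⟩ : P)⁻¹, (⟨u, hu⟩ : P)⁻¹⁆, commutator_mem_commutator (mem_top _) (mem_top _), ?_⟩
      simp [commutatorElement_def, mul_assoc]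
    have hy' : ∀ y, Inv P d y → y ∈ Q ⊔ CP := by
      intro y hy
      obtain ⟨i, hi⟩ : ∃ i : ℕ, φ y = c ^ i := by
        have := hcy y hy
        rw [← (isOfFinOrder_of_finite c).mem_powers_iff_mem_zpowers] at this
        obtain ⟨i, hi⟩ := this
        exact ⟨i, hi.symm⟩
      obtain ⟨t, ht⟩ : ∃ t, i + t * 1 = 3 * i := ⟨2 * i, by ring⟩
      rw [mul_one] at ht
      set g0 := y * x ^ t
      have hg0 : g0 ∈ P := P.mul_mem hy.1 (P.pow_mem hx.1 t)
      have hφ0 : φ g0 = 1 := by rw [φmul _ hy.1 _ (P.pow_mem hx.1 t), hi, hφpow, ← pow_add, ht, pow_mul, hc3, one_pow]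
      have hk : g0 * (d * g0⁻¹ * d) ∈ zpowers a := by
        have hki : Inv P d (g0 * (d * g0⁻¹ * d)) := ⟨P.mul_mem hg0 ((dyd _).mpr (P.inv_mem hg0)), by
          rw [hconjd]; simp [mul_assoc, dd, d2, dinv]⟩
        refine hnine ha hki ?_ (fun e => haZ fun y _ => by rw [e, mul_one, one_mul])
        have : φ (g0 * (d * g0⁻¹ * d)) = 1 := by
          rw [φmul _ hg0 _ ((dyd _).mpr (P.inv_mem hg0)), φsym _ hg0, hφ0, one_mul]
        simp only [φdef, mul_inv_eq_one, mul_inv_eq_iff_eq_mul, one_mul] at this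
        exact this
      have hdd : d * g0⁻¹ * d = x ^ t * y := by
        have hxt : d * x ^ t * d = (x ^ t)⁻¹ := by
          rw [← inv_pow, ← hx.2]
          clear_value g0
          clear hk hφ0 hg0 ht
          induction t with
          | zero => simp [d2]
          | succ t ih => rw [pow_succ, hconjd, ih, pow_succ]
        have e1 := congrArg (·⁻¹) (hconjd y (x ^ t))
        simp only [hy.2, hxt, mul_inv_rev, inv_inv, dinv] at e1
        rw [← e1]; simp [g0, mul_assoc]
      rw [hdd] at hk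
      have hmod : QuotientGroup.mk' CP (g0 * (x ^ t * y)) = QuotientGroup.mk' CP g0 * QuotientGroup.mk' CP g0 := by
        simp only [g0, map_mul]
        rw [mul_assoc, mul_assoc, habl (x ^ t) (P.pow_mem hx.1 t) y hy.1]
      have hg3 : QuotientGroup.mk' CP g0 ^ 3 = 1 := by
        simp only [g0, map_mul]
        rw [(show Commute _ _ from habl y hy.1 (x ^ t) (P.pow_mem hx.1 t)).mul_pow, ← map_pow, ← map_pow, hcube hy, ← pow_mul, mul_comm, pow_mul,
          hcube hx, one_pow, map_one, one_mul]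
      have hmemS : ∀ z : K, QuotientGroup.mk' CP z ∈ (Q ⊔ CP).map (QuotientGroup.mk' CP) → z ∈ Q ⊔ CP := by
        intro z hz
        obtain ⟨z', hz', e⟩ := hz
        have h' := (Q ⊔ CP).mul_mem hz' (mem_sup_right (S := Q) (QuotientGroup.eq.mp e : z'⁻¹ * z ∈ CP))
        simpa using h'
      have hg0S : g0 ∈ Q ⊔ CP := by
        refine hmemS g0 ?_
        have h2 : QuotientGroup.mk' CP g0 * QuotientGroup.mk' CP g0 ∈ (Q ⊔ CP).map (QuotientGroup.mk' CP) := by
          rw [← hmod]; exact mem_map_of_mem _ (mem_sup_left (zpowers_le.mpr haQ hk))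
        have h4 := mul_mem h2 h2
        rwa [← mul_assoc, show QuotientGroup.mk' CP g0 * QuotientGroup.mk' CP g0 * QuotientGroup.mk' CP g0 = 1 by
          rw [← hg3, pow_succ, pow_two], one_mul] at h4
      have hx' : (x ^ t) ∈ Q ⊔ CP := mem_sup_left (Q.pow_mem hxQ t)
      have := (Q ⊔ CP).mul_mem hg0S ((Q ⊔ CP).inv_mem hx')
      simpa [g0] using this
    have hsup : Q ⊔ CP = P := hgen _ (sup_le hQP hCP) hy'
    have htop : Q.subgroupOf P = ⊤ := by
      refine Cfsg.Lib.InducedFamily.eq_top_of_sup_commutator _ ?_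
      rw [eq_top_iff]
      intro u _
      have hu : (u : K) ∈ (Q.subgroupOf P ⊔ commutator P).map P.subtype := by
        rw [Subgroup.map_sup, subgroupOf_map_subtype, inf_eq_left.mpr hQP, hsup]; exact u.2
      obtain ⟨u', hu', e⟩ := hu
      exact Subtype.ext (show (u' : K) = u from e) ▸ hu'
    exact le_antisymm hQP (subgroupOf_eq_top.mp htop)
  -- the relations
  have hrel : HeisTwo.Rel a x c d := by
    have hca : c * a = a * c := (φc x hx.1 a ha.1).symm
    have hcx : c * x = x * c := (φc x hx.1 x hx.1).symm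
    refine ⟨hcube ha, hcube hx, hc3, d2, hca, hcx, ?_, ?_, ?_, ?_⟩
    · have := φd x hx.1
      calc c * d = d * c * d * d := by rw [this]
        _ = d * c := by rw [mul_assoc, d2, mul_one]
    · calc d * a = d * a * d * d := by rw [mul_assoc (d * a), d2, mul_one]
        _ = a⁻¹ * d := by rw [ha.2]
        _ = _ := by rw [inv_eq_of_mul_eq_one_right (show a * a ^ 2 = 1 by rw [← pow_succ', hcube ha])]
    · calc d * x = d * x * d * d := by rw [mul_assoc (d * x), d2, mul_one]
        _ = x⁻¹ * d := by rw [hx.2]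
        _ = _ := by rw [inv_eq_of_mul_eq_one_right (show x * x ^ 2 = 1 by rw [← pow_succ', hcube hx])]
    · have hcinv : c⁻¹ = c ^ 2 := inv_eq_of_mul_eq_one_right (by rw [← pow_succ', hc3])
      have h2 : a * x * c⁻¹ = c⁻¹ * (a * x) :=
        ((Commute.mul_right (show Commute c a from hca) (show Commute c x from hcx)).inv_left).eq.symm
      rw [← hcinv, h2, aφ x, ← hcdef]
      group
  -- the normal forms
  have hφpsi : ∀ i j k : ℕ, ∃ s : (Fin 3 × Fin 3) × (Fin 3 × Fin 2), a ^ i * x ^ j * c ^ k = HeisTwo.psi a x c d s :=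
    fun i j k => ⟨((Fin.ofNat 3 i, Fin.ofNat 3 j), (Fin.ofNat 3 k, 0)), by
      simp only [HeisTwo.psi, HeisTwo.nf, Fin.val_ofNat, Fin.val_zero, pow_zero, mul_one]
      rw [← pow_eq_pow_mod i (hcube ha), ← pow_eq_pow_mod j (hcube hx), ← pow_eq_pow_mod k hc3]⟩
  let R : Subgroup K :=
    { carrier := Set.range (HeisTwo.psi a x c d)
      one_mem' := ⟨((0, 0), (0, 0)), by simp [HeisTwo.psi, HeisTwo.nf]⟩
      mul_mem' := by rintro _ _ ⟨s, rfl⟩ ⟨t, rfl⟩; exact ⟨_, (HeisTwo.psi_mul hrel s t).symm⟩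
      inv_mem' := by
        rintro _ ⟨s, rfl⟩
        have hpow : ∀ n, (HeisTwo.psi a x c d s) ^ n ∈ Set.range (HeisTwo.psi a x c d) := by
          intro n
          induction n with
          | zero => exact ⟨((0, 0), (0, 0)), by simp [HeisTwo.psi, HeisTwo.nf]⟩
          | succ n ih =>
            obtain ⟨t, ht⟩ := ih
            exact ⟨_, by rw [pow_succ, ← ht]; exact (HeisTwo.psi_mul hrel t s).symm⟩
        rw [show (HeisTwo.psi a x c d s)⁻¹ = (HeisTwo.psi a x c d s) ^ (orderOf (HeisTwo.psi a x c d s) - 1) from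
          inv_eq_of_mul_eq_one_right (by
            rw [← pow_succ', Nat.sub_add_cancel (orderOf_pos _), pow_orderOf_eq_one])]
        exact hpow _ }
  have haR : a ∈ R := ⟨((1, 0), (0, 0)), by simp [HeisTwo.psi, HeisTwo.nf]⟩
  have hxR : x ∈ R := ⟨((0, 1), (0, 0)), by simp [HeisTwo.psi, HeisTwo.nf]⟩
  have hdR : d ∈ R := ⟨((0, 0), (0, 1)), by simp [HeisTwo.psi, HeisTwo.nf]⟩
  have hPR : P ≤ R := hQeq ▸ (closure_le R).mpr (fun z hz => by rcases hz with rfl | rfl; exacts [haR, hxR])
  have hsurj : Function.Surjective (HeisTwo.psi a x c d) := by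
    intro y
    rcases hKP y with h | h
    · exact hPR h
    · have := R.mul_mem hdR (hPR h)
      rwa [dd] at this
  refine ⟨a, x, c, d, hrel, HeisTwo.bij_of_card hrel ?_ hsurj⟩
  have hle : Nat.card K ≤ 54 := (Nat.card_le_card_of_surjective _ hsurj).trans_eq (by
    rw [Nat.card_eq_fintype_card]; rfl)
  obtain ⟨n, hn⟩ := IsPGroup.iff_card.mp hP
  have hn3 : 3 ≤ n := by
    by_contra hlt
    refine hab ?_
    have hcomm : IsMulCommutative P := by
      rcases (show n = 0 ∨ n = 1 ∨ n = 2 by omega) with rfl | rfl | rfl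
      · haveI : Subsingleton P := (Nat.card_eq_one_iff_unique.mp (by simpa using hn)).1
        exact ⟨⟨fun u v => Subsingleton.elim _ _⟩⟩
      · haveI := isCyclic_of_prime_card (p := 3) (by simpa using hn)
        exact ⟨⟨fun u v => IsCyclic.commGroup.mul_comm u v⟩⟩
      · exact ⟨⟨(IsPGroup.commGroupOfCardEqPrimeSq hn).mul_comm⟩⟩
    exact fun u hu v hv => congrArg Subtype.val (hcomm.is_comm.comm (⟨u, hu⟩ : P) ⟨v, hv⟩)
  have h2i : 2 ≤ P.index := by
    rcases Nat.lt_or_ge P.index 2 with h | h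
    · exfalso
      have := Nat.pos_of_ne_zero (Subgroup.index_ne_zero_of_finite (H := P))
      exact hdP ((Subgroup.index_eq_one.mp (by omega : P.index = 1)).symm ▸ mem_top d)
    · exact h
  have h27 : 27 ≤ Nat.card P := by rw [hn]; exact le_trans (by norm_num) (Nat.pow_le_pow_right (by norm_num) hn3)
  have := P.card_mul_index
  have h54 : 27 * 2 ≤ Nat.card P * P.index := Nat.mul_le_mul h27 h2i
  omega

end Cfsg.Lib.TwoThree
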